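import Mathlib.Algebra.Homology.DerivedCategory.KProjective
import Mathlib.Algebra.Homology.DerivedCategory.HomologySequence
import Mathlib.Algebra.Homology.Embedding.CochainComplex
import Mathlib.CategoryTheory.ObjectProperty.ContainsZero
import Mathlib.CategoryTheory.Abelian.Projective.Basic

/-!
# Helper library (helper28): strictly perfect complexes relative to a liftable class of objects
-/

set_option autoImplicit false
universe w v u

open CategoryTheory CategoryTheory.Limits HomologicalComplex

namespace Groth.Agent.H28.Perf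

variable {C : Type u} [Category.{v} C] [Abelian C]

/-- Objects of a liftable class are projective. -/
lemma projective_of_hlift (P : ObjectProperty C)
    (hlift : ∀ (E F : C) (u : E ⟶ F), Epi u → P F → IsSplitEpi u) (X : C) (hX : P X) :
    Projective X := by
  constructor
  intro E Y f e he
  have hepi : Epi (pullback.snd e f) := inferInstance
  obtain ⟨⟨s, hs⟩⟩ := (hlift _ _ (pullback.snd e f) hepi hX).exists_splitEpi
  exact ⟨s ≫ pullback.fst e f, by
    rw [Category.assoc, pullback.condition, ← Category.assoc, hs, Category.id_comp]⟩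

section cycles

variable (M : CochainComplex C ℤ)

lemma epi_toCycles_of_isZero_homology (i j : ℤ) (hij : i + 1 = j)
    (h : IsZero (M.homology j)) : Epi (M.toCycles i j) :=
  Preadditive.epi_of_isZero_cokernel' _ (M.homologyIsCokernel i j (by subst hij; simp)) h

lemma iCycles_toCycles (i j : ℤ) : M.iCycles i ≫ M.toCycles i j = 0 := by
  rw [← cancel_mono (M.iCycles j), Category.assoc, M.toCycles_i, M.iCycles_d, zero_comp]

/-- `cycles i` is the kernel of `toCycles i (i+1)`. -/
noncomputable def cyclesIsoKernelToCycles (i j : ℤ) (hij : i + 1 = j) :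
    M.cycles i ≅ kernel (M.toCycles i j) where
  hom := kernel.lift _ (M.iCycles i) (iCycles_toCycles M i j)
  inv := M.liftCycles (kernel.ι _) j (by subst hij; simp) (by
    rw [← M.toCycles_i i j, ← Category.assoc, kernel.condition, zero_comp])
  hom_inv_id := by
    rw [← cancel_mono (M.iCycles i), Category.assoc, M.liftCycles_i, kernel.lift_ι,
      Category.id_comp]
  inv_hom_id := by
    rw [← cancel_mono (kernel.ι _), Category.assoc, kernel.lift_ι, M.liftCycles_i,
      Category.id_comp]

lemma isIso_toCycles (i j k : ℤ) (hij : i + 1 = j) (hjk : j + 1 = k)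
    (hz : IsZero (M.X i)) (hj : IsZero (M.homology j)) (hk : IsZero (M.homology k)) :
    IsIso (M.toCycles j k) := by
  have h1 : Epi (M.toCycles j k) := epi_toCycles_of_isZero_homology M j k hjk hk
  have h2 : Epi (M.toCycles i j) := epi_toCycles_of_isZero_homology M i j hij hj
  have hzc : IsZero (M.cycles j) := (IsZero.iff_id_eq_zero _).2 (by
    rw [← cancel_epi (M.toCycles i j)]; exact hz.eq_of_src _ _)
  have h3 : Mono (M.d j k) :=
    Preadditive.mono_of_isZero_kernel' _ (M.cyclesIsKernel j k (by subst hjk; simp)) hzc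
  have h4 : Mono (M.toCycles j k ≫ M.iCycles k) := by rw [M.toCycles_i]; exact h3
  have h5 : Mono (M.toCycles j k) := mono_of_mono _ (M.iCycles k)
  exact isIso_of_mono_of_epi _

variable (P : ObjectProperty C) [P.IsClosedUnderIsomorphisms]

/-- Downward induction: cycles of a complex with terms in `P` and acyclic above `b` are in `P`. -/
lemma prop_cycles
    (hst : ∀ (E F : C) (u : E ⟶ F), Epi u → P E → P F → P (kernel u))
    (b c : ℤ) (hP : ∀ i, b ≤ i → P (M.X i)) (hvan : ∀ i, c < i → IsZero (M.X i))
    (hcoh : ∀ i, b < i → IsZero (M.homology i)) :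
    ∀ (k : ℕ) (i : ℤ), i + k = c → b ≤ i → P (M.cycles i) := by
  intro k
  induction k with
  | zero =>
    intro i hi hbi
    have hd : M.d i (i + 1) = 0 := (hvan (i + 1) (by simp at hi; lia)).eq_of_tgt _ _
    exact P.prop_of_iso (M.iCyclesIso i (i + 1) (by simp) hd).symm (hP i hbi)
  | succ k ih =>
    intro i hi hbi
    have h1 : P (M.cycles (i + 1)) := ih (i + 1) (by push_cast at hi ⊢; lia) (by lia)
    have h2 : Epi (M.toCycles i (i + 1)) :=
      epi_toCycles_of_isZero_homology M i (i + 1) rfl (hcoh _ (by lia))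
    exact P.prop_of_iso (cyclesIsoKernelToCycles M i (i + 1) rfl).symm
      (hst _ _ _ h2 (hP i hbi) h1)

/-- If the cycles in degrees `i` and `i+1` are in `P` and the complex is exact at `i+1`, then
the term in degree `i` is in `P` (the sequence of cycles splits). -/
lemma prop_X_of_prop_cycles (hsum : ∀ X Y : C, P X → P Y → P (X ⨯ Y))
    (hlift : ∀ (E F : C) (u : E ⟶ F), Epi u → P F → IsSplitEpi u)
    (i j : ℤ) (hij : i + 1 = j)
    (h0 : IsZero (M.homology j)) (h1 : P (M.cycles i)) (h2 : P (M.cycles j)) : P (M.X i) := by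
  have hepi : Epi (M.toCycles i j) := epi_toCycles_of_isZero_homology M i j hij h0
  obtain ⟨⟨s, hs⟩⟩ := (hlift _ _ (M.toCycles i j) hepi h2).exists_splitEpi
  have hnext : (ComplexShape.up ℤ).next i = j := by subst hij; simp
  obtain ⟨r, hr⟩ : ∃ r : M.X i ⟶ M.cycles i, r ≫ M.iCycles i = 𝟙 _ - M.toCycles i j ≫ s :=
    ⟨M.liftCycles (𝟙 _ - M.toCycles i j ≫ s) j hnext (by
      rw [← M.toCycles_i i j, ← Category.assoc, Preadditive.sub_comp, Category.id_comp,
        Category.assoc, hs, Category.comp_id, sub_self, zero_comp]), M.liftCycles_i _ _ _ _⟩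
  let S : ShortComplex C := ShortComplex.mk (M.iCycles i) (M.toCycles i j) (iCycles_toCycles M i j)
  let spl : S.Splitting :=
    { r := r
      s := s
      f_r := by
        show M.iCycles i ≫ r = 𝟙 _
        rw [← cancel_mono (M.iCycles i), Category.assoc, hr, Preadditive.comp_sub,
          Category.comp_id, ← Category.assoc, iCycles_toCycles, zero_comp, sub_zero,
          Category.id_comp]
      s_g := hs
      id := by
        show r ≫ M.iCycles i + M.toCycles i j ≫ s = 𝟙 _
        rw [hr, sub_add_cancel] }
  have e : M.X i ≅ M.cycles i ⊞ M.cycles j := spl.isoBinaryBiproduct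
  exact P.prop_of_iso ((biprod.isoProd _ _).symm ≪≫ e.symm) (hsum _ _ h1 h2)

/-- A direct complement of an object of `P` inside an object of `P` is in `P`. -/
lemma prop_of_biprod_left
    (hst : ∀ (E F : C) (u : E ⟶ F), Epi u → P E → P F → P (kernel u))
    {X Y : C} (hXY : P (X ⊞ Y)) (hX : P X) : P Y :=
  P.prop_of_iso (IsLimit.conePointUniqueUpToIso (kernelIsKernel _)
    (biprod.isKernelFstKernelFork X Y))
    (hst _ _ (biprod.fst : X ⊞ Y ⟶ X) inferInstance hXY hX)

end cycles

section cone

open CochainComplex

variable (P : ObjectProperty C) [P.IsClosedUnderIsomorphisms]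

lemma prop_mappingCone_X (hsum : ∀ X Y : C, P X → P Y → P (X ⨯ Y))
    {K L : CochainComplex C ℤ} (φ : K ⟶ L) (i : ℤ) (h1 : P (K.X (i + 1))) (h2 : P (L.X i)) :
    P ((mappingCone φ).X i) :=
  P.prop_of_iso ((biprod.isoProd _ _).symm ≪≫ (homotopyCofiber.XIsoBiprod φ i (i + 1) rfl).symm)
    (hsum _ _ h1 h2)

variable [HasDerivedCategory.{w} C]

lemma isZero_homology_mappingCone {K L : CochainComplex C ℤ} (φ : K ⟶ L) [QuasiIso φ] (i : ℤ) :
    IsZero ((mappingCone φ).homology i) := by
  have hT := DerivedCategory.mappingCone_triangle_distinguished φ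
  have h0 : IsZero (DerivedCategory.Q.obj (mappingCone φ)) :=
    (Pretriangulated.Triangle.isZero₃_iff_isIso₁ _ hT).2
      (inferInstanceAs (IsIso (DerivedCategory.Q.map φ)))
  exact IsZero.of_iso ((DerivedCategory.homologyFunctor C i).map_isZero h0)
    ((DerivedCategory.homologyFunctorFactors C i).app (mappingCone φ)).symm

/-- Morphisms in the derived category out of a K-projective complex are induced by chain maps. -/
lemma exists_Q_map_eq (K L : CochainComplex C ℤ) [K.IsKProjective]
    (f : DerivedCategory.Q.obj K ⟶ DerivedCategory.Q.obj L) :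
    ∃ φ : K ⟶ L, DerivedCategory.Q.map φ = f := by
  obtain ⟨g, hg⟩ := (CochainComplex.IsKProjective.Qh_map_bijective K
    ((HomotopyCategory.quotient _ _).obj L)).surjective
    ((DerivedCategory.quotientCompQhIso C).hom.app K ≫ f ≫
      (DerivedCategory.quotientCompQhIso C).inv.app L)
  obtain ⟨φ, rfl⟩ := (HomotopyCategory.quotient _ _).map_surjective g
  refine ⟨φ, ?_⟩
  have h := DerivedCategory.quotientCompQhIso_hom_naturality φ
  rw [hg] at h
  simp only [Category.assoc, Iso.inv_hom_id_app, Category.comp_id] at h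
  exact ((cancel_epi _).1 h).symm

omit [P.IsClosedUnderIsomorphisms] [HasDerivedCategory.{w} C] in
/-- A bounded above complex with terms in a liftable class is K-projective. -/
lemma isKProjective_of_prop
    (hlift : ∀ (E F : C) (u : E ⟶ F), Epi u → P F → IsSplitEpi u)
    (E : CochainComplex C ℤ) (b : ℤ) (hz : ∀ i : ℤ, b < i → IsZero (E.X i))
    (hP : ∀ i : ℤ, P (E.X i)) : E.IsKProjective := by
  have : E.IsStrictlyLE b := (E.isStrictlyLE_iff b).2 (fun i hi => hz i hi)
  have : ∀ n, Projective (E.X n) := fun n => projective_of_hlift P hlift _ (hP n)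
  exact CochainComplex.isKProjective_of_projective E b

end cone

end Groth.Agent.H28.Perf
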