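import Groth.Prelude.Def_PCoh
import Groth.Agent.H28.Perfect
import Mathlib.Algebra.Homology.DerivedCategory.TStructure
import Mathlib.Algebra.Homology.DerivedCategory.Fractions
import Mathlib.Algebra.Homology.DerivedCategory.HomologySequence

/-!
# Helper library (helper28): pseudo-coherence in `D(C)` — brutal truncation and `n`-isomorphisms
-/

set_option autoImplicit false
universe w v u

open CategoryTheory CategoryTheory.Limits HomologicalComplex
open scoped ZeroObject

namespace Groth.Agent.H28.PCohD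

variable {C : Type u} [Category.{v} C] [Abelian C]

section brutal

/-- The brutal truncation `σ_{≥ n} K`. -/
noncomputable def brutalGE (K : CochainComplex C ℤ) (n : ℤ) : CochainComplex C ℤ where
  X i := if n ≤ i then K.X i else 0
  d i j := if h : n ≤ i ∧ n ≤ j then
      eqToHom (if_pos h.1) ≫ K.d i j ≫ eqToHom (if_pos h.2).symm else 0
  shape i j hij := by
    by_cases h : n ≤ i ∧ n ≤ j
    · rw [dif_pos h, K.shape i j hij, zero_comp, comp_zero]
    · rw [dif_neg h]
  d_comp_d' i j k _ _ := by
    by_cases h1 : n ≤ i ∧ n ≤ j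
    · by_cases h2 : n ≤ j ∧ n ≤ k
      · rw [dif_pos h1, dif_pos h2]; simp
      · rw [dif_neg h2, comp_zero]
    · rw [dif_neg h1, zero_comp]

lemma brutalGE_d_of_not (K : CochainComplex C ℤ) (n i j : ℤ) (h : ¬ (n ≤ i ∧ n ≤ j)) :
    (brutalGE K n).d i j = 0 := dif_neg h

lemma brutalGE_X_of (K : CochainComplex C ℤ) (n i : ℤ) (h : n ≤ i) :
    (brutalGE K n).X i = K.X i := if_pos h

lemma brutalGE_d_of (K : CochainComplex C ℤ) (n i j : ℤ) (h : n ≤ i ∧ n ≤ j) :
    (brutalGE K n).d i j =
      eqToHom (brutalGE_X_of K n i h.1) ≫ K.d i j ≫ eqToHom (brutalGE_X_of K n j h.2).symm :=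
  dif_pos h

/-- The inclusion `σ_{≥ n} K ⟶ K`. -/
noncomputable def brutalGEι (K : CochainComplex C ℤ) (n : ℤ) : brutalGE K n ⟶ K where
  f i := if h : n ≤ i then eqToHom (brutalGE_X_of K n i h) else 0
  comm' i j hij := by
    have hij' : i + 1 = j := hij
    by_cases hi : n ≤ i
    · have hj : n ≤ j := by lia
      rw [brutalGE_d_of K n i j ⟨hi, hj⟩, dif_pos hi, dif_pos hj]
      simp
    · rw [brutalGE_d_of_not K n i j (fun h => hi h.1), dif_neg hi, zero_comp, zero_comp]

lemma isZero_brutalGE_X (K : CochainComplex C ℤ) (n i : ℤ) (h : i < n) :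
    IsZero ((brutalGE K n).X i) := by
  dsimp [brutalGE]
  rw [if_neg (by lia)]
  exact isZero_zero C

lemma isIso_brutalGEι_f (K : CochainComplex C ℤ) (n i : ℤ) (h : n ≤ i) :
    IsIso ((brutalGEι K n).f i) := by
  dsimp [brutalGEι]
  rw [dif_pos h]
  infer_instance

lemma isIso_homologyMap_brutalGEι (K : CochainComplex C ℤ) (n i : ℤ) (h : n < i) :
    IsIso (homologyMap (brutalGEι K n) i) := by
  rw [← quasiIsoAt_iff_isIso_homologyMap, quasiIsoAt_iff]
  have h1 : IsIso ((brutalGEι K n).f ((ComplexShape.up ℤ).prev i)) :=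
    isIso_brutalGEι_f K n _ (by rw [CochainComplex.prev]; lia)
  have h2 : IsIso ((brutalGEι K n).f i) := isIso_brutalGEι_f K n _ (by lia)
  have h3 : IsIso ((brutalGEι K n).f ((ComplexShape.up ℤ).next i)) :=
    isIso_brutalGEι_f K n _ (by rw [CochainComplex.next]; lia)
  have e1 : Epi ((shortComplexFunctor C (ComplexShape.up ℤ) i).map (brutalGEι K n)).τ₁ := by
    change Epi ((brutalGEι K n).f ((ComplexShape.up ℤ).prev i)); infer_instance
  have e2 : IsIso ((shortComplexFunctor C (ComplexShape.up ℤ) i).map (brutalGEι K n)).τ₂ := by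
    change IsIso ((brutalGEι K n).f i); infer_instance
  have e3 : Mono ((shortComplexFunctor C (ComplexShape.up ℤ) i).map (brutalGEι K n)).τ₃ := by
    change Mono ((brutalGEι K n).f ((ComplexShape.up ℤ).next i)); infer_instance
  exact ShortComplex.quasiIso_of_epi_of_isIso_of_mono _

lemma epi_homologyMap_brutalGEι (K : CochainComplex C ℤ) (n : ℤ) :
    Epi (homologyMap (brutalGEι K n) n) := by
  have h2 : IsIso ((brutalGEι K n).f n) := isIso_brutalGEι_f K n _ le_rfl
  have h3 : IsIso ((brutalGEι K n).f ((ComplexShape.up ℤ).next n)) :=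
    isIso_brutalGEι_f K n _ (by rw [CochainComplex.next]; lia)
  have hc : IsIso (cyclesMap (brutalGEι K n) n) := by
    have e2 : IsIso ((shortComplexFunctor C (ComplexShape.up ℤ) n).map (brutalGEι K n)).τ₂ := by
      change IsIso ((brutalGEι K n).f n); infer_instance
    have e3 : Mono ((shortComplexFunctor C (ComplexShape.up ℤ) n).map (brutalGEι K n)).τ₃ := by
      change Mono ((brutalGEι K n).f ((ComplexShape.up ℤ).next n)); infer_instance
    exact ShortComplex.isIso_cyclesMap_of_isIso_of_mono' _ e2 e3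
  have : Epi ((brutalGE K n).homologyπ n ≫ homologyMap (brutalGEι K n) n) := by
    rw [homologyπ_naturality]; infer_instance
  exact epi_of_epi ((brutalGE K n).homologyπ n) _

end brutal

section derived

variable [HasDerivedCategory.{w} C]

open DerivedCategory

lemma isIso_homologyFunctor_map_Q_iff {K L : CochainComplex C ℤ} (φ : K ⟶ L) (i : ℤ) :
    IsIso ((DerivedCategory.homologyFunctor C i).map (DerivedCategory.Q.map φ)) ↔
      IsIso (homologyMap φ i) :=
  NatIso.isIso_map_iff (DerivedCategory.homologyFunctorFactors C i) φ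

lemma epi_homologyFunctor_map_Q_iff {K L : CochainComplex C ℤ} (φ : K ⟶ L) (i : ℤ) :
    Epi ((DerivedCategory.homologyFunctor C i).map (DerivedCategory.Q.map φ)) ↔
      Epi (homologyMap φ i) := by
  have h : (DerivedCategory.Q ⋙ DerivedCategory.homologyFunctor C i).map φ ≫
      (DerivedCategory.homologyFunctorFactors C i).hom.app L =
      (DerivedCategory.homologyFunctorFactors C i).hom.app K ≫
        (HomologicalComplex.homologyFunctor C (ComplexShape.up ℤ) i).map φ :=
    (DerivedCategory.homologyFunctorFactors C i).hom.naturality φ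
  change Epi ((DerivedCategory.Q ⋙ DerivedCategory.homologyFunctor C i).map φ) ↔
    Epi ((HomologicalComplex.homologyFunctor C (ComplexShape.up ℤ) i).map φ)
  constructor
  · intro _
    have : Epi ((DerivedCategory.homologyFunctorFactors C i).hom.app K ≫
        (HomologicalComplex.homologyFunctor C (ComplexShape.up ℤ) i).map φ) := by
      rw [← h]; infer_instance
    exact epi_of_epi ((DerivedCategory.homologyFunctorFactors C i).hom.app K) _
  · intro _
    have h' : (DerivedCategory.Q ⋙ DerivedCategory.homologyFunctor C i).map φ =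
        ((DerivedCategory.homologyFunctorFactors C i).hom.app K ≫
          (HomologicalComplex.homologyFunctor C (ComplexShape.up ℤ) i).map φ) ≫
          (DerivedCategory.homologyFunctorFactors C i).inv.app L := by
      rw [← h, Category.assoc, Iso.hom_inv_id_app, Category.comp_id]
    rw [h']; infer_instance

variable (P : ObjectProperty C) [P.IsClosedUnderIsomorphisms] [P.ContainsZero]

/-- (i') ⇒ (ii'): the brutal truncation of a strictly `n`-pseudo-coherent complex gives a strictly
perfect complex with an `n`-isomorphism. -/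
lemma exists_nIso_of_strictPC (n : ℤ) (F : DerivedCategory C) (E₀ : CochainComplex C ℤ)
    (hE₀ : PCoh.IsStrictPC P n E₀) (e : DerivedCategory.Q.obj E₀ ≅ F) :
    ∃ (E : CochainComplex C ℤ) (a b : ℤ) (α : DerivedCategory.Q.obj E ⟶ F),
      (∀ i : ℤ, i < a ∨ b < i → IsZero (E.X i)) ∧ (∀ i : ℤ, P (E.X i)) ∧
      (∀ i : ℤ, n < i → IsIso ((DerivedCategory.homologyFunctor C i).map α)) ∧
      Epi ((DerivedCategory.homologyFunctor C n).map α) := by
  obtain ⟨⟨b₀, hb₀⟩, hP₀⟩ := hE₀
  have h1 := le_max_left b₀ n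
  have h2 := le_max_right b₀ n
  refine ⟨brutalGE E₀ n, n, max b₀ n, DerivedCategory.Q.map (brutalGEι E₀ n) ≫ e.hom,
    ?_, ?_, ?_, ?_⟩
  · rintro i (hi | hi)
    · exact isZero_brutalGE_X E₀ n i hi
    · have : IsIso ((brutalGEι E₀ n).f i) := isIso_brutalGEι_f E₀ n i (by lia)
      exact IsZero.of_iso (hb₀ i (by lia)) (asIso ((brutalGEι E₀ n).f i))
  · intro i
    by_cases hi : n ≤ i
    · have : IsIso ((brutalGEι E₀ n).f i) := isIso_brutalGEι_f E₀ n i hi
      exact P.prop_of_iso (asIso ((brutalGEι E₀ n).f i)).symm (hP₀ i hi)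
    · exact P.prop_of_isZero (isZero_brutalGE_X E₀ n i (by lia))
  · intro i hi
    rw [Functor.map_comp]
    have := (isIso_homologyFunctor_map_Q_iff (brutalGEι E₀ n) i).2
      (isIso_homologyMap_brutalGEι E₀ n i hi)
    infer_instance
  · rw [Functor.map_comp]
    have := (epi_homologyFunctor_map_Q_iff (brutalGEι E₀ n) n).2
      (epi_homologyMap_brutalGEι E₀ n)
    infer_instance

open CategoryTheory.Pretriangulated in
/-- (ii') ⇒ (i'): the target of an `n`-isomorphism from a strictly perfect complex is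
`n`-pseudo-coherent. -/
lemma strictPC_of_nIso (hsum : ∀ X Y : C, P X → P Y → P (X ⨯ Y)) (n : ℤ) (F : DerivedCategory C)
    (E : CochainComplex C ℤ) (b : ℤ) (hz : ∀ i : ℤ, b < i → IsZero (E.X i))
    (hP : ∀ i : ℤ, P (E.X i)) (α : DerivedCategory.Q.obj E ⟶ F)
    (hiso : ∀ i : ℤ, n < i → IsIso ((DerivedCategory.homologyFunctor C i).map α))
    (hepi : Epi ((DerivedCategory.homologyFunctor C n).map α)) :
    ∃ E' : CochainComplex C ℤ, PCoh.IsStrictPC P n E' ∧
      Nonempty (DerivedCategory.Q.obj E' ≅ F) := by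
  obtain ⟨N, δ, h, hT⟩ := distinguished_cocone_triangle₁ α
  have hN : N.IsLE n := by
    rw [DerivedCategory.isLE_iff]
    intro i hi
    have hm : Mono ((DerivedCategory.homologyFunctor C i).map α) := by
      have := hiso i hi; infer_instance
    have h1 : (DerivedCategory.homologyFunctor C i).map δ = 0 :=
      (HomologySequence.mono_homologyMap_mor₂_iff _ hT i).1 hm
    have hepi' : Epi ((DerivedCategory.homologyFunctor C (i - 1)).map α) := by
      rcases (show n = i - 1 ∨ n < i - 1 by lia) with h | h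
      · subst h; exact hepi
      · have := hiso (i - 1) h; infer_instance
    have h2 : HomologySequence.δ (Triangle.mk δ α h) (i - 1) i (by lia) = 0 :=
      (HomologySequence.epi_homologyMap_mor₂_iff _ hT (i - 1) i (by lia)).1 hepi'
    exact (HomologySequence.exact₁ _ hT (i - 1) i (by lia)).isZero_of_both_zeros h2 h1
  obtain ⟨K, hK, ⟨e⟩⟩ := N.exists_iso_Q_obj_of_isLE n
  obtain ⟨K', hK', s, hs, g, fac⟩ := DerivedCategory.right_fac_of_isStrictlyLE (e.inv ≫ δ) n
  have hs' : IsIso (DerivedCategory.Q.map s) := hs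
  have hT'' := DerivedCategory.mappingCone_triangle_distinguished g
  let e₁ : DerivedCategory.Q.obj K' ≅ N := asIso (DerivedCategory.Q.map s) ≪≫ e.symm
  have comm : (DerivedCategory.Q.mapTriangle.obj (CochainComplex.mappingCone.triangle g)).mor₁ ≫
      (Iso.refl (DerivedCategory.Q.obj E)).hom = e₁.hom ≫ (Triangle.mk δ α h).mor₁ := by
    change DerivedCategory.Q.map g ≫ 𝟙 _ = (DerivedCategory.Q.map s ≫ e.inv) ≫ δ
    rw [Category.comp_id, Category.assoc, fac]
    simp
  have iso := isoTriangleOfIso₁₂ _ _ hT'' hT e₁ (Iso.refl _) comm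
  have h1 := le_max_left b n
  have h2 := le_max_right b n
  refine ⟨CochainComplex.mappingCone g, ⟨⟨max b n, ?_⟩, ?_⟩, ⟨Triangle.π₃.mapIso iso⟩⟩
  · intro i hi
    rw [CochainComplex.mappingCone.isZero_X_iff]
    exact ⟨K'.isZero_of_isStrictlyLE n (i + 1) (by lia), hz i (by lia)⟩
  · intro i hi
    exact Groth.Agent.H28.Perf.prop_mappingCone_X P hsum g i
      (P.prop_of_isZero (K'.isZero_of_isStrictlyLE n (i + 1) (by lia))) (hP i)

end derived

end Groth.Agent.H28.PCohD
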