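import Groth.Prelude.Def_KZero
import Mathlib.Algebra.Homology.DerivedCategory.TStructure
import Mathlib.Algebra.Homology.DerivedCategory.SingleTriangle
import Mathlib.Algebra.Homology.DerivedCategory.FullyFaithful
import Mathlib.Algebra.BigOperators.Finprod
import Mathlib.Data.Int.Interval
import Mathlib.Tactic.Abel
import Mathlib.Tactic.Ring

/-!
# K₀ of an abelian category versus K₀ of its bounded derived category

For an abelian category `A` and an object property `B` closed under isomorphisms, containing the zero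
objects and closed under kernels, the Euler characteristic gives an isomorphism between `K0sub B` and
`K0tr` of the bounded objects of `D(A)` with cohomology in `B`.
-/

set_option autoImplicit false
universe w v u
open CategoryTheory CategoryTheory.Limits CategoryTheory.Pretriangulated
open scoped ZeroObject

namespace Groth.Agent.H28.K0D

section Tele

theorem finsum_tele {M : Type*} [AddCommGroup M] (f₁ f₂ f₃ F : ℤ → M)
    (h₁ : (Function.support f₁).Finite) (h₃ : (Function.support f₃).Finite)
    (hF : (Function.support F).Finite)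
    (key : ∀ i, f₂ i = f₁ i + f₃ i + (F (i + 1) - F i)) :
    ∑ᶠ i, f₂ i = ∑ᶠ i, f₁ i + ∑ᶠ i, f₃ i := by
  have hF' : (Function.support (fun i => F (i + 1))).Finite := by
    have : Function.support (fun i => F (i + 1)) =
        (fun i : ℤ => i + 1) ⁻¹' (Function.support F) := rfl
    rw [this]
    exact hF.preimage (add_left_injective (1 : ℤ)).injOn
  have hshift : ∑ᶠ i : ℤ, F (i + 1) = ∑ᶠ i : ℤ, F i :=
    finsum_comp_equiv (Equiv.addRight (1 : ℤ)) (f := F)
  have h13 : (Function.support (fun i => f₁ i + f₃ i)).Finite :=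
    (h₁.union h₃).subset (Function.support_add f₁ f₃)
  have hFF : (Function.support (fun i => F (i + 1) - F i)).Finite :=
    (hF'.union hF).subset (Function.support_sub _ _)
  rw [finsum_congr key, finsum_add_distrib h13 hFF, finsum_add_distrib h₁ h₃,
    finsum_sub_distrib hF' hF, hshift, sub_self, add_zero]

end Tele

section Sub

variable {A : Type u} [Category.{v} A] [Abelian A]

/-- The closure properties we need. -/
structure Good (B : ObjectProperty A) : Prop where
  iso : ∀ {X Y : A}, (X ≅ Y) → B X → B Y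
  zero : ∀ {X : A}, IsZero X → B X
  ker : ∀ {X Y : A} (f : X ⟶ Y), B X → B Y → B (kernel f)

theorem good_top : Good (⊤ : ObjectProperty A) :=
  ⟨fun _ _ => trivial, fun _ => trivial, fun _ _ _ => trivial⟩

variable (B : ObjectProperty A)

theorem clSub_eq {X : A} (h : B X) :
    KZero.clSub B X =
      (QuotientAddGroup.mk (FreeAbelianGroup.of (⟨X, h⟩ : Subtype B)) : KZero.K0sub B) := by
  unfold KZero.clSub
  rw [dif_pos h]

theorem clSub_rel (S : ShortComplex A) (hS : S.ShortExact) (h₁ : B S.X₁) (h₂ : B S.X₂)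
    (h₃ : B S.X₃) :
    KZero.clSub B S.X₂ = KZero.clSub B S.X₁ + KZero.clSub B S.X₃ := by
  have hmem : FreeAbelianGroup.of (⟨S.X₂, h₂⟩ : Subtype B) - FreeAbelianGroup.of ⟨S.X₁, h₁⟩ -
      FreeAbelianGroup.of ⟨S.X₃, h₃⟩ ∈ KZero.relSub B :=
    AddSubgroup.subset_closure ⟨S, h₁, h₂, h₃, hS, rfl⟩
  have h0 := (QuotientAddGroup.eq_zero_iff _).2 hmem
  rw [QuotientAddGroup.mk_sub, QuotientAddGroup.mk_sub, sub_sub, sub_eq_zero] at h0
  rw [clSub_eq B h₁, clSub_eq B h₂, clSub_eq B h₃]
  exact h0

theorem clSub_isZero (hB : Good B) {Z : A} (hZ : IsZero Z) : KZero.clSub B Z = 0 := by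
  have hS : (ShortComplex.mk (𝟙 Z) (𝟙 Z) (hZ.eq_of_src _ _)).ShortExact :=
    ShortComplex.ShortExact.mk' (ShortComplex.exact_of_isZero_X₂ _ hZ)
      (inferInstanceAs (Mono (𝟙 Z))) (inferInstanceAs (Epi (𝟙 Z)))
  have h := clSub_rel B _ hS (hB.zero hZ) (hB.zero hZ) (hB.zero hZ)
  change KZero.clSub B Z = KZero.clSub B Z + KZero.clSub B Z at h
  have h' := congrArg (fun t => t - KZero.clSub B Z) h
  simp only [sub_self, add_sub_cancel_right] at h'
  exact h'.symm

theorem clSub_iso (hB : Good B) {X Y : A} (e : X ≅ Y) (hX : B X) :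
    KZero.clSub B X = KZero.clSub B Y := by
  have hS : (ShortComplex.mk e.hom (0 : Y ⟶ (0 : A)) comp_zero).ShortExact :=
    ShortComplex.ShortExact.mk'
      ((ShortComplex.exact_iff_epi _ rfl).2 (inferInstanceAs (Epi e.hom)))
      (inferInstanceAs (Mono e.hom)) (inferInstanceAs (Epi (0 : Y ⟶ (0 : A))))
  have h := clSub_rel B _ hS hX (hB.iso e hX) (hB.zero (isZero_zero A))
  change KZero.clSub B Y = KZero.clSub B X + KZero.clSub B (0 : A) at h
  rw [clSub_isZero B hB (isZero_zero A), add_zero] at h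
  exact h.symm

theorem clSub_exact (hB : Good B) {Y Z W : A} (g : Y ⟶ Z) (h : Z ⟶ W) (w : g ≫ h = 0)
    (hex : (ShortComplex.mk g h w).Exact) (hY : B Y) (hZ : B Z) (hW : B W) :
    KZero.clSub B Y = KZero.clSub B (kernel g) + KZero.clSub B (kernel h) := by
  have w' : kernel.ι g ≫ kernel.lift h g w = 0 := by
    apply (cancel_mono (kernel.ι h)).1
    rw [Category.assoc, kernel.lift_ι, kernel.condition, zero_comp]
  have hepi : Epi (kernel.lift h g w) :=
    ((ShortComplex.mk g h w).exact_iff_epi_kernel_lift).1 hex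
  have hS₁ : (ShortComplex.mk (kernel.ι g) (kernel.lift h g w) w').Exact :=
    ShortComplex.exact_of_f_is_kernel _ (KernelFork.IsLimit.ofι' _ _ (fun {T} k hk => by
      have h1 : (k ≫ kernel.lift h g w) ≫ kernel.ι h = k ≫ g := by
        rw [Category.assoc, kernel.lift_ι]
      have hkg : k ≫ g = 0 := by rw [← h1, hk, zero_comp]
      exact ⟨kernel.lift g k hkg, kernel.lift_ι _ _ _⟩))
  have hSE : (ShortComplex.mk (kernel.ι g) (kernel.lift h g w) w').ShortExact :=
    ShortComplex.ShortExact.mk' hS₁ (inferInstanceAs (Mono (kernel.ι g))) hepi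
  exact clSub_rel B _ hSE (hB.ker g hY hZ) hY (hB.ker h hZ hW)

/-! The comparison `K0 A ≃+ K0sub ⊤`. -/

variable (A) in
noncomputable def toSub : KZero.K0 A →+ KZero.K0sub (⊤ : ObjectProperty A) :=
  QuotientAddGroup.lift (KZero.relAb A)
    (FreeAbelianGroup.lift (fun X : A => KZero.clSub (⊤ : ObjectProperty A) X))
    (by
      unfold KZero.relAb
      rw [AddSubgroup.closure_le]
      rintro x ⟨S, hS, rfl⟩
      rw [SetLike.mem_coe, AddMonoidHom.mem_ker, map_sub, map_sub,
        FreeAbelianGroup.lift_apply_of, FreeAbelianGroup.lift_apply_of,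
        FreeAbelianGroup.lift_apply_of]
      rw [clSub_rel (⊤ : ObjectProperty A) S hS trivial trivial trivial]
      abel)

variable (A) in
noncomputable def ofSub : KZero.K0sub (⊤ : ObjectProperty A) →+ KZero.K0 A :=
  QuotientAddGroup.lift (KZero.relSub (⊤ : ObjectProperty A))
    (FreeAbelianGroup.lift (fun X : Subtype (⊤ : ObjectProperty A) => KZero.cl X.1))
    (by
      unfold KZero.relSub
      rw [AddSubgroup.closure_le]
      rintro x ⟨S, h₁, h₂, h₃, hS, rfl⟩
      rw [SetLike.mem_coe, AddMonoidHom.mem_ker, map_sub, map_sub,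
        FreeAbelianGroup.lift_apply_of, FreeAbelianGroup.lift_apply_of,
        FreeAbelianGroup.lift_apply_of]
      dsimp only
      have hmem : FreeAbelianGroup.of S.X₂ - FreeAbelianGroup.of S.X₁ -
          FreeAbelianGroup.of S.X₃ ∈ KZero.relAb A :=
        AddSubgroup.subset_closure ⟨S, hS, rfl⟩
      have h0 := (QuotientAddGroup.eq_zero_iff _).2 hmem
      rw [QuotientAddGroup.mk_sub, QuotientAddGroup.mk_sub] at h0
      exact h0)

theorem toSub_cl (X : A) : toSub A (KZero.cl X) = KZero.clSub (⊤ : ObjectProperty A) X := by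
  unfold toSub KZero.cl
  rw [QuotientAddGroup.lift_mk, FreeAbelianGroup.lift_apply_of]

theorem ofSub_clSub (X : A) : ofSub A (KZero.clSub (⊤ : ObjectProperty A) X) = KZero.cl X := by
  rw [clSub_eq (⊤ : ObjectProperty A) (X := X) trivial]
  unfold ofSub
  rw [QuotientAddGroup.lift_mk, FreeAbelianGroup.lift_apply_of]

theorem ofSub_toSub (x : KZero.K0 A) : ofSub A (toSub A x) = x := by
  obtain ⟨z, rfl⟩ := QuotientAddGroup.mk_surjective x
  induction z using FreeAbelianGroup.induction_on with
  | zero => rw [QuotientAddGroup.mk_zero, map_zero, map_zero]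
  | of X =>
    have h1 : (QuotientAddGroup.mk (FreeAbelianGroup.of X) : KZero.K0 A) = KZero.cl X := rfl
    rw [h1, toSub_cl, ofSub_clSub]
  | neg X ih => rw [QuotientAddGroup.mk_neg, map_neg, map_neg, ih]
  | add x y hx hy => rw [QuotientAddGroup.mk_add, map_add, map_add, hx, hy]

theorem toSub_ofSub (x : KZero.K0sub (⊤ : ObjectProperty A)) : toSub A (ofSub A x) = x := by
  obtain ⟨z, rfl⟩ := QuotientAddGroup.mk_surjective x
  induction z using FreeAbelianGroup.induction_on with
  | zero => rw [QuotientAddGroup.mk_zero, map_zero, map_zero]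
  | of X =>
    have h1 : (QuotientAddGroup.mk (FreeAbelianGroup.of X) : KZero.K0sub (⊤ : ObjectProperty A)) =
        KZero.clSub (⊤ : ObjectProperty A) X.1 := (clSub_eq (⊤ : ObjectProperty A) X.2).symm
    rw [h1, ofSub_clSub, toSub_cl]
  | neg X ih => rw [QuotientAddGroup.mk_neg, map_neg, map_neg, ih]
  | add x y hx hy => rw [QuotientAddGroup.mk_add, map_add, map_add, hx, hy]

variable (A) in
noncomputable def equivTop : KZero.K0 A ≃+ KZero.K0sub (⊤ : ObjectProperty A) where
  toFun := toSub A
  invFun := ofSub A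
  left_inv := ofSub_toSub
  right_inv := toSub_ofSub
  map_add' := map_add (toSub A)

theorem equivTop_cl (X : A) : equivTop A (KZero.cl X) = KZero.clSub (⊤ : ObjectProperty A) X :=
  toSub_cl X

end Sub

section Tr

variable {C : Type u} [Category.{v} C] [Preadditive C] [HasZeroObject C]
    [HasShift C ℤ] [∀ n : ℤ, (shiftFunctor C n).Additive] [Pretriangulated C]
    (P : ObjectProperty C)

theorem clTr_eq {X : C} (h : P X) :
    KZero.clTr P X =
      (QuotientAddGroup.mk (FreeAbelianGroup.of (⟨X, h⟩ : Subtype P)) : KZero.K0tr P) := by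
  unfold KZero.clTr
  rw [dif_pos h]

theorem clTr_rel (T : Triangle C) (hT : T ∈ distinguishedTriangles) (h₁ : P T.obj₁)
    (h₂ : P T.obj₂) (h₃ : P T.obj₃) :
    KZero.clTr P T.obj₂ = KZero.clTr P T.obj₁ + KZero.clTr P T.obj₃ := by
  have hmem : FreeAbelianGroup.of (⟨T.obj₂, h₂⟩ : Subtype P) -
      FreeAbelianGroup.of ⟨T.obj₁, h₁⟩ - FreeAbelianGroup.of ⟨T.obj₃, h₃⟩ ∈ KZero.relTr P :=
    AddSubgroup.subset_closure ⟨T, h₁, h₂, h₃, hT, rfl⟩
  have h0 := (QuotientAddGroup.eq_zero_iff _).2 hmem
  rw [QuotientAddGroup.mk_sub, QuotientAddGroup.mk_sub, sub_sub, sub_eq_zero] at h0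
  rw [clTr_eq P h₁, clTr_eq P h₂, clTr_eq P h₃]
  exact h0

theorem clTr_zero (h0 : P (0 : C)) : KZero.clTr P (0 : C) = 0 := by
  have h := clTr_rel P _ (contractible_distinguished (0 : C)) h0 h0 h0
  change KZero.clTr P (0 : C) = KZero.clTr P (0 : C) + KZero.clTr P (0 : C) at h
  have h' := congrArg (fun t => t - KZero.clTr P (0 : C)) h
  simp only [sub_self, add_sub_cancel_right] at h'
  exact h'.symm

theorem clTr_iso {X Y : C} (e : X ≅ Y) (hX : P X) (hY : P Y) (h0 : P (0 : C)) :
    KZero.clTr P X = KZero.clTr P Y := by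
  have hT : Triangle.mk e.hom (0 : Y ⟶ 0) 0 ∈ distTriang C := by
    rw [Triangle.distinguished_iff_of_isZero₃ _ (isZero_zero C)]
    change IsIso e.hom
    infer_instance
  have h := clTr_rel P _ hT hX hY h0
  change KZero.clTr P Y = KZero.clTr P X + KZero.clTr P (0 : C) at h
  rw [clTr_zero P h0, add_zero] at h
  exact h.symm

theorem clTr_shift_one (X : C) (hX : P X) (hX1 : P (X⟦(1 : ℤ)⟧)) (h0 : P (0 : C)) :
    KZero.clTr P (X⟦(1 : ℤ)⟧) = - KZero.clTr P X := by
  have h := clTr_rel P _ (contractible_distinguished₂ X) hX h0 hX1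
  change KZero.clTr P (0 : C) = KZero.clTr P X + KZero.clTr P (X⟦(1 : ℤ)⟧) at h
  rw [clTr_zero P h0] at h
  exact (neg_eq_of_add_eq_zero_right h.symm).symm

end Tr

section Der

variable {A : Type u} [Category.{v} A] [Abelian A] [HasDerivedCategory.{w} A]

/-- The degrees in which the cohomology does not vanish. -/
def nz (K : DerivedCategory A) : Set ℤ :=
  {i | ¬ IsZero ((DerivedCategory.homologyFunctor A i).obj K)}

theorem nz_finite (K : DerivedCategory A) (h : ∃ a b : ℤ, K.IsGE a ∧ K.IsLE b) :
    (nz K).Finite := by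
  obtain ⟨a, b, ha, hb⟩ := h
  have := ha
  have := hb
  refine (Set.finite_Icc a b).subset (fun i hi => ?_)
  rw [Set.mem_Icc]
  by_contra hc
  apply hi
  rw [not_and_or, not_le, not_le] at hc
  rcases hc with hc | hc
  · exact K.isZero_of_isGE a i hc
  · exact K.isZero_of_isLE b i hc

/-- The sign `(-1)^i`. -/
def sgn (i : ℤ) : ℤ := ((i.negOnePow : ℤˣ) : ℤ)

theorem sgn_succ (i : ℤ) : sgn (i + 1) = - sgn i := by
  unfold sgn
  rw [Int.negOnePow_succ, Units.val_neg]

theorem sgn_zero : sgn 0 = 1 := by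
  unfold sgn
  rw [Int.negOnePow_zero, Units.val_one]

variable (B : ObjectProperty A)

/-- Bounded objects with cohomology in `B`. -/
def PB : ObjectProperty (DerivedCategory A) := fun K =>
  (∀ i : ℤ, B ((DerivedCategory.homologyFunctor A i).obj K)) ∧ ∃ a b : ℤ, K.IsGE a ∧ K.IsLE b

noncomputable def term (K : DerivedCategory A) (i : ℤ) : KZero.K0sub B :=
  sgn i • KZero.clSub B ((DerivedCategory.homologyFunctor A i).obj K)

noncomputable def kerTerm (T : Triangle (DerivedCategory A)) (i : ℤ) : KZero.K0sub B :=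
  sgn i • KZero.clSub B (kernel ((DerivedCategory.homologyFunctor A i).map T.mor₁))

/-- The Euler characteristic. -/
noncomputable def chi (K : DerivedCategory A) : KZero.K0sub B := ∑ᶠ i : ℤ, term B K i

theorem support_term_subset (hB : Good B) (K : DerivedCategory A) :
    Function.support (term B K) ⊆ nz K := by
  intro i hi
  have hi' : term B K i ≠ 0 := hi
  intro hc
  apply hi'
  have hz : IsZero ((DerivedCategory.homologyFunctor A i).obj K) := hc
  unfold term
  rw [clSub_isZero B hB hz, smul_zero]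

theorem support_kerTerm_subset (hB : Good B) (T : Triangle (DerivedCategory A)) :
    Function.support (kerTerm B T) ⊆ nz T.obj₁ := by
  intro i hi
  have hi' : kerTerm B T i ≠ 0 := hi
  intro hc
  apply hi'
  have hz : IsZero ((DerivedCategory.homologyFunctor A i).obj T.obj₁) := hc
  have hk : IsZero (kernel ((DerivedCategory.homologyFunctor A i).map T.mor₁)) :=
    IsZero.of_mono (kernel.ι _) hz
  unfold kerTerm
  rw [clSub_isZero B hB hk, smul_zero]

theorem chi_additive (hB : Good B) (T : Triangle (DerivedCategory A))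
    (hT : T ∈ distTriang (DerivedCategory A))
    (h₁ : PB B T.obj₁) (h₂ : PB B T.obj₂) (h₃ : PB B T.obj₃) :
    chi B T.obj₂ = chi B T.obj₁ + chi B T.obj₃ := by
  have key : ∀ i : ℤ, term B T.obj₂ i =
      term B T.obj₁ i + term B T.obj₃ i + (kerTerm B T (i + 1) - kerTerm B T i) := by
    intro i
    have e1 := clSub_exact B hB _ _ _ (DerivedCategory.HomologySequence.exact₂ T hT i)
      (h₁.1 i) (h₂.1 i) (h₃.1 i)
    have e2 := clSub_exact B hB _ _ _ (DerivedCategory.HomologySequence.exact₃ T hT i (i + 1) rfl)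
      (h₂.1 i) (h₃.1 i) (h₁.1 (i + 1))
    have e3 := clSub_exact B hB _ _ _ (DerivedCategory.HomologySequence.exact₁ T hT i (i + 1) rfl)
      (h₃.1 i) (h₁.1 (i + 1)) (h₂.1 (i + 1))
    simp only [term, kerTerm]
    rw [e1, e2, e3, sgn_succ]
    simp only [smul_add, neg_smul]
    abel
  unfold chi
  exact finsum_tele _ _ _ (kerTerm B T)
    ((nz_finite _ h₁.2).subset (support_term_subset B hB _))
    ((nz_finite _ h₃.2).subset (support_term_subset B hB _))
    ((nz_finite _ h₁.2).subset (support_kerTerm_subset B hB T)) key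

theorem PB_single (hB : Good B) {M : A} (hM : B M) :
    PB B ((DerivedCategory.singleFunctor A 0).obj M) := by
  refine ⟨fun i => ?_, 0, 0, inferInstance, inferInstance⟩
  by_cases hi : i = 0
  · subst hi
    exact hB.iso ((DerivedCategory.singleFunctorCompHomologyFunctorIso A 0).app M).symm hM
  · apply hB.zero
    rcases lt_or_gt_of_ne hi with h | h
    · exact DerivedCategory.isZero_of_isGE _ 0 i h
    · exact DerivedCategory.isZero_of_isLE _ 0 i h

theorem PB_zero (hB : Good B) : PB B (0 : DerivedCategory A) := by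
  have hz : ∀ i : ℤ, IsZero ((DerivedCategory.homologyFunctor A i).obj (0 : DerivedCategory A)) :=
    fun i => Functor.map_isZero _ (isZero_zero _)
  exact ⟨fun i => hB.zero (hz i), 0, 0, (DerivedCategory.isGE_iff _ 0).2 (fun i _ => hz i),
    (DerivedCategory.isLE_iff _ 0).2 (fun i _ => hz i)⟩

theorem PB_iso (hB : Good B) {E E' : DerivedCategory A} (e : E ≅ E') (h : PB B E) : PB B E' := by
  obtain ⟨h1, a, b, ha, hb⟩ := h
  have := ha
  have := hb
  exact ⟨fun i => hB.iso ((DerivedCategory.homologyFunctor A i).mapIso e) (h1 i), a, b,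
    DerivedCategory.TStructure.t.isGE_of_iso e a, DerivedCategory.TStructure.t.isLE_of_iso e b⟩

theorem PB_shift (hB : Good B) (E : DerivedCategory A) (k : ℤ) (h : PB B E) : PB B (E⟦k⟧) := by
  obtain ⟨h1, a, b, ha, hb⟩ := h
  have := ha
  have := hb
  refine ⟨fun i => ?_, a - k, b - k,
    DerivedCategory.TStructure.t.isGE_shift E a k (a - k) (by lia),
    DerivedCategory.TStructure.t.isLE_shift E b k (b - k) (by lia)⟩
  exact hB.iso (((DerivedCategory.homologyFunctor A 0).shiftIso k i (k + i) rfl).app E).symm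
    (h1 (k + i))

/-- The Euler characteristic as a homomorphism. -/
noncomputable def psi (hB : Good B) : KZero.K0tr (PB B) →+ KZero.K0sub B :=
  QuotientAddGroup.lift (KZero.relTr (PB B))
    (FreeAbelianGroup.lift (fun E : Subtype (PB B) => chi B E.1))
    (by
      unfold KZero.relTr
      rw [AddSubgroup.closure_le]
      rintro x ⟨T, h₁, h₂, h₃, hT, rfl⟩
      rw [SetLike.mem_coe, AddMonoidHom.mem_ker, map_sub, map_sub,
        FreeAbelianGroup.lift_apply_of, FreeAbelianGroup.lift_apply_of,
        FreeAbelianGroup.lift_apply_of]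
      dsimp only
      rw [chi_additive B hB T hT h₁ h₂ h₃]
      abel)

/-- The map induced by placing an object in degree `0`. -/
noncomputable def phi (hB : Good B) : KZero.K0sub B →+ KZero.K0tr (PB B) :=
  QuotientAddGroup.lift (KZero.relSub B)
    (FreeAbelianGroup.lift (fun M : Subtype B =>
      KZero.clTr (PB B) ((DerivedCategory.singleFunctor A 0).obj M.1)))
    (by
      unfold KZero.relSub
      rw [AddSubgroup.closure_le]
      rintro x ⟨S, h₁, h₂, h₃, hS, rfl⟩
      rw [SetLike.mem_coe, AddMonoidHom.mem_ker, map_sub, map_sub,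
        FreeAbelianGroup.lift_apply_of, FreeAbelianGroup.lift_apply_of,
        FreeAbelianGroup.lift_apply_of]
      dsimp only
      have hrel : KZero.clTr (PB B) ((DerivedCategory.singleFunctor A 0).obj S.X₂) =
          KZero.clTr (PB B) ((DerivedCategory.singleFunctor A 0).obj S.X₁) +
          KZero.clTr (PB B) ((DerivedCategory.singleFunctor A 0).obj S.X₃) :=
        clTr_rel (PB B) _ hS.singleTriangle_distinguished (PB_single B hB h₁)
          (PB_single B hB h₂) (PB_single B hB h₃)
      rw [hrel]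
      abel)

theorem phi_clSub (hB : Good B) {M : A} (hM : B M) :
    phi B hB (KZero.clSub B M) =
      KZero.clTr (PB B) ((DerivedCategory.singleFunctor A 0).obj M) := by
  rw [clSub_eq B hM]
  unfold phi
  rw [QuotientAddGroup.lift_mk, FreeAbelianGroup.lift_apply_of]

theorem psi_clTr (hB : Good B) {E : DerivedCategory A} (hE : PB B E) :
    psi B hB (KZero.clTr (PB B) E) = chi B E := by
  rw [clTr_eq (PB B) hE]
  unfold psi
  rw [QuotientAddGroup.lift_mk, FreeAbelianGroup.lift_apply_of]

theorem chi_single (hB : Good B) {M : A} (hM : B M) :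
    chi B ((DerivedCategory.singleFunctor A 0).obj M) = KZero.clSub B M := by
  have hP := PB_single B hB hM
  have h0 : ∀ i : ℤ, i ≠ 0 → term B ((DerivedCategory.singleFunctor A 0).obj M) i = 0 := by
    intro i hi
    have hz : IsZero ((DerivedCategory.homologyFunctor A i).obj
        ((DerivedCategory.singleFunctor A 0).obj M)) := by
      rcases lt_or_gt_of_ne hi with h | h
      · exact DerivedCategory.isZero_of_isGE _ 0 i h
      · exact DerivedCategory.isZero_of_isLE _ 0 i h
    unfold term
    rw [clSub_isZero B hB hz, smul_zero]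
  unfold chi
  rw [finsum_eq_single _ 0 h0]
  unfold term
  rw [sgn_zero, one_smul]
  exact clSub_iso B hB ((DerivedCategory.singleFunctorCompHomologyFunctorIso A 0).app M) (hP.1 0)

theorem psi_phi (hB : Good B) (x : KZero.K0sub B) : psi B hB (phi B hB x) = x := by
  obtain ⟨z, rfl⟩ := QuotientAddGroup.mk_surjective x
  induction z using FreeAbelianGroup.induction_on with
  | zero => rw [QuotientAddGroup.mk_zero, map_zero, map_zero]
  | of M =>
    have h1 : (QuotientAddGroup.mk (FreeAbelianGroup.of M) : KZero.K0sub B) =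
        KZero.clSub B M.1 := (clSub_eq B M.2).symm
    rw [h1, phi_clSub B hB M.2, psi_clTr B hB (PB_single B hB M.2), chi_single B hB M.2]
  | neg M ih => rw [QuotientAddGroup.mk_neg, map_neg, map_neg, ih]
  | add x y hx hy => rw [QuotientAddGroup.mk_add, map_add, map_add, hx, hy]

theorem shift_mem (hB : Good B) (E : DerivedCategory A) (hE : PB B E)
    (G : AddSubgroup (KZero.K0tr (PB B))) (hG : KZero.clTr (PB B) E ∈ G) (k : ℤ) :
    KZero.clTr (PB B) (E⟦k⟧) ∈ G := by
  have h0 := PB_zero B hB
  induction k using Int.induction_on with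
  | zero =>
    have e1 : KZero.clTr (PB B) (E⟦(0 : ℤ)⟧) = KZero.clTr (PB B) E :=
      clTr_iso (PB B) ((shiftFunctorZero (DerivedCategory A) ℤ).app E)
        (PB_shift B hB E 0 hE) hE h0
    rw [e1]
    exact hG
  | succ k ih =>
    have hk := PB_shift B hB E (k : ℤ) hE
    have hk1 := PB_shift B hB _ (1 : ℤ) hk
    have e1 : KZero.clTr (PB B) (E⟦(k : ℤ) + 1⟧) =
        KZero.clTr (PB B) ((E⟦(k : ℤ)⟧)⟦(1 : ℤ)⟧) :=
      clTr_iso (PB B)
        ((shiftFunctorAdd' (DerivedCategory A) (k : ℤ) 1 ((k : ℤ) + 1) rfl).app E)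
        (PB_shift B hB E _ hE) hk1 h0
    rw [e1, clTr_shift_one (PB B) _ hk hk1 h0]
    exact G.neg_mem ih
  | pred k ih =>
    have hk := PB_shift B hB E (-(k : ℤ) - 1) hE
    have hk1 := PB_shift B hB _ (1 : ℤ) hk
    have e1 : KZero.clTr (PB B) (E⟦-(k : ℤ)⟧) =
        KZero.clTr (PB B) ((E⟦-(k : ℤ) - 1⟧)⟦(1 : ℤ)⟧) :=
      clTr_iso (PB B)
        ((shiftFunctorAdd' (DerivedCategory A) (-(k : ℤ) - 1) 1 (-(k : ℤ)) (by ring)).app E)
        (PB_shift B hB E _ hE) hk1 h0
    rw [clTr_shift_one (PB B) _ hk hk1 h0] at e1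
    have e2 : KZero.clTr (PB B) (E⟦-(k : ℤ) - 1⟧) = - KZero.clTr (PB B) (E⟦-(k : ℤ)⟧) := by
      rw [e1, neg_neg]
    rw [e2]
    exact G.neg_mem ih

theorem mem_range_zero (hB : Good B) (E : DerivedCategory A) (a : ℤ) (hE : PB B E)
    (hGE : E.IsGE a) (hLE : E.IsLE a) :
    KZero.clTr (PB B) E ∈ (phi B hB).range := by
  have := hGE
  have := hLE
  obtain ⟨M, ⟨e⟩⟩ := DerivedCategory.exists_iso_singleFunctor_obj_of_isGE_of_isLE E a
  have hM : B M := hB.iso ((DerivedCategory.homologyFunctor A a).mapIso e ≪≫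
    (DerivedCategory.singleFunctorCompHomologyFunctorIso A a).app M) (hE.1 a)
  have hS := PB_single B hB hM
  have e' : ((DerivedCategory.singleFunctor A 0).obj M)⟦-a⟧ ≅
      (DerivedCategory.singleFunctor A a).obj M :=
    ((DerivedCategory.singleFunctors A).shiftIso (-a) a 0 (by lia)).app M
  have h1 : KZero.clTr (PB B) E =
      KZero.clTr (PB B) (((DerivedCategory.singleFunctor A 0).obj M)⟦-a⟧) :=
    clTr_iso (PB B) (e ≪≫ e'.symm) hE (PB_shift B hB _ _ hS) (PB_zero B hB)
  rw [h1]
  exact shift_mem B hB _ hS _ (AddMonoidHom.mem_range.2 ⟨KZero.clSub B M, phi_clSub B hB hM⟩) (-a)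

theorem isIso_H_mor₁ (T : Triangle (DerivedCategory A)) (hT : T ∈ distTriang (DerivedCategory A))
    (m : ℤ) (hY : T.obj₃.IsGE (m + 1)) (i : ℤ) (hi : i ≤ m) :
    IsIso ((DerivedCategory.homologyFunctor A i).map T.mor₁) := by
  have := hY
  haveI : Mono ((DerivedCategory.homologyFunctor A i).map T.mor₁) :=
    (DerivedCategory.HomologySequence.mono_homologyMap_mor₁_iff T hT (i - 1) i (by lia)).2
      ((T.obj₃.isZero_of_isGE (m + 1) (i - 1) (by lia)).eq_of_src _ _)
  haveI : Epi ((DerivedCategory.homologyFunctor A i).map T.mor₁) :=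
    (DerivedCategory.HomologySequence.epi_homologyMap_mor₁_iff T hT i).2
      ((T.obj₃.isZero_of_isGE (m + 1) i (by lia)).eq_of_tgt _ _)
  exact isIso_of_mono_of_epi _

theorem isIso_H_mor₂ (T : Triangle (DerivedCategory A)) (hT : T ∈ distTriang (DerivedCategory A))
    (m : ℤ) (hX : T.obj₁.IsLE m) (i : ℤ) (hi : m < i) :
    IsIso ((DerivedCategory.homologyFunctor A i).map T.mor₂) := by
  have := hX
  haveI : Mono ((DerivedCategory.homologyFunctor A i).map T.mor₂) :=
    (DerivedCategory.HomologySequence.mono_homologyMap_mor₂_iff T hT i).2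
      ((T.obj₁.isZero_of_isLE m i hi).eq_of_src _ _)
  haveI : Epi ((DerivedCategory.homologyFunctor A i).map T.mor₂) :=
    (DerivedCategory.HomologySequence.epi_homologyMap_mor₂_iff T hT i (i + 1) rfl).2
      ((T.obj₁.isZero_of_isLE m (i + 1) (by lia)).eq_of_tgt _ _)
  exact isIso_of_mono_of_epi _

theorem mem_range (hB : Good B) : ∀ (n : ℕ) (E : DerivedCategory A) (a : ℤ), PB B E → E.IsGE a →
    E.IsLE (a + n) → KZero.clTr (PB B) E ∈ (phi B hB).range := by
  intro n
  induction n with
  | zero =>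
    intro E a hE hGE hLE
    have hLE' : E.IsLE a := by simpa using hLE
    exact mem_range_zero B hB E a hE hGE hLE'
  | succ n ih =>
    intro E a hE hGE hLE
    have hLE' : E.IsLE (a + n + 1) := by
      have h : a + ((n + 1 : ℕ) : ℤ) = a + n + 1 := by push_cast; ring
      rw [← h]
      exact hLE
    have := hGE
    have := hLE'
    obtain ⟨X, Y, hX, hY, f, g, h, hT⟩ :=
      DerivedCategory.TStructure.t.exists_triangle E (a + n) (a + n + 1) rfl
    haveI hXle : X.IsLE (a + n) := ⟨hX⟩
    haveI hYge : Y.IsGE (a + n + 1) := ⟨hY⟩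
    have i1 : ∀ i : ℤ, i ≤ a + n → IsIso ((DerivedCategory.homologyFunctor A i).map f) :=
      fun i hi => isIso_H_mor₁ (Triangle.mk f g h) hT (a + n) hYge i hi
    have i2 : ∀ i : ℤ, a + n < i → IsIso ((DerivedCategory.homologyFunctor A i).map g) :=
      fun i hi => isIso_H_mor₂ (Triangle.mk f g h) hT (a + n) hXle i hi
    have hXge : X.IsGE a := by
      rw [DerivedCategory.isGE_iff]
      intro i hi
      have := i1 i (by lia)
      exact IsZero.of_iso (E.isZero_of_isGE a i hi)
        (asIso ((DerivedCategory.homologyFunctor A i).map f))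
    have hYle : Y.IsLE (a + n + 1) := by
      rw [DerivedCategory.isLE_iff]
      intro i hi
      have := i2 i (by lia)
      exact IsZero.of_iso (E.isZero_of_isLE (a + n + 1) i hi)
        (asIso ((DerivedCategory.homologyFunctor A i).map g)).symm
    have hXP : PB B X := by
      refine ⟨fun i => ?_, a, a + n, hXge, hXle⟩
      by_cases hi : i ≤ a + n
      · haveI := i1 i hi
        exact hB.iso (asIso ((DerivedCategory.homologyFunctor A i).map f)).symm (hE.1 i)
      · exact hB.zero (X.isZero_of_isLE (a + n) i (by lia))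
    have hYP : PB B Y := by
      refine ⟨fun i => ?_, a + n + 1, a + n + 1, hYge, hYle⟩
      by_cases hi : a + n < i
      · haveI := i2 i hi
        exact hB.iso (asIso ((DerivedCategory.homologyFunctor A i).map g)) (hE.1 i)
      · exact hB.zero (Y.isZero_of_isGE (a + n + 1) i (by lia))
    have hrel : KZero.clTr (PB B) E = KZero.clTr (PB B) X + KZero.clTr (PB B) Y :=
      clTr_rel (PB B) (Triangle.mk f g h) hT hXP hE hYP
    rw [hrel]
    exact add_mem (ih X a hXP hXge hXle) (mem_range_zero B hB Y (a + n + 1) hYP hYge hYle)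

theorem main (hB : Good B) : ∃ φ : KZero.K0sub B ≃+ KZero.K0tr (PB B), ∀ M : A, B M →
    φ (KZero.clSub B M) = KZero.clTr (PB B) ((DerivedCategory.singleFunctor A 0).obj M) := by
  have hinj : Function.Injective (phi B hB) :=
    Function.LeftInverse.injective (psi_phi B hB)
  have hsurj : Function.Surjective (phi B hB) := by
    intro y
    obtain ⟨z, rfl⟩ := QuotientAddGroup.mk_surjective y
    induction z using FreeAbelianGroup.induction_on with
    | zero => exact ⟨0, by rw [map_zero, QuotientAddGroup.mk_zero]⟩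
    | of E =>
      obtain ⟨a, b, ha, hb⟩ := E.2.2
      have hle : E.1.IsLE (a + ((b - a).toNat : ℤ)) := by
        have := hb
        exact DerivedCategory.TStructure.t.isLE_of_le E.1 b _
          (by have := Int.self_le_toNat (b - a); lia)
      have hm := mem_range B hB (b - a).toNat E.1 a E.2 ha hle
      rw [clTr_eq (PB B) E.2] at hm
      exact AddMonoidHom.mem_range.1 hm
    | neg E ih =>
      obtain ⟨x, hx⟩ := ih
      exact ⟨-x, by rw [map_neg, hx, QuotientAddGroup.mk_neg]⟩
    | add x y hx hy =>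
      obtain ⟨x', hx'⟩ := hx
      obtain ⟨y', hy'⟩ := hy
      exact ⟨x' + y', by rw [map_add, hx', hy', QuotientAddGroup.mk_add]⟩
  exact ⟨AddEquiv.ofBijective (phi B hB) ⟨hinj, hsurj⟩, fun M hM => phi_clSub B hB hM⟩

theorem main' (hB : Good B) (P' : ObjectProperty (DerivedCategory A))
    (hP' : ∀ K : DerivedCategory A, P' K ↔
      ((∀ i : ℤ, B ((DerivedCategory.homologyFunctor A i).obj K)) ∧
        ∃ a b : ℤ, K.IsGE a ∧ K.IsLE b)) :
    ∃ φ : KZero.K0sub B ≃+ KZero.K0tr P', ∀ M : A, B M →
      φ (KZero.clSub B M) = KZero.clTr P' ((DerivedCategory.singleFunctor A 0).obj M) := by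
  obtain rfl : P' = PB B := funext fun K => propext (hP' K)
  exact main B hB

end Der

end Groth.Agent.H28.K0D
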