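import Groth.Agent.H28.LpullLoc2
import Groth.Agent.H33.LeftRes
import Groth.Agent.H31.KFlatSch
import Groth.Agent.H40.TorAmp3

/-!
# Derived pullback preserves `m`-quasi-isomorphisms; pseudo-coherence (helper28 library)

* `MQI m φ` : `φ` (in a derived category) is an isomorphism on `H^i` for `i > m` and an
  epimorphism on `H^m`; `mqi_of_arrow_iso`, `mqi_of_isZero_obj₃`, `isZero_obj₃_of_mqi`.
* `isZero_homology_pullback_of_isKFlat` : `f^*` of a K-flat complex with `H^i = 0` for `i ≥ m` has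
  `H^i = 0` for `i ≥ m`.
* `mqi_pullback`, `LpullObjIso_naturality`, `isPseudoCoherentD_Lpull`.
-/

set_option maxHeartbeats 400000
set_option autoImplicit false
universe u
open CategoryTheory CategoryTheory.Limits AlgebraicGeometry TopologicalSpace Opposite
attribute [local instance] HasDerivedCategory.standard

namespace Groth.Agent.H28.LpullLoc

open Groth.Agent.H31.Stalk ZeroObject

section General

open DerivedCategory Pretriangulated

variable {C : Type*} [Category C] [Abelian C] [HasDerivedCategory C]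

/-- `φ` is an isomorphism on `H^i` for `i > m` and an epimorphism on `H^m`. -/
def MQI (m : ℤ) {K L : DerivedCategory C} (φ : K ⟶ L) : Prop :=
  (∀ i : ℤ, m < i → IsIso ((homologyFunctor C i).map φ)) ∧ Epi ((homologyFunctor C m).map φ)

lemma mqi_of_arrow_iso {m : ℤ} {K L K' L' : DerivedCategory C} {φ : K ⟶ L} {φ' : K' ⟶ L'}
    (e : Arrow.mk φ ≅ Arrow.mk φ') (h : MQI m φ) : MQI m φ' := by
  have hi : ∀ i, Arrow.mk ((homologyFunctor C i).map φ) ≅
      Arrow.mk ((homologyFunctor C i).map φ') :=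
    fun i => (homologyFunctor C i).mapArrow.mapIso e
  exact ⟨fun i hi' => ((MorphismProperty.isomorphisms C).arrow_mk_iso_iff (hi i)).1 (h.1 i hi'),
    ((MorphismProperty.epimorphisms C).arrow_mk_iso_iff (hi m)).1 h.2⟩

lemma mqi_of_isZero_obj₃ (T : Triangle (DerivedCategory C)) (hT : T ∈ distTriang _) (m : ℤ)
    (h : ∀ i : ℤ, m ≤ i → IsZero ((homologyFunctor C i).obj T.obj₃)) : MQI m T.mor₁ := by
  have hepi : ∀ i, m ≤ i → Epi ((homologyFunctor C i).map T.mor₁) := fun i hi =>
    (HomologySequence.epi_homologyMap_mor₁_iff T hT i).2 ((h i hi).eq_of_tgt _ _)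
  refine ⟨fun i hi => ?_, hepi m le_rfl⟩
  have hmono : Mono ((homologyFunctor C i).map T.mor₁) :=
    (HomologySequence.mono_homologyMap_mor₁_iff T hT (i - 1) i (by omega)).2
      ((h (i - 1) (by omega)).eq_of_src _ _)
  have := hepi i hi.le
  exact isIso_of_mono_of_epi _

lemma isZero_obj₃_of_mqi (T : Triangle (DerivedCategory C)) (hT : T ∈ distTriang _) (m : ℤ)
    (h : MQI m T.mor₁) (i : ℤ) (hi : m ≤ i) : IsZero ((homologyFunctor C i).obj T.obj₃) := by
  have h2 : (homologyFunctor C i).map T.mor₂ = 0 := by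
    apply (HomologySequence.epi_homologyMap_mor₁_iff T hT i).1
    rcases hi.eq_or_lt with rfl | hlt
    · exact h.2
    · have := h.1 i hlt
      infer_instance
  have h3 : HomologySequence.δ T i (i + 1) rfl = 0 := by
    apply (HomologySequence.mono_homologyMap_mor₁_iff T hT i (i + 1) rfl).1
    have := h.1 (i + 1) (by omega)
    infer_instance
  exact (HomologySequence.exact₃ T hT i (i + 1) rfl).isZero_of_both_zeros h2 h3

end General

variable {X Y : Scheme.{u}} (f : X ⟶ Y)

theorem exists_flat_epi (M : Y.Modules) :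
    ∃ (N : Y.Modules) (π : N ⟶ M), FlatMod.IsFlat N ∧ Epi π := by
  obtain ⟨N, π, hN, hπ⟩ := Groth.Agent.H31.exists_epi_of_isFlat (O := Y.sheaf) M
  exact ⟨N, π, Groth.Agent.H40.FlatBridge2.stalkFlat_of_isFlat N hN, hπ⟩

/-- `f^*` of a K-flat complex with `H^i = 0` for `i ≥ m` has `H^i = 0` for `i ≥ m`. -/
theorem isZero_homology_pullback_of_isKFlat (C : CochainComplex Y.Modules ℤ)
    (hC : DCoh.IsKFlat C) (m : ℤ) (h : ∀ i : ℤ, m ≤ i → IsZero (C.homology i)) (i : ℤ)
    (hi : m ≤ i) :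
    IsZero ((((Scheme.Modules.pullback f).mapHomologicalComplex
      (ComplexShape.up ℤ)).obj C).homology i) := by
  haveI : C.IsLE (m - 1) := by
    rw [CochainComplex.isLE_iff]
    intro j hj
    rw [HomologicalComplex.exactAt_iff_isZero_homology]
    exact h j (by omega)
  obtain ⟨L, q, hL, hfl, -, hq⟩ := Groth.Agent.H33.LeftRes.exists_resolution_int
    (P := fun M : Y.Modules => FlatMod.IsFlat M) exists_flat_epi
    ⟨0, isZero_zero _, Groth.Agent.H40.TorAmp3.stalkFlat_of_isZero (isZero_zero _)⟩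
    (C.truncLE (m - 1)) (m - 1)
  haveI := hL
  haveI := hq
  have hLK : DCoh.IsKFlat L :=
    Groth.Agent.H40.TorAmp.isKFlat_of_bounded_above_stalkFlat L (m - 1)
      (fun q hq => L.isZero_of_isStrictlyLE (m - 1) q hq) hfl
  have hqi : QuasiIso (q ≫ C.ιTruncLE (m - 1)) := inferInstance
  have h1 := quasiIso_pullback_map f (q ≫ C.ιTruncLE (m - 1)) hqi hLK hC
  have h2 : IsZero ((((Scheme.Modules.pullback f).mapHomologicalComplex
      (ComplexShape.up ℤ)).obj L).homology i) :=
    ShortComplex.isZero_homology_of_isZero_X₂ _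
      (Functor.map_isZero _ (L.isZero_of_isStrictlyLE (m - 1) i (by omega)))
  haveI := h1
  exact IsZero.of_iso h2 (asIso (HomologicalComplex.homologyMap
    (((Scheme.Modules.pullback f).mapHomologicalComplex (ComplexShape.up ℤ)).map
      (q ≫ C.ιTruncLE (m - 1))) i)).symm

/-- `f^*` preserves `m`-quasi-isomorphisms between K-flat complexes. -/
theorem mqi_pullback {A B : CochainComplex Y.Modules ℤ} (b : A ⟶ B) (hA : DCoh.IsKFlat A)
    (hB : DCoh.IsKFlat B) (m : ℤ) (h : MQI m (DerivedCategory.Q.map b)) :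
    MQI m (DerivedCategory.Q.map
      (((Scheme.Modules.pullback f).mapHomologicalComplex (ComplexShape.up ℤ)).map b)) := by
  have hT := DerivedCategory.mappingCone_triangle_distinguished b
  have h0 : ∀ i, m ≤ i → IsZero ((CochainComplex.mappingCone b).homology i) := fun i hi =>
    ((DerivedCategory.homologyFunctorFactors _ i).app _).isZero_iff.1
      (isZero_obj₃_of_mqi _ hT m h i hi)
  have hK := (Groth.Agent.H31.KFlatSch.isKFlat_mappingCone b).1 hA hB
  have h1 : ∀ i, m ≤ i → IsZero ((CochainComplex.mappingCone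
      (((Scheme.Modules.pullback f).mapHomologicalComplex (ComplexShape.up ℤ)).map b)).homology i) :=
    fun i hi => IsZero.of_iso (isZero_homology_pullback_of_isKFlat f _ hK m h0 i hi)
      ((HomologicalComplex.homologyFunctor _ _ i).mapIso
        (CochainComplex.mappingCone.mapHomologicalComplexIso b
          (Scheme.Modules.pullback f)).symm)
  have hT' := DerivedCategory.mappingCone_triangle_distinguished
    (((Scheme.Modules.pullback f).mapHomologicalComplex (ComplexShape.up ℤ)).map b)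
  exact mqi_of_isZero_obj₃ _ hT' m (fun i hi =>
    ((DerivedCategory.homologyFunctorFactors _ i).app _).isZero_iff.2 (h1 i hi))

theorem LpullObjIso_naturality [DCoh.HasLpull f] {A B : CochainComplex Y.Modules ℤ} (g : A ⟶ B)
    (hA : DCoh.IsKFlat A) (hB : DCoh.IsKFlat B) :
    (DCoh.Lpull f).map (DerivedCategory.Q.map g) ≫ (LpullObjIso f B hB).hom =
      (LpullObjIso f A hA).hom ≫ DerivedCategory.Q.map
        (((Scheme.Modules.pullback f).mapHomologicalComplex (ComplexShape.up ℤ)).map g) :=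
  ((DCoh.pullKh f).totalLeftDerivedCounit DerivedCategory.Qh
    (HomotopyCategory.quasiIso Y.Modules (ComplexShape.up ℤ))).naturality
      ((HomotopyCategory.quotient _ _).map g)

/-- The derived pullback of an `m`-pseudo-coherent object is `m`-pseudo-coherent. -/
theorem isPseudoCoherentD_Lpull [DCoh.HasLpull f] (m : ℤ) (E : DCoh.D Y)
    (hE : DCoh.IsPseudoCoherentD m E) : DCoh.IsPseudoCoherentD m ((DCoh.Lpull f).obj E) := by
  intro x
  obtain ⟨V, hxV, hV⟩ := hE (f.base x)
  refine ⟨f ⁻¹ᵁ V, hxV, ?_⟩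
  rintro G ⟨eG⟩
  obtain ⟨F, hF, ⟨eF⟩⟩ := exists_kflat_rep E
  obtain ⟨P, α, hP, hα1, hα2⟩ := hV F ⟨eF⟩
  have : DCoh.HasLpull (f ∣_ V) := hasLpull (f ∣_ V)
  have hF' : DCoh.IsKFlat ((DCoh.restrictCx V).obj F) := isKFlat_restrictCx V F hF
  have hPK := isKFlat_of_isStrictlyPerfect hP
  obtain ⟨P₁, s₁, hs₁, g₁, hfac⟩ := DerivedCategory.right_fac α
  obtain ⟨P₂, q, hP₂, -, hq, -⟩ := Groth.Agent.S0955.result P₁
  have hQq : IsIso (DerivedCategory.Q.map q) := by
    have := hq
    infer_instance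
  have hs : IsIso (DerivedCategory.Q.map (q ≫ s₁)) := by
    rw [Functor.map_comp]
    infer_instance
  have hcomm : DerivedCategory.Q.map (q ≫ s₁) ≫ α = DerivedCategory.Q.map (q ≫ g₁) := by
    rw [hfac, Functor.map_comp, Functor.map_comp, Category.assoc, IsIso.hom_inv_id_assoc]
  have hαm : MQI m α := ⟨hα1, hα2⟩
  have e1 : Arrow.mk (DerivedCategory.Q.map (q ≫ g₁)) ≅ Arrow.mk α :=
    Arrow.isoMk (asIso (DerivedCategory.Q.map (q ≫ s₁))) (Iso.refl _) (by simpa using hcomm)
  have hb : MQI m (DerivedCategory.Q.map (q ≫ g₁)) := mqi_of_arrow_iso e1.symm hαm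
  have hb' := mqi_pullback (f ∣_ V) (q ≫ g₁) hP₂ hF' m hb
  have e2 : Arrow.mk ((DCoh.Lpull (f ∣_ V)).map (DerivedCategory.Q.map (q ≫ g₁))) ≅
      Arrow.mk (DerivedCategory.Q.map (((Scheme.Modules.pullback (f ∣_ V)).mapHomologicalComplex
        (ComplexShape.up ℤ)).map (q ≫ g₁))) :=
    Arrow.isoMk (LpullObjIso _ P₂ hP₂) (LpullObjIso _ _ hF')
      (LpullObjIso_naturality (f ∣_ V) (q ≫ g₁) hP₂ hF').symm
  have h3 : MQI m ((DCoh.Lpull (f ∣_ V)).map (DerivedCategory.Q.map (q ≫ g₁))) :=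
    mqi_of_arrow_iso e2.symm hb'
  have h4 : MQI m ((DCoh.Lpull (f ∣_ V)).map α) :=
    mqi_of_arrow_iso ((DCoh.Lpull (f ∣_ V)).mapArrow.mapIso e1) h3
  let ρ := restrictLpullIso f V F hF G (eG ≪≫ (DCoh.Lpull f).mapIso eF.symm)
  let εP := LpullObjIso (f ∣_ V) P hPK
  have h5 : MQI m (εP.inv ≫ (DCoh.Lpull (f ∣_ V)).map α ≫ ρ.inv) :=
    mqi_of_arrow_iso (Arrow.isoMk εP ρ.symm (by simp)) h4
  exact ⟨_, εP.inv ≫ (DCoh.Lpull (f ∣_ V)).map α ≫ ρ.inv,
    isStrictlyPerfect_pullback (f ∣_ V) hP, h5.1, h5.2⟩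

end Groth.Agent.H28.LpullLoc
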