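import Groth.Agent.H28.LpullLoc
import Groth.Agent.H8.LocFreeNearFinite
import Groth.Agent.S9805
import Groth.Agent.S0955
import Groth.Agent.H40.TorAmp

/-!
# Derived pullback and restriction to opens (helper28 library)

* `isKFlat_of_iso`, `isKFlat_restrictCx`, `isKFlat_of_isStrictlyPerfect`.
* `exists_kflat_rep` : every object of `D(O_Y)` is represented by a K-flat complex.
* `restrictLpullIso` : for `F` K-flat on `Y` and any complex `G` on `X` representing `Lf^* (Q F)`,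
  `Q (G|_{f⁻¹V}) ≅ L(f|_V)^* (Q (F|_V))`.
* `isPerfect_Lpull`.
-/

set_option maxHeartbeats 400000
set_option autoImplicit false
universe u
open CategoryTheory CategoryTheory.Limits AlgebraicGeometry TopologicalSpace Opposite
attribute [local instance] HasDerivedCategory.standard

namespace Groth.Agent.H28.LpullLoc

open Groth.Agent.H31.Stalk

variable {X Y : Scheme.{u}}

theorem isKFlat_of_iso {E E' : CochainComplex X.Modules ℤ} (e : E ≅ E') (h : DCoh.IsKFlat E) :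
    DCoh.IsKFlat E' := by
  intro L hL i
  exact IsZero.of_iso (h L hL i)
    ((HomologicalComplex.homologyFunctor _ _ i).mapIso ((DCoh.tensorCx.obj L).mapIso e.symm))

theorem isKFlat_restrictCx (V : Y.Opens) (F : CochainComplex Y.Modules ℤ) (hF : DCoh.IsKFlat F) :
    DCoh.IsKFlat ((DCoh.restrictCx V).obj F) :=
  isKFlat_of_iso (restrictCxIso V F).symm (isKFlat_pullback V.ι F hF)

theorem isFlat_of_isFinLocFree {M : X.Modules} (h : FlatMod.IsFinLocFree M) : FlatMod.IsFlat M :=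
  ((Groth.Agent.S9805.result X M (Groth.Agent.H8.isQuasicoherent_of_isFinLocFree M h)).2 h).1

theorem isKFlat_of_isStrictlyPerfect {E : CochainComplex X.Modules ℤ}
    (hE : DCoh.IsStrictlyPerfect E) : DCoh.IsKFlat E := by
  obtain ⟨⟨a, b, hab⟩, hfl⟩ := hE
  exact Groth.Agent.H40.TorAmp.isKFlat_of_bounded_above_stalkFlat E b
    (fun q hq => hab q (Or.inr hq)) (fun n => isFlat_of_isFinLocFree (hfl n))

/-- Every object of `D(O_Y)` is represented by a K-flat complex. -/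
theorem exists_kflat_rep (E : DCoh.D Y) :
    ∃ F : CochainComplex Y.Modules ℤ, DCoh.IsKFlat F ∧ Nonempty (DCoh.toD Y F ≅ E) := by
  obtain ⟨K, q, hK, -, hq, -⟩ := Groth.Agent.S0955.result (DerivedCategory.Q.objPreimage E)
  haveI := hq
  exact ⟨K, hK, ⟨asIso (DerivedCategory.Q.map q) ≪≫ DerivedCategory.Q.objObjPreimageIso E⟩⟩

variable (f : X ⟶ Y) (V : Y.Opens)

/-- For `F` K-flat on `Y` and a complex `G` on `X` representing `Lf^* (Q F)`, the restriction of `G`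
to `f⁻¹V` represents `L(f|_V)^* (Q (F|_V))`. -/
noncomputable def restrictLpullIso [DCoh.HasLpull f] [DCoh.HasLpull (f ∣_ V)]
    (F : CochainComplex Y.Modules ℤ) (hF : DCoh.IsKFlat F)
    (G : CochainComplex X.Modules ℤ) (eG : DCoh.toD X G ≅ (DCoh.Lpull f).obj (DCoh.toD Y F)) :
    DerivedCategory.Q.obj ((DCoh.restrictCx (f ⁻¹ᵁ V)).obj G) ≅
      (DCoh.Lpull (f ∣_ V)).obj (DerivedCategory.Q.obj ((DCoh.restrictCx V).obj F)) :=
  ((Scheme.Modules.restrictFunctor (f ⁻¹ᵁ V).ι).mapDerivedCategoryFactors.app G).symm ≪≫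
    (Scheme.Modules.restrictFunctor (f ⁻¹ᵁ V).ι).mapDerivedCategory.mapIso
      (eG ≪≫ LpullObjIso f F hF) ≪≫
    (Scheme.Modules.restrictFunctor (f ⁻¹ᵁ V).ι).mapDerivedCategoryFactors.app _ ≪≫
    DerivedCategory.Q.mapIso (cxIso f V F) ≪≫
    (LpullObjIso (f ∣_ V) _ (isKFlat_restrictCx V F hF)).symm

/-- The derived pullback of a perfect object is perfect. -/
theorem isPerfect_Lpull [DCoh.HasLpull f] (E : DCoh.D Y) (hE : DCoh.IsPerfect E) :
    DCoh.IsPerfect ((DCoh.Lpull f).obj E) := by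
  intro x
  obtain ⟨V, hxV, hV⟩ := hE (f.base x)
  refine ⟨f ⁻¹ᵁ V, hxV, ?_⟩
  rintro G ⟨eG⟩
  obtain ⟨F, hF, ⟨eF⟩⟩ := exists_kflat_rep E
  obtain ⟨P, hP, ⟨eP⟩⟩ := hV F ⟨eF⟩
  haveI : DCoh.HasLpull (f ∣_ V) := hasLpull (f ∣_ V)
  refine ⟨_, isStrictlyPerfect_pullback (f ∣_ V) hP, ⟨?_⟩⟩
  exact restrictLpullIso f V F hF G (eG ≪≫ (DCoh.Lpull f).mapIso eF.symm) ≪≫
    (DCoh.Lpull (f ∣_ V)).mapIso eP ≪≫
    LpullObjIso (f ∣_ V) P (isKFlat_of_isStrictlyPerfect hP)

end Groth.Agent.H28.LpullLoc
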