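import Mathlib
import Groth.Agent.H6.LpullQCoh
import Groth.Agent.H90.TildePC
import Groth.Agent.H35.PCDescent
import Groth.Agent.H35.LBC
import Groth.Agent.H28.LpullLoc3

/-!
# fpqc descent of `m`-pseudo-coherence for objects with quasi-coherent cohomology (helper28)

* `isPC_of_Lpull_affine`: affine case (`Spec B ⟶ Spec A` faithfully flat).
* `exists_chart`: around any point of the target of a flat surjective quasi-compact morphism
  `f : X' ⟶ X` there is an affine chart `Spec A ⟶ X` and a faithfully flat `Spec B ⟶ Spec A`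
  factoring through `f`.
* `isPseudoCoherentD_of_Lpull`: the descent statement (S1057).
-/

set_option autoImplicit false
set_option maxHeartbeats 400000
set_option linter.style.haveILetI false
universe u
open CategoryTheory CategoryTheory.Limits AlgebraicGeometry TopologicalSpace Opposite

attribute [local instance] HasDerivedCategory.standard

namespace Groth.Agent.H28.PCDescentSch

open Groth.Agent.H31 Groth.Agent.H31.Stalk Groth.Agent.H28.LpullLoc
open Groth.Agent.H90.SPerf Groth.Agent.H90.TPC Groth.Agent.H6.LpullQCoh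

/-- Affine case of fpqc descent of `m`-pseudo-coherence. -/
theorem isPC_of_Lpull_affine {A B : Type u} [CommRing A] [CommRing B] (φ : A →+* B)
    (hφ : φ.FaithfullyFlat)
    [DCoh.HasLpull (Spec.map (CommRingCat.ofHom φ))]
    (E : DCoh.D (Spec (CommRingCat.of A))) (hE : DCoh.IsQCohD E) (m : ℤ)
    (h : DCoh.IsPseudoCoherentD m ((DCoh.Lpull (Spec.map (CommRingCat.ofHom φ))).obj E)) :
    DCoh.IsPseudoCoherentD m E := by
  have instA : PreservesFiniteLimits (tilde.functor (CommRingCat.of A)) :=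
    (Groth.Agent.S9498.key (CommRingCat.of A)).1
  have instB : PreservesFiniteLimits (tilde.functor (CommRingCat.of B)) :=
    (Groth.Agent.S9498.key (CommRingCat.of B)).1
  have : DRing.HasLBaseChange φ := hasLBaseChange φ
  obtain ⟨M, ⟨eM⟩⟩ := ((Groth.Agent.S0997.result (CommRingCat.of A)).2.2 E).1 hE
  obtain ⟨P, hPK, -, ⟨eP⟩⟩ := Groth.Agent.H35.LBC.exists_kflat_model M
  -- `tildeD (M ⊗^L B)` is `m`-pseudo-coherent
  have e1 : (DCoh.tildeD (CommRingCat.of B)).obj ((DRing.LBaseChange φ).obj M) ≅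
      (DCoh.Lpull (Spec.map (CommRingCat.ofHom φ))).obj E :=
    (LBaseChangeTildeIso φ).app M ≪≫ (DCoh.Lpull (Spec.map (CommRingCat.ofHom φ))).mapIso eM
  have h1 := isPC_of_iso e1.symm h
  have h2 := (isPC_tildeD_iff (CommRingCat.of B) _ m).1 h1
  have h3 : DRing.IsPseudoCoherent B m
      (DRing.toD ((Groth.Agent.H35.FlatBC.extCx φ).obj P)) :=
    Groth.Agent.H35.MPCoh.isPseudoCoherent_of_iso
      (Groth.Agent.H53.LBaseChange.objIso' φ P hPK eP).symm h2
  letI := φ.toAlgebra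
  haveI : Module.FaithfullyFlat A B := hφ
  have h4 : DRing.IsPseudoCoherent A m (DRing.toD P) :=
    (Groth.Agent.H35.TorDescent.isPseudoCoherent_of_faithfullyFlat (R' := B) P m).1 h3
  have h5 : DRing.IsPseudoCoherent A m M :=
    Groth.Agent.H35.MPCoh.isPseudoCoherent_of_iso eP h4
  exact isPC_of_iso eM ((isPC_tildeD_iff (CommRingCat.of A) M m).2 h5)

/-- The flat, surjective, quasi-compact chart used for descent. -/
theorem exists_chart {X' X : Scheme.{u}} (f : X' ⟶ X) [Flat f] [Surjective f] [QuasiCompact f]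
    (x : X) :
    ∃ (A B : Type u) (_ : CommRing A) (_ : CommRing B) (φ : A →+* B)
      (j : Spec (CommRingCat.of A) ⟶ X) (_ : IsOpenImmersion j)
      (p : Spec (CommRingCat.of B) ⟶ X'),
      x ∈ Set.range j ∧ Spec.map (CommRingCat.ofHom φ) ≫ j = p ≫ f ∧ φ.FaithfullyFlat := by
  obtain ⟨U, hU, hxU, -⟩ := exists_isAffineOpen_mem_and_subset (x := x) (U := ⊤) trivial
  have hW : IsCompact (X := X') (f ⁻¹ᵁ U) := f.isCompact_preimage hU.isCompact
  obtain ⟨I, hI, e⟩ := isCompact_iff_finite_and_eq_biUnion_affineOpens.mp hW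
  have := hI.to_subtype
  let g : I → Scheme.{u} := fun i => ((i.1 : X'.Opens) : Scheme.{u})
  haveI : ∀ i : I, IsAffine (g i) := fun i => i.1.2
  let p₀ : (∐ g) ⟶ X' := Sigma.desc (fun i : I => (i.1 : X'.Opens).ι)
  let p : Spec Γ(∐ g, ⊤) ⟶ X' := (∐ g).isoSpec.inv ≫ p₀
  have hp₀ : ∀ z : ↥(∐ g), p₀ z ∈ f ⁻¹ᵁ U := by
    intro z
    obtain ⟨⟨i, v⟩, rfl⟩ := (sigmaMk g).surjective z
    rw [sigmaMk_mk, ← Scheme.Hom.comp_apply, Sigma.ι_desc, e]
    have : (i.1 : X'.Opens) ≤ ⨆ i ∈ I, (i : X'.Opens) :=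
      le_iSup₂ (f := fun (i : X'.affineOpens) (_ : i ∈ I) => (i : X'.Opens)) i.1 i.2
    exact this v.2
  have hrange : Set.range (p ≫ f) ⊆ Set.range hU.fromSpec := by
    rw [hU.range_fromSpec]
    rintro _ ⟨z, rfl⟩
    exact hp₀ ((∐ g).isoSpec.inv z)
  let g' : Spec Γ(∐ g, ⊤) ⟶ Spec Γ(X, U) := IsOpenImmersion.lift hU.fromSpec (p ≫ f) hrange
  have hg' : g' ≫ hU.fromSpec = p ≫ f := IsOpenImmersion.lift_fac _ _ _
  refine ⟨Γ(X, U), Γ(∐ g, ⊤), inferInstance, inferInstance, (Spec.preimage g').hom, hU.fromSpec,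
    inferInstance, p, ?_, ?_, ?_⟩
  · rw [hU.range_fromSpec]; exact hxU
  · show Spec.map (Spec.preimage g') ≫ hU.fromSpec = p ≫ f
    rw [Spec.map_preimage]; exact hg'
  · rw [← flat_and_surjective_SpecMap_iff, Spec.map_preimage]
    constructor
    · haveI : Flat p₀ := inferInstance
      haveI : Flat (g' ≫ hU.fromSpec) := by rw [hg']; infer_instance
      haveI : MorphismProperty.HasOfPostcompProperty (@Flat.{u})
          (MorphismProperty.monomorphisms Scheme.{u}) :=
        MorphismProperty.IsStableUnderBaseChange.hasOfPostcompProperty_monomorphisms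
      exact MorphismProperty.of_postcomp (W := @Flat) (W' := MorphismProperty.monomorphisms Scheme.{u})
        g' hU.fromSpec (MorphismProperty.monomorphisms.infer_property _) inferInstance
    · constructor
      intro a
      obtain ⟨x', hx'⟩ := f.surjective (hU.fromSpec a)
      have hx'W : x' ∈ f ⁻¹ᵁ U := by
        show f x' ∈ (U : Set X)
        rw [hx', ← hU.range_fromSpec]; exact ⟨a, rfl⟩
      rw [e] at hx'W
      simp only [Opens.mem_iSup] at hx'W
      obtain ⟨i, hi, hx'i⟩ := hx'W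
      let z : ↥(Spec Γ(∐ g, ⊤)) := (∐ g).isoSpec.hom (Sigma.ι g ⟨i, hi⟩ ⟨x', hx'i⟩)
      refine ⟨z, ?_⟩
      apply hU.fromSpec.isOpenEmbedding.injective
      rw [← Scheme.Hom.comp_apply, hg', ← hx']
      show (((∐ g).isoSpec.inv ≫ p₀) ≫ f) z = f x'
      have hz : ((∐ g).isoSpec.inv ≫ p₀) z = x' := by
        show ((∐ g).isoSpec.inv ≫ p₀) ((∐ g).isoSpec.hom (Sigma.ι g ⟨i, hi⟩ ⟨x', hx'i⟩)) = x'
        rw [← Scheme.Hom.comp_apply, Iso.hom_inv_id_assoc]
        have h1 : Sigma.ι g ⟨i, hi⟩ ≫ p₀ = (i : X'.Opens).ι := Sigma.ι_desc _ _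
        show (Sigma.ι g ⟨i, hi⟩ ≫ p₀) ⟨x', hx'i⟩ = x'
        rw [h1]
        rfl
      rw [Scheme.Hom.comp_apply, hz]

/-- `Lj^* E ≅ E|_U` (objectwise) for an open immersion `j`. -/
theorem nonempty_Lpull_iso_restrictD {U X : Scheme.{u}} (j : U ⟶ X) [IsOpenImmersion j]
    [DCoh.HasLpull j] (E : DCoh.D X) :
    Nonempty ((DCoh.Lpull j).obj E ≅ (DCoh.restrictD j).obj E) := by
  obtain ⟨F, hF, ⟨eF⟩⟩ := exists_kflat_rep E
  exact ⟨(DCoh.Lpull j).mapIso eF.symm ≪≫ LpullObjIso j F hF ≪≫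
    DerivedCategory.Q.mapIso ((NatIso.mapHomologicalComplex
      (Scheme.Modules.restrictFunctorIsoPullback j) (ComplexShape.up ℤ)).app F).symm ≪≫
    ((Scheme.Modules.restrictFunctor j).mapDerivedCategoryFactors.app F).symm ≪≫
    (DCoh.restrictD j).mapIso eF⟩

/-- `Lf^*` only depends on `f` up to equality. -/
noncomputable def LpullCongr {X Y : Scheme.{u}} {f g : X ⟶ Y} (h : f = g) [DCoh.HasLpull f]
    [DCoh.HasLpull g] : DCoh.Lpull f ≅ DCoh.Lpull g := by
  subst h
  exact Iso.refl _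

/-- fpqc descent of `m`-pseudo-coherence for objects with quasi-coherent cohomology. -/
theorem isPseudoCoherentD_of_Lpull {X' X : Scheme.{u}} (f : X' ⟶ X) [Flat f] [Surjective f]
    [QuasiCompact f] [DCoh.HasLpull f] (E : DCoh.D X) (hE : DCoh.IsQCohD E) (m : ℤ)
    (h : DCoh.IsPseudoCoherentD m ((DCoh.Lpull f).obj E)) : DCoh.IsPseudoCoherentD m E := by
  rw [isPC_iff]
  intro x
  obtain ⟨A, B, _, _, φ, j, hj, p, ⟨y, rfl⟩, hsq, hφ⟩ := exists_chart f x
  haveI := hj
  haveI : DCoh.HasLpull j := hasLpull j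
  haveI : DCoh.HasLpull p := hasLpull p
  haveI : DCoh.HasLpull (Spec.map (CommRingCat.ofHom φ)) := hasLpull _
  haveI : DCoh.HasLpull (p ≫ f) := hasLpull _
  haveI : DCoh.HasLpull (Spec.map (CommRingCat.ofHom φ) ≫ j) := hasLpull _
  have e1 : (DCoh.Lpull (Spec.map (CommRingCat.ofHom φ))).obj ((DCoh.Lpull j).obj E) ≅
      (DCoh.Lpull p).obj ((DCoh.Lpull f).obj E) :=
    (LpullCompIso (Spec.map (CommRingCat.ofHom φ)) j).app E ≪≫ (LpullCongr hsq).app E ≪≫
      ((LpullCompIso p f).app E).symm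
  have h1 : DCoh.IsPseudoCoherentD m
      ((DCoh.Lpull (Spec.map (CommRingCat.ofHom φ))).obj ((DCoh.Lpull j).obj E)) :=
    isPC_of_iso e1.symm (isPseudoCoherentD_Lpull p m _ h)
  have h2 : DCoh.IsPseudoCoherentD m ((DCoh.Lpull j).obj E) :=
    isPC_of_Lpull_affine φ hφ _ (isQCohD_Lpull j E hE) m h1
  have h3 : DCoh.IsPseudoCoherentD m ((DCoh.restrictD j).obj E) :=
    isPC_of_iso (nonempty_Lpull_iso_restrictD j E).some h2
  exact Groth.Agent.H90.LR.locPC_of_restrict j ((isPC_iff m _).1 h3 y)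

end Groth.Agent.H28.PCDescentSch
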