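import Groth.Agent.H28.StalkFlatAmp2
import Groth.Agent.H35.TorDescent
import Groth.Agent.H31.StalkPullback
import Groth.Agent.H31.Lpull
import Groth.Agent.H28.LpullLoc2

set_option autoImplicit false
set_option maxHeartbeats 400000
universe u
open CategoryTheory CategoryTheory.Limits AlgebraicGeometry HomologicalComplex
attribute [local instance] HasDerivedCategory.standard

namespace Groth.Agent.H28.StalkTor

open Groth.Agent.H31 Groth.Agent.H31.Stalk

variable {X Y : Scheme.{u}}

/-- The stalk of a pullback, in the prelude's stalk functors. -/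
noncomputable def stalkFunctorPullbackIso (f : X ⟶ Y) (x : X) :
    Scheme.Modules.pullback f ⋙ DerSch.stalkFunctor X x ≅
      DerSch.stalkFunctor Y (f.base x) ⋙ ModuleCat.extendScalars.{u, u, u} (f.stalkMap x).hom :=
  Functor.isoWhiskerLeft (Scheme.Modules.pullback f) (stalkFunctorIso X x) ≪≫
    stkPullbackIso f x ≪≫
    Functor.isoWhiskerRight (stalkFunctorIso Y (f.base x)).symm
      (ModuleCat.extendScalars.{u, u, u} (f.stalkMap x).hom)

/-- Flat amplitude descends along a flat surjective morphism. -/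
theorem hasFlatAmplitudeIn_of_Lpull (f : X ⟶ Y) [Flat f] [Surjective f] [DCoh.HasLpull f]
    (E : DCoh.D Y) (a b : ℤ) (h : DCoh.HasFlatAmplitudeIn a b ((DCoh.Lpull f).obj E)) :
    DCoh.HasFlatAmplitudeIn a b E := by
  obtain ⟨P, hP, ⟨eP⟩⟩ := Groth.Agent.H28.LpullLoc.exists_kflat_rep E
  let fP := ((Scheme.Modules.pullback f).mapHomologicalComplex (ComplexShape.up ℤ)).obj P
  have e1 : DCoh.toD X fP ≅ (DCoh.Lpull f).obj E :=
    (LpullObjIso f P hP).symm ≪≫ (DCoh.Lpull f).mapIso eP
  have h' : DCoh.HasFlatAmplitudeIn a b (DCoh.toD X fP) := by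
    obtain ⟨Φ, hv, hfl, ⟨e⟩⟩ := h
    exact ⟨Φ, hv, hfl, ⟨e ≪≫ e1.symm⟩⟩
  have h1 : DerSch.HasTorAmplitude (𝟙 X) a b fP :=
    hasTorAmplitude_of_hasFlatAmplitudeIn (𝟙 X) fP a b h'
  have key : ∀ x : X, DRing.HasTorAmplitudeIn (Y.presheaf.stalk (f.base x)) a b
      (DRing.toD (((DerSch.stalkFunctor Y (f.base x)).mapHomologicalComplex
        (ComplexShape.up ℤ)).obj P)) := by
    intro x
    have h2 := hasTorAmplitudeIn_stalk_of_id fP a b h1 x
    letI : Algebra (Y.presheaf.stalk (f.base x)) (X.presheaf.stalk x) :=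
      (f.stalkMap x).hom.toAlgebra
    haveI : Module.Flat (Y.presheaf.stalk (f.base x)) (X.presheaf.stalk x) :=
      AlgebraicGeometry.Flat.stalkMap f x
    haveI : IsLocalHom (algebraMap (Y.presheaf.stalk (f.base x)) (X.presheaf.stalk x)) :=
      inferInstanceAs (IsLocalHom (f.stalkMap x).hom)
    haveI : Module.FaithfullyFlat (Y.presheaf.stalk (f.base x)) (X.presheaf.stalk x) :=
      Module.FaithfullyFlat.of_flat_of_isLocalHom
    refine Groth.Agent.H35.TorDescent.hasTorAmplitudeIn_of_faithfullyFlat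
      (R' := X.presheaf.stalk x) _ a b ?_
    obtain ⟨Φ, hv, hfl, ⟨e⟩⟩ := h2
    let ι : ((DerSch.stalkFunctor X x).mapHomologicalComplex (ComplexShape.up ℤ)).obj fP ≅
        ((ModuleCat.extendScalars.{u, u, u} (f.stalkMap x).hom).mapHomologicalComplex
          (ComplexShape.up ℤ)).obj (((DerSch.stalkFunctor Y (f.base x)).mapHomologicalComplex
            (ComplexShape.up ℤ)).obj P) :=
      HomologicalComplex.Hom.isoOfComponents
        (fun i => (stalkFunctorPullbackIso f x).app (P.X i))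
        (fun i j _ => ((stalkFunctorPullbackIso f x).hom.naturality (P.d i j)).symm)
    exact ⟨Φ, hv, hfl, ⟨e ≪≫ DerivedCategory.Q.mapIso ι⟩⟩
  have hst : ∀ y : Y, DRing.HasTorAmplitudeIn (Y.presheaf.stalk y) a b
      (DRing.toD (((DerSch.stalkFunctor Y y).mapHomologicalComplex
        (ComplexShape.up ℤ)).obj P)) := by
    intro y
    obtain ⟨x, rfl⟩ := f.surjective y
    exact key x
  obtain ⟨Φ, hv, hfl, ⟨e⟩⟩ := hasFlatAmplitudeIn_of_stalk P a b hst
  exact ⟨Φ, hv, hfl, ⟨e ≪≫ eP⟩⟩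

end Groth.Agent.H28.StalkTor
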