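import Mathlib
import Groth.Agent.H28.FlatDescent
import Groth.Agent.H28.PCDescentSch
import Groth.Agent.S6514
import Groth.Agent.H8.QCohPush
import Groth.Agent.H8.PullbackStalk
import Groth.Agent.H8.CohKerCoker
import Groth.Agent.H22.QCohLimits
import Groth.Agent.H90.QCohHom

/-!
# fpqc descent of quasi-coherence for arbitrary modules (helper28)

* `isZero_of_isZero_pullback`: `f^*` reflects zero objects for `f` flat and surjective.
* `mono_unit`: the unit `M ⟶ f_* f^* M` is a monomorphism for `f` flat and surjective.
* `isQuasicoherent_of_pullback_qcqs`: for `f` flat, surjective, quasi-compact and quasi-separated,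
  `f^* M` quasi-coherent implies `M` quasi-coherent (`M` any module).
* `isQuasicoherent_of_pullback`: the same for `f` flat, surjective and quasi-compact (S11130).
-/

set_option autoImplicit false
set_option maxHeartbeats 400000
set_option linter.style.haveILetI false
universe u
open CategoryTheory CategoryTheory.Limits AlgebraicGeometry TopologicalSpace Opposite

namespace Groth.Agent.H28.QCohDescent

open Groth.Agent.H28.StalkTor

variable {X Y : Scheme.{u}}

/-- Pullback along a flat surjective morphism reflects zero objects. -/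
theorem isZero_of_isZero_pullback (f : X ⟶ Y) [Flat f] [Surjective f] (K : Y.Modules)
    (h : IsZero ((Scheme.Modules.pullback f).obj K)) : IsZero K := by
  refine isZero_of_stalkFunctor K (fun y => ?_)
  obtain ⟨x, rfl⟩ := f.surjective y
  have h1 : IsZero ((DerSch.stalkFunctor X x).obj ((Scheme.Modules.pullback f).obj K)) :=
    Functor.map_isZero _ h
  have h2 : IsZero ((ModuleCat.extendScalars.{u, u, u} (f.stalkMap x).hom).obj
      ((DerSch.stalkFunctor Y (f.base x)).obj K)) :=
    h1.of_iso ((stalkFunctorPullbackIso f x).app K).symm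
  letI : Algebra (Y.presheaf.stalk (f.base x)) (X.presheaf.stalk x) :=
    (f.stalkMap x).hom.toAlgebra
  haveI : Module.Flat (Y.presheaf.stalk (f.base x)) (X.presheaf.stalk x) :=
    AlgebraicGeometry.Flat.stalkMap f x
  haveI : IsLocalHom (algebraMap (Y.presheaf.stalk (f.base x)) (X.presheaf.stalk x)) :=
    inferInstanceAs (IsLocalHom (f.stalkMap x).hom)
  haveI : Module.FaithfullyFlat (Y.presheaf.stalk (f.base x)) (X.presheaf.stalk x) :=
    Module.FaithfullyFlat.of_flat_of_isLocalHom
  have h3 : Subsingleton (TensorProduct (Y.presheaf.stalk (f.base x)) (X.presheaf.stalk x)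
      ((DerSch.stalkFunctor Y (f.base x)).obj K)) :=
    ModuleCat.subsingleton_of_isZero h2
  haveI := h3
  have h4 : Subsingleton ((DerSch.stalkFunctor Y (f.base x)).obj K) :=
    Module.FaithfullyFlat.lTensor_reflects_triviality (Y.presheaf.stalk (f.base x))
      (X.presheaf.stalk x) _
  exact ModuleCat.isZero_of_subsingleton _

/-- The unit `M ⟶ f_* f^* M` is a monomorphism for `f` flat and surjective. -/
theorem mono_unit (f : X ⟶ Y) [Flat f] [Surjective f] (M : Y.Modules) :
    Mono ((Scheme.Modules.pullbackPushforwardAdjunction f).unit.app M) := by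
  set adj := Scheme.Modules.pullbackPushforwardAdjunction f
  set η := adj.unit.app M
  have hη : Mono ((Scheme.Modules.pullback f).map η) := by
    have : (Scheme.Modules.pullback f).map η ≫ adj.counit.app _ = 𝟙 _ :=
      adj.left_triangle_components M
    exact mono_of_mono_fac this
  have hι : Mono ((Scheme.Modules.pullback f).map (kernel.ι η)) :=
    Groth.Agent.S6514.mono_pullback_map f (kernel.ι η)
  have h0 : (Scheme.Modules.pullback f).map (kernel.ι η) = 0 := by
    rw [← cancel_mono ((Scheme.Modules.pullback f).map η), ← Functor.map_comp,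
      kernel.condition, Functor.map_zero, zero_comp]
  have hK : IsZero (kernel η) :=
    isZero_of_isZero_pullback f _ (IsZero.of_mono_eq_zero _ h0)
  exact Preadditive.mono_of_kernel_zero (hK.eq_of_src _ _)

/-- Descent of quasi-coherence (for arbitrary modules) along a flat, surjective, quasi-compact and
quasi-separated morphism. -/
theorem isQuasicoherent_of_pullback_qcqs (f : X ⟶ Y) [Flat f] [Surjective f] [QuasiCompact f]
    [QuasiSeparated f] (M : Y.Modules)
    (h : ((Scheme.Modules.pullback f).obj M).IsQuasicoherent) : M.IsQuasicoherent := by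
  set adj := Scheme.Modules.pullbackPushforwardAdjunction f
  haveI := h
  -- `Q = f_* f^* M`
  let Q : Y.Modules := (Scheme.Modules.pushforward f).obj ((Scheme.Modules.pullback f).obj M)
  haveI hQ : Q.IsQuasicoherent := Groth.Agent.H8.isQuasicoherent_pushforward f _
  let η : M ⟶ Q := adj.unit.app M
  haveI : Mono η := mono_unit f M
  let C : Y.Modules := cokernel η
  -- `f^* C` is quasi-coherent
  haveI hfQ : ((Scheme.Modules.pullback f).obj Q).IsQuasicoherent :=
    Groth.Agent.H8.isQuasicoherent_pullback f Q
  haveI : PreservesColimit (parallelPair η 0) (Scheme.Modules.pullback f) :=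
    adj.leftAdjoint_preservesColimits.preservesColimitsOfShape.preservesColimit
  haveI hcok : (cokernel ((Scheme.Modules.pullback f).map η)).IsQuasicoherent :=
    Groth.Agent.H8.isQuasicoherent_cokernel _
  haveI hfC : ((Scheme.Modules.pullback f).obj C).IsQuasicoherent :=
    Groth.Agent.H22.QCohLimits.isQuasicoherent_of_iso
      (PreservesCokernel.iso (Scheme.Modules.pullback f) η).symm
  let Q₂ : Y.Modules := (Scheme.Modules.pushforward f).obj ((Scheme.Modules.pullback f).obj C)
  haveI hQ₂ : Q₂.IsQuasicoherent := Groth.Agent.H8.isQuasicoherent_pushforward f _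
  let η₂ : C ⟶ Q₂ := adj.unit.app C
  haveI : Mono η₂ := mono_unit f C
  let g : Q ⟶ Q₂ := cokernel.π η ≫ η₂
  haveI hker : (kernel g).IsQuasicoherent := Groth.Agent.H22.QCohLimits.isQuasicoherent_kernel g
  -- `M ≅ kernel g`
  have e1 : kernel g ≅ kernel (cokernel.π η) := kernelCompMono (cokernel.π η) η₂
  have e2 : M ≅ kernel (cokernel.π η) :=
    IsLimit.conePointUniqueUpToIso (Abelian.monoIsKernelOfCokernel _ (colimit.isColimit _))
      (limit.isLimit _)
  exact Groth.Agent.H22.QCohLimits.isQuasicoherent_of_iso (e1 ≪≫ e2.symm)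

/-- Descent of quasi-coherence (for arbitrary modules) along a flat, surjective, quasi-compact
morphism. -/
theorem isQuasicoherent_of_pullback (f : X ⟶ Y) [Flat f] [Surjective f] [QuasiCompact f]
    (M : Y.Modules) (h : ((Scheme.Modules.pullback f).obj M).IsQuasicoherent) :
    M.IsQuasicoherent := by
  refine Groth.Agent.H90.QH.isQCoh_of_locally M (fun y => ?_)
  obtain ⟨A, B, _, _, φ, j, hj, p, ⟨a, rfl⟩, hsq, hφ⟩ :=
    Groth.Agent.H28.PCDescentSch.exists_chart f y
  haveI := hj
  refine ⟨j.opensRange, ⟨a, rfl⟩, ?_⟩
  have hflat : Flat (Spec.map (CommRingCat.ofHom φ)) ∧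
      Surjective (Spec.map (CommRingCat.ofHom φ)) :=
    (flat_and_surjective_SpecMap_iff _).2 hφ
  haveI := hflat.1
  haveI := hflat.2
  have h1 : ((Scheme.Modules.pullback (Spec.map (CommRingCat.ofHom φ))).obj
      ((Scheme.Modules.pullback j).obj M)).IsQuasicoherent := by
    haveI := h
    haveI : ((Scheme.Modules.pullback f ⋙ Scheme.Modules.pullback p).obj M).IsQuasicoherent :=
      Groth.Agent.H8.isQuasicoherent_pullback p _
    exact Groth.Agent.H22.QCohLimits.isQuasicoherent_of_iso
      ((Scheme.Modules.pullbackComp p f).app M ≪≫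
        (Scheme.Modules.pullbackCongr hsq.symm).app M ≪≫
        ((Scheme.Modules.pullbackComp (Spec.map (CommRingCat.ofHom φ)) j).app M).symm)
  haveI h2 : ((Scheme.Modules.pullback j).obj M).IsQuasicoherent :=
    isQuasicoherent_of_pullback_qcqs _ _ h1
  haveI h3 : (M.restrict j).IsQuasicoherent :=
    Groth.Agent.H22.QCohLimits.isQuasicoherent_of_iso
      ((Scheme.Modules.restrictFunctorIsoPullback j).app M).symm
  have e : j.opensRange.ι = j.isoOpensRange.inv ≫ j := (j.isoOpensRange_inv_comp).symm
  have i1 : M.restrict j.opensRange.ι ≅ (M.restrict j).restrict j.isoOpensRange.inv :=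
    (Scheme.Modules.restrictFunctorCongr e).app M ≪≫
      (Scheme.Modules.restrictFunctorComp j.isoOpensRange.inv j).app M
  exact Groth.Agent.H22.QCohLimits.isQuasicoherent_of_iso i1.symm

end Groth.Agent.H28.QCohDescent
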