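import Mathlib
import Groth.Agent.H28.QCohDescent
import Groth.Agent.H17.FTGen
import Groth.Agent.H90.LocFP
import Groth.Agent.H8.SuppClosed
import Groth.Agent.H8.StalkLocal

/-!
# Descent of finite type along flat open morphisms, for arbitrary `O`-modules (helper28)

* `finite_stalk_of_isFiniteType`, `finite_stalk_of_pullback` : finiteness of stalks and its descent
  along flat local homomorphisms.
* `LocGenAt`, `exists_locGenAt` : sections generating near a point.
* `exists_freeHom`, `subsingleton_stalk_cokernel` : the morphism `O_W^r ⟶ F|_W` attached to sections.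
* `locFG_restrict`, `isFiniteType_restrict` : finite type restricts to open subschemes.
* `subsingleton_stalk_pullback_iff` : vanishing of stalks of `f^*K` for flat `f`.
* `locFG_of_pullback` : if `f` is flat with open underlying map and `f^*F` is of finite type, then
  `F` is finitely generated near every point of the image (S9837).
-/

set_option autoImplicit false
set_option maxHeartbeats 400000
set_option linter.style.haveILetI false
universe u
open CategoryTheory CategoryTheory.Limits AlgebraicGeometry TopologicalSpace Opposite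

namespace Groth.Agent.H28.FTDescent

open Groth.Agent.H28.StalkTor

variable {X Y : Scheme.{u}}

/-- The stalk of a module of finite type is a finite module over the local ring. -/
theorem finite_stalk_of_isFiniteType (M : X.Modules)
    [SheafOfModules.IsFiniteType (R := X.ringCatSheaf) M] (x : X) :
    Module.Finite (X.presheaf.stalk x) ((DerSch.stalkFunctor X x).obj M) := by
  obtain ⟨U, hxU, r, σ, hσ⟩ := Groth.Agent.H17.FTGen.exists_local_generators M x
  have h := hσ x hxU
  refine ⟨?_⟩
  have h2 : (Submodule.span (X.presheaf.stalk x)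
      (Set.range fun j => M.presheaf.germ U x hxU (σ j))).FG :=
    Submodule.fg_span (Set.finite_range _)
  rw [h] at h2
  exact h2

/-- Descent of finiteness of stalks along a flat morphism. -/
theorem finite_stalk_of_pullback (f : X ⟶ Y) [Flat f] (F : Y.Modules)
    [SheafOfModules.IsFiniteType (R := X.ringCatSheaf) ((Scheme.Modules.pullback f).obj F)]
    (x : X) :
    Module.Finite (Y.presheaf.stalk (f.base x)) ((DerSch.stalkFunctor Y (f.base x)).obj F) := by
  have h1 := finite_stalk_of_isFiniteType ((Scheme.Modules.pullback f).obj F) x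
  letI : Algebra (Y.presheaf.stalk (f.base x)) (X.presheaf.stalk x) :=
    (f.stalkMap x).hom.toAlgebra
  haveI : Module.Flat (Y.presheaf.stalk (f.base x)) (X.presheaf.stalk x) :=
    AlgebraicGeometry.Flat.stalkMap f x
  haveI : IsLocalHom (algebraMap (Y.presheaf.stalk (f.base x)) (X.presheaf.stalk x)) :=
    inferInstanceAs (IsLocalHom (f.stalkMap x).hom)
  haveI : Module.FaithfullyFlat (Y.presheaf.stalk (f.base x)) (X.presheaf.stalk x) :=
    Module.FaithfullyFlat.of_flat_of_isLocalHom
  have e := (stalkFunctorPullbackIso f x).app F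
  have h2 : Module.Finite (X.presheaf.stalk x)
      (TensorProduct (Y.presheaf.stalk (f.base x)) (X.presheaf.stalk x)
      ((DerSch.stalkFunctor Y (f.base x)).obj F)) :=
    @Module.Finite.equiv _ _ _ _ _ _ _ _ h1 e.toLinearEquiv
  exact Module.Finite.of_finite_tensorProduct_of_faithfullyFlat (X.presheaf.stalk x)

section LocGen

variable {S : Scheme.{u}}

/-- Near `s`, every section of `F` is a combination of the sections `σ j` over `W`. -/
def LocGenAt (F : S.Modules) (W : S.Opens) {r : ℕ} (σ : Fin r → Γ(F, W)) (s : S) : Prop :=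
  ∀ (W0 : S.Opens) (_ : s ∈ W0) (t : Γ(F, W0)), ∃ (V : S.Opens) (hV0 : V ≤ W0) (hVW : V ≤ W),
    s ∈ V ∧ ∃ γ : Fin r → Γ(S, V), F.presheaf.map (homOfLE hV0).op t =
      ∑ j, γ j • F.presheaf.map (homOfLE hVW).op (σ j)

lemma res_res (F : S.Modules) {A B C : S.Opens} (h1 : A ≤ B) (h2 : B ≤ C) (t : Γ(F, C)) :
    F.presheaf.map (homOfLE h1).op (F.presheaf.map (homOfLE h2).op t) =
      F.presheaf.map (homOfLE (h1.trans h2)).op t := by
  rw [← ConcreteCategory.comp_apply, ← Functor.map_comp]
  rfl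

lemma resO_resO {A B C : S.Opens} (h1 : A ≤ B) (h2 : B ≤ C) (t : Γ(S, C)) :
    S.presheaf.map (homOfLE h1).op (S.presheaf.map (homOfLE h2).op t) =
      S.presheaf.map (homOfLE (h1.trans h2)).op t := by
  rw [← ConcreteCategory.comp_apply, ← Functor.map_comp]
  rfl

/-- A finitely generated stalk is generated by germs of sections over a common open, and
then every section is locally a combination of them. -/
theorem exists_locGenAt (F : S.Modules) (s : S)
    (h : Module.Finite (S.presheaf.stalk s) ((DerSch.stalkFunctor S s).obj F)) :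
    ∃ (W : S.Opens) (_ : s ∈ W) (r : ℕ) (σ : Fin r → Γ(F, W)), LocGenAt F W σ s := by
  classical
  obtain ⟨r, a, ha⟩ := Module.Finite.exists_fin (R := S.presheaf.stalk s)
    (M := (DerSch.stalkFunctor S s).obj F)
  choose U hsU τ hτ using fun j => TopCat.Presheaf.exists_germ_eq F.presheaf
    (x := s) (a j : F.presheaf.stalk s)
  have hsW : s ∈ (⨅ j, U j : S.Opens) := by
    show s ∈ ((⨅ j, U j : S.Opens) : Set S)
    rw [Opens.coe_iInf]
    exact Set.mem_iInter.2 hsU
  let σ : Fin r → Γ(F, (⨅ j, U j : S.Opens)) := fun j =>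
    F.presheaf.map (homOfLE (iInf_le U j)).op (τ j)
  have hσ : ∀ j, F.presheaf.germ (⨅ j, U j : S.Opens) s hsW (σ j) = a j := fun j => by
    rw [← hτ j]
    exact Groth.Agent.H8.germ_res s F (iInf_le U j) hsW (τ j)
  refine ⟨⨅ j, U j, hsW, r, σ, ?_⟩
  intro W0 hs0 t
  have hmem : (F.presheaf.germ W0 s hs0 t : (DerSch.stalkFunctor S s).obj F) ∈
      Submodule.span (S.presheaf.stalk s) (Set.range a) := by
    rw [ha]; trivial
  obtain ⟨c, hc⟩ := (Submodule.mem_span_range_iff_exists_fun (S.presheaf.stalk s)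
    (M := (DerSch.stalkFunctor S s).obj F) (v := a)).1 hmem
  choose U' hsU' ρ hρ using fun j => TopCat.Presheaf.exists_germ_eq S.presheaf
    (x := s) (c j)
  have hsI : s ∈ (⨅ j, U' j : S.Opens) := by
    show s ∈ ((⨅ j, U' j : S.Opens) : Set S)
    rw [Opens.coe_iInf]
    exact Set.mem_iInter.2 hsU'
  set V0 : S.Opens := W0 ⊓ (⨅ j, U j) ⊓ (⨅ j, U' j) with hV0def
  have hsV0 : s ∈ V0 := ⟨⟨hs0, hsW⟩, hsI⟩
  have h0 : V0 ≤ W0 := inf_le_left.trans inf_le_left
  have h1 : V0 ≤ (⨅ j, U j : S.Opens) := inf_le_left.trans inf_le_right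
  have h2 : ∀ j, V0 ≤ U' j := fun j => inf_le_right.trans (iInf_le U' j)
  let u0 : Γ(F, V0) := ∑ j, S.presheaf.map (homOfLE (h2 j)).op (ρ j) •
    F.presheaf.map (homOfLE h1).op (σ j)
  have hg : F.presheaf.germ V0 s hsV0 (F.presheaf.map (homOfLE h0).op t) =
      F.presheaf.germ V0 s hsV0 u0 := by
    rw [Groth.Agent.H8.germ_res s F h0 hsV0 t, map_sum]
    rw [← hc]
    refine Finset.sum_congr rfl (fun j _ => ?_)
    rw [Groth.Agent.H8.germ_smul, Groth.Agent.H8.germ_res s F h1 hsV0 (σ j), hσ j]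
    congr 1
    rw [← hρ j]
    exact (TopCat.Presheaf.germ_res_apply S.presheaf (homOfLE (h2 j)) s hsV0 (ρ j)).symm
  obtain ⟨V, hsV, iU, iV, hV⟩ := TopCat.Presheaf.germ_eq F.presheaf s hsV0 hsV0 _ _ hg
  have hVV0 : V ≤ V0 := leOfHom iU
  refine ⟨V, hVV0.trans h0, hVV0.trans h1, hsV,
    fun j => S.presheaf.map (homOfLE (hVV0.trans (h2 j))).op (ρ j), ?_⟩
  have e1 : F.presheaf.map (homOfLE (hVV0.trans h0)).op t =
      F.presheaf.map (homOfLE hVV0).op (F.presheaf.map (homOfLE h0).op t) :=
    (res_res F hVV0 h0 t).symm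
  have e2 : F.presheaf.map (homOfLE hVV0).op (F.presheaf.map (homOfLE h0).op t) =
      F.presheaf.map (homOfLE hVV0).op u0 := hV
  rw [e1, e2, map_sum]
  refine Finset.sum_congr rfl (fun j _ => ?_)
  rw [Groth.Agent.H8.res_smul, res_res, resO_resO]

end LocGen

section Free

open Groth.Agent.S17860 (freeι app_unit unitOne toO)

variable {T : Scheme.{u}}

/-- The morphism `O^r ⟶ N` attached to `r` global sections. -/
theorem exists_freeHom (N : T.Modules) {r : ℕ} (σ' : Fin r → Γ(N, ⊤)) :
    ∃ π : FlatMod.freeMod T r ⟶ N, ∀ (V : T.Opens) (c : Fin r → Γ(T, V)),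
      π.app V (∑ j, (freeι T r j).app V (show Γ(Coh.structureModule T, V) from c j)) =
        ∑ j, c j • N.presheaf.map (homOfLE (le_top : V ≤ ⊤)).op (σ' j) := by
  have hψ : ∀ j, ∃ ψ : Coh.structureModule T ⟶ N,
      ψ.app ⊤ (show Γ(Coh.structureModule T, ⊤) from (1 : Γ(T, ⊤))) = σ' j :=
    fun j => (Groth.Agent.H8.unit_hom_ev_bijective T N).2 _
  choose ψ hψ using hψ
  refine ⟨Sigma.desc ψ, fun V c => ?_⟩
  rw [map_sum]
  refine Finset.sum_congr rfl (fun j _ => ?_)
  have h1 : (Sigma.desc ψ).app V ((freeι T r j).app V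
      (show Γ(Coh.structureModule T, V) from c j)) =
      (ψ j).app V (show Γ(Coh.structureModule T, V) from c j) := by
    have h : freeι T r j ≫ Sigma.desc ψ = ψ j := Sigma.ι_desc _ _
    rw [← h]
    rfl
  rw [h1, app_unit]
  have h2 : (ψ j).app ⊤ (unitOne T ⊤) = σ' j := hψ j
  rw [h2]
  rfl

end Free

section Coker

open Groth.Agent.S17860 (freeι)

variable {S : Scheme.{u}}

/-- The global sections of `F|_W` attached to sections of `F` over `W`. -/
noncomputable def topSec (F : S.Modules) (W : S.Opens) {r : ℕ} (σ : Fin r → Γ(F, W)) :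
    Fin r → Γ(F.restrict W.ι, ⊤) := fun j =>
  (show Γ(F.restrict W.ι, ⊤) from F.presheaf.map (homOfLE (W.ι_image_le ⊤)).op (σ j))

/-- If the `σ j` generate `F` near `s`, the cokernel of the associated `O_W^r ⟶ F|_W` has zero
stalk at `s`. -/
theorem subsingleton_stalk_cokernel (F : S.Modules) (W : S.Opens) {r : ℕ} (σ : Fin r → Γ(F, W))
    (y : (↑W : Scheme.{u})) (h : LocGenAt F W σ (W.ι y))
    (π : FlatMod.freeMod (↑W) r ⟶ F.restrict W.ι)
    (hπ : ∀ (V : (↑W : Scheme.{u}).Opens) (c : Fin r → Γ((↑W : Scheme.{u}), V)),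
      π.app V (∑ j, (freeι (↑W) r j).app V
        (show Γ(Coh.structureModule (↑W : Scheme.{u}), V) from c j)) =
        ∑ j, c j • (F.restrict W.ι).presheaf.map (homOfLE (le_top : V ≤ ⊤)).op
          (topSec F W σ j)) :
    Subsingleton ↑((cokernel π).presheaf.stalk y) := by
  refine (Groth.Agent.H8.stalkMap_surjective_iff π y).1 ?_
  intro tb
  obtain ⟨W0, h0, t, rfl⟩ := TopCat.Presheaf.exists_germ_eq (F.restrict W.ι).presheaf tb
  have hs0 : W.ι y ∈ W.ι ''ᵁ W0 := ⟨y, h0, rfl⟩
  obtain ⟨V, hV0, hVW, hsV, γ, hγ⟩ := h (W.ι ''ᵁ W0) hs0 (show Γ(F, W.ι ''ᵁ W0) from t)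
  let VT : (↑W : Scheme.{u}).Opens := W.ι ⁻¹ᵁ V
  have hyVT : y ∈ VT := hsV
  have hle : W.ι ''ᵁ VT ≤ V := by
    rintro _ ⟨z, hz, rfl⟩
    exact hz
  have hVT0 : VT ≤ W0 := by
    intro z hz
    have hz' : W.ι z ∈ W.ι ''ᵁ W0 := hV0 hz
    obtain ⟨z', hz'0, hzz⟩ := hz'
    have : z' = z := W.ι.isOpenEmbedding.injective hzz
    exact this ▸ hz'0
  let c : Fin r → Γ((↑W : Scheme.{u}), VT) := fun j =>
    (show Γ((↑W : Scheme.{u}), VT) from S.presheaf.map (homOfLE hle).op (γ j))
  let z : Γ(FlatMod.freeMod (↑W) r, VT) := ∑ j, (freeι (↑W) r j).app VT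
    (show Γ(Coh.structureModule (↑W : Scheme.{u}), VT) from c j)
  have hz : π.app VT z = (F.restrict W.ι).presheaf.map (homOfLE hVT0).op t := by
    rw [hπ VT c]
    have e1 : (F.restrict W.ι).presheaf.map (homOfLE hVT0).op t =
        (show Γ(F.restrict W.ι, VT) from
          F.presheaf.map (homOfLE hle).op (F.presheaf.map (homOfLE hV0).op
            (show Γ(F, W.ι ''ᵁ W0) from t))) := by
      have := res_res F hle hV0 (show Γ(F, W.ι ''ᵁ W0) from t)
      exact this.symm
    rw [e1, hγ, map_sum]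
    refine Finset.sum_congr rfl (fun j _ => ?_)
    rw [Groth.Agent.H8.res_smul, res_res]
    have e2 : (F.restrict W.ι).presheaf.map (homOfLE (le_top : VT ≤ ⊤)).op (topSec F W σ j) =
        (show Γ(F.restrict W.ι, VT) from
          F.presheaf.map (homOfLE (hle.trans hVW)).op (σ j)) := by
      have := res_res F (W.ι.image_mono (le_top : VT ≤ ⊤)) (W.ι_image_le ⊤) (σ j)
      exact this
    rw [e2]
    exact Groth.Agent.H8.smul_restrict_ι F VT (S.presheaf.map (homOfLE hle).op (γ j))
      (F.presheaf.map (homOfLE (hle.trans hVW)).op (σ j))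
  refine ⟨(FlatMod.freeMod (↑W) r).presheaf.germ VT _ hyVT z, ?_⟩
  rw [Groth.Agent.H8.stalkMap_germ, hz]
  exact Groth.Agent.H8.germ_res _ (F.restrict W.ι) hVT0 hyVT t

end Coker

section Restrict

open Groth.Agent.H90.LR Scheme.Modules

set_option backward.isDefEq.respectTransparency false in
/-- Local finite generation passes to open subschemes. -/
lemma locFG_restrict {M : X.Modules} (U : X.Opens) (u : (↑U : Scheme.{u}))
    (h : LocFG M (U.ι u)) : LocFG (M.restrict U.ι) u := by
  obtain ⟨U0, hx0, G, hG⟩ := h.exists_opens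
  let V : X.Opens := U0 ⊓ U
  let k0 : (↑V : Scheme.{u}) ⟶ ↑U0 := X.homOfLE inf_le_left
  let k : (↑V : Scheme.{u}) ⟶ ↑U := X.homOfLE inf_le_right
  have hk : k0 ≫ U0.ι = k ≫ U.ι := by
    simp only [k0, k, Scheme.homOfLE_ι]
  have : PreservesColimitsOfSize.{u, u} (restrictFunctor k0) := inferInstance
  let iso : (restrictFunctor k0).obj ((restrictFunctor U0.ι).obj M) ≅
      (restrictFunctor k).obj ((restrictFunctor U.ι).obj M) :=
    ((restrictFunctorComp k0 U0.ι).app M).symm ≪≫ (restrictFunctorCongr hk).app M ≪≫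
      (restrictFunctorComp k U.ι).app M
  let v : (↑V : Scheme.{u}) := ⟨U.ι u, hx0, u.2⟩
  have hv : k v = u := by
    apply U.ι.isOpenEmbedding.injective
    have : (k ≫ U.ι) v = U.ι u := by
      simp only [k, Scheme.homOfLE_ι]
      rfl
    exact this
  exact ⟨↑V, k, inferInstance, v, hv,
    (G.map (restrictFunctor k0) (restrictUnitIso _).symm).ofEpi iso.hom, inferInstance⟩

/-- Finite type passes to open subschemes. -/
theorem isFiniteType_restrict (M : X.Modules)
    (h : SheafOfModules.IsFiniteType (R := X.ringCatSheaf) M) (U : X.Opens) :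
    SheafOfModules.IsFiniteType (R := (↑U : Scheme.{u}).ringCatSheaf) (M.restrict U.ι) :=
  isFT_of_locFG _ (fun u => locFG_restrict U u (locFG_of_isFT M h _))

end Restrict

section StalkZero

/-- For flat `f`, the stalk of `f^*K` at `x` vanishes iff the stalk of `K` at `f x` does. -/
theorem subsingleton_stalk_pullback_iff (f : X ⟶ Y) [Flat f] (K : Y.Modules) (x : X) :
    Subsingleton ↑(((Scheme.Modules.pullback f).obj K).presheaf.stalk x) ↔
      Subsingleton ↑(K.presheaf.stalk (f.base x)) := by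
  have e := (stalkFunctorPullbackIso f x).app K
  letI : Algebra (Y.presheaf.stalk (f.base x)) (X.presheaf.stalk x) :=
    (f.stalkMap x).hom.toAlgebra
  haveI : Module.Flat (Y.presheaf.stalk (f.base x)) (X.presheaf.stalk x) :=
    AlgebraicGeometry.Flat.stalkMap f x
  haveI : IsLocalHom (algebraMap (Y.presheaf.stalk (f.base x)) (X.presheaf.stalk x)) :=
    inferInstanceAs (IsLocalHom (f.stalkMap x).hom)
  haveI : Module.FaithfullyFlat (Y.presheaf.stalk (f.base x)) (X.presheaf.stalk x) :=
    Module.FaithfullyFlat.of_flat_of_isLocalHom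
  constructor
  · intro h
    have h1 : IsZero ((DerSch.stalkFunctor X x).obj ((Scheme.Modules.pullback f).obj K)) :=
      @ModuleCat.isZero_of_subsingleton _ _ _ h
    have h2 : IsZero ((ModuleCat.extendScalars.{u, u, u} (f.stalkMap x).hom).obj
        ((DerSch.stalkFunctor Y (f.base x)).obj K)) := h1.of_iso e.symm
    have h3 : Subsingleton (TensorProduct (Y.presheaf.stalk (f.base x)) (X.presheaf.stalk x)
        ((DerSch.stalkFunctor Y (f.base x)).obj K)) :=
      ModuleCat.subsingleton_of_isZero h2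
    haveI := h3
    exact Module.FaithfullyFlat.lTensor_reflects_triviality (Y.presheaf.stalk (f.base x))
      (X.presheaf.stalk x) ((DerSch.stalkFunctor Y (f.base x)).obj K)
  · intro h
    have h1 : IsZero ((DerSch.stalkFunctor Y (f.base x)).obj K) :=
      @ModuleCat.isZero_of_subsingleton _ _ _ h
    have h2 : IsZero ((DerSch.stalkFunctor X x).obj ((Scheme.Modules.pullback f).obj K)) :=
      (Functor.map_isZero (ModuleCat.extendScalars.{u, u, u} (f.stalkMap x).hom) h1).of_iso e
    exact ModuleCat.subsingleton_of_isZero h2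

end StalkZero

section Main

open Groth.Agent.H90.LR Scheme.Modules

/-- Generating sections of a free module of finite rank. -/
noncomputable def freeGen (T : Scheme.{u}) (r : ℕ) :
    (SheafOfModules.free.{u} (R := T.ringCatSheaf) (ULift.{u} (Fin r))).GeneratingSections where
  I := ULift.{u} (Fin r)
  s := (SheafOfModules.free.{u} (R := T.ringCatSheaf) (ULift.{u} (Fin r))).freeHomEquiv (𝟙 _)
  epi := by rw [Equiv.symm_apply_apply]; infer_instance

instance (T : Scheme.{u}) (r : ℕ) : (freeGen T r).IsFiniteType :=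
  ⟨inferInstanceAs (Finite (ULift.{u} (Fin r)))⟩

noncomputable def freeModIso (T : Scheme.{u}) (r : ℕ) :
    SheafOfModules.free.{u} (R := T.ringCatSheaf) (ULift.{u} (Fin r)) ≅ FlatMod.freeMod T r :=
  Sigma.whiskerEquiv (f := fun _ : ULift.{u} (Fin r) => SheafOfModules.unit T.ringCatSheaf)
    (g := fun _ : Fin r => Coh.structureModule T) Equiv.ulift (fun _ => Iso.refl _)

noncomputable def freeModGeneratingSections (T : Scheme.{u}) (r : ℕ) :
    (FlatMod.freeMod T r).GeneratingSections :=
  SheafOfModules.GeneratingSections.equivOfIso (freeModIso T r) (freeGen T r)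

instance (T : Scheme.{u}) (r : ℕ) : (freeModGeneratingSections T r).IsFiniteType :=
  ⟨inferInstanceAs (Finite (ULift.{u} (Fin r)))⟩

set_option backward.isDefEq.respectTransparency false in
/-- Local finite generation descends along a flat morphism with open underlying map. -/
theorem locFG_of_pullback (f : X ⟶ Y) [Flat f] (hf : IsOpenMap f.base) (F : Y.Modules)
    (h : SheafOfModules.IsFiniteType (R := X.ringCatSheaf) ((Scheme.Modules.pullback f).obj F))
    (x : X) : LocFG F (f.base x) := by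
  haveI := h
  have hfin := finite_stalk_of_pullback f F x
  obtain ⟨W, hyW, r, σ, hgen⟩ := exists_locGenAt F (f.base x) hfin
  obtain ⟨π, hπ⟩ := exists_freeHom (F.restrict W.ι) (topSec F W σ)
  let y' : (↑W : Scheme.{u}) := ⟨f.base x, hyW⟩
  have hQ0 : Subsingleton ↑((cokernel π).presheaf.stalk y') :=
    subsingleton_stalk_cokernel F W σ y' hgen π hπ
  -- restrict `f` over `W`
  let x' : (↑(f ⁻¹ᵁ W) : Scheme.{u}) := ⟨x, hyW⟩
  have hx' : (f ∣_ W).base x' = y' := Subtype.ext (morphismRestrict_base_coe f W x')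
  have eN : (Scheme.Modules.pullback (f ∣_ W)).obj (F.restrict W.ι) ≅
      ((Scheme.Modules.pullback f).obj F).restrict (f ⁻¹ᵁ W).ι :=
    (Scheme.Modules.pullback (f ∣_ W)).mapIso ((restrictFunctorIsoPullback W.ι).app F) ≪≫
      (Scheme.Modules.pullbackComp (f ∣_ W) W.ι).app F ≪≫
      (Scheme.Modules.pullbackCongr (morphismRestrict_ι f W)).app F ≪≫
      ((Scheme.Modules.pullbackComp (f ⁻¹ᵁ W).ι f).app F).symm ≪≫
      ((restrictFunctorIsoPullback (f ⁻¹ᵁ W).ι).app ((Scheme.Modules.pullback f).obj F)).symm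
  have hft1 : SheafOfModules.IsFiniteType (R := (↑(f ⁻¹ᵁ W) : Scheme.{u}).ringCatSheaf)
      (((Scheme.Modules.pullback f).obj F).restrict (f ⁻¹ᵁ W).ι) :=
    isFiniteType_restrict _ h _
  haveI hft2 : SheafOfModules.IsFiniteType (R := (↑(f ⁻¹ᵁ W) : Scheme.{u}).ringCatSheaf)
      ((Scheme.Modules.pullback (f ∣_ W)).obj (F.restrict W.ι)) :=
    haveI := hft1
    Groth.Agent.H8.isFiniteType_of_epi eN.inv
  haveI : Epi ((Scheme.Modules.pullback (f ∣_ W)).map (cokernel.π π)) := inferInstance
  haveI hft3 : SheafOfModules.IsFiniteType (R := (↑(f ⁻¹ᵁ W) : Scheme.{u}).ringCatSheaf)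
      ((Scheme.Modules.pullback (f ∣_ W)).obj (cokernel π)) :=
    Groth.Agent.H8.isFiniteType_of_epi ((Scheme.Modules.pullback (f ∣_ W)).map (cokernel.π π))
  have hz : Subsingleton ↑(((Scheme.Modules.pullback (f ∣_ W)).obj
      (cokernel π)).presheaf.stalk x') := by
    rw [subsingleton_stalk_pullback_iff, hx']
    exact hQ0
  obtain ⟨U', hx'U', hU'⟩ := Groth.Agent.H8.exists_open_subsingleton_stalk
    (M := (Scheme.Modules.pullback (f ∣_ W)).obj (cokernel π)) x' hz
  have hopen : IsOpen ((f ∣_ W).base '' (U' : Set ↥(↑(f ⁻¹ᵁ W) : Scheme.{u}))) := by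
    have h1 : IsOpenMap ((f ∣_ W).base : ↥(↑(f ⁻¹ᵁ W) : Scheme.{u}) → ↥(↑W : Scheme.{u})) := by
      have h2 : ((f ∣_ W).base : ↥(↑(f ⁻¹ᵁ W) : Scheme.{u}) → ↥(↑W : Scheme.{u})) =
          W.1.restrictPreimage f.base := morphismRestrict_base f W
      rw [h2]
      exact hf.restrictPreimage W.1
    exact h1 _ U'.2
  let V' : (↑W : Scheme.{u}).Opens := ⟨_, hopen⟩
  have hy'V' : y' ∈ V' := ⟨x', hx'U', hx'⟩
  have hQV : ∀ v ∈ V', Subsingleton ↑((cokernel π).presheaf.stalk v) := by
    rintro _ ⟨u', hu', rfl⟩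
    exact (subsingleton_stalk_pullback_iff (f ∣_ W) (cokernel π) u').1 (hU' u' hu')
  haveI : Epi ((restrictFunctor V'.ι).map π) := Groth.Agent.H8.epi_restrict_of_stalks π V' hQV
  have : PreservesColimitsOfSize.{u, u} (restrictFunctor V'.ι) := inferInstance
  have hN : LocFG (F.restrict W.ι) y' :=
    ⟨↑V', V'.ι, inferInstance, ⟨y', hy'V'⟩, rfl,
      ((freeModGeneratingSections (↑W) r).map (restrictFunctor V'.ι)
        (restrictUnitIso _).symm).ofEpi ((restrictFunctor V'.ι).map π), inferInstance⟩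
  exact LocFG.of_restrict W.ι hN

end Main

end Groth.Agent.H28.FTDescent
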