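import Mathlib
import Groth.Agent.S6514
import Groth.Agent.H90.ClosedPC
import Groth.Agent.H28.FTDescent
import Groth.Agent.H28.LpullLoc3

/-!
# fppf descent of `m`-pseudo-coherence for arbitrary objects of `D(O_X)` (helper28)

For flat `f`, `f^*` is exact, so `Lf^* ≅ (f^*).mapDerivedCategory` (`LpullIsoMap`).  We prove descent of
`m`-pseudo-coherence along flat, surjective, open morphisms for the functor induced by `f^*`.
-/

set_option autoImplicit false
set_option maxHeartbeats 400000
set_option linter.style.haveILetI false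
universe u
open CategoryTheory CategoryTheory.Limits AlgebraicGeometry TopologicalSpace Opposite

attribute [local instance] HasDerivedCategory.standard

namespace Groth.Agent.H28.FppfPC

open Groth.Agent.H90.SPerf Groth.Agent.H90.LR Groth.Agent.H90.CPC Groth.Agent.H90.TPC
open Pretriangulated
open AlgebraicGeometry.Scheme.Modules
open DerivedCategory DerivedCategory.TStructure

instance instPFL {X Y : Scheme.{u}} (f : X ⟶ Y) [Flat f] :
    PreservesFiniteLimits (Scheme.Modules.pullback f) :=
  Groth.Agent.S6514.preservesFiniteLimits_pullback f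
instance instPFC {X Y : Scheme.{u}} (f : X ⟶ Y) :
    PreservesFiniteColimits (Scheme.Modules.pullback f) :=
  Groth.Agent.S6514.preservesFiniteColimits_pullback f

/-- The functor `D(O_Y) ⥤ D(O_X)` induced by the exact functor `f^*` (`f` flat). -/
noncomputable abbrev pullD {X Y : Scheme.{u}} (f : X ⟶ Y) [Flat f] : DCoh.D Y ⥤ DCoh.D X :=
  (Scheme.Modules.pullback f).mapDerivedCategory

/-- For flat `f`, `Lf^*` is the functor induced by the exact functor `f^*`. -/
noncomputable def LpullIsoMap {X Y : Scheme.{u}} (f : X ⟶ Y) [Flat f] [DCoh.HasLpull f] :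
    DCoh.Lpull f ≅ pullD f := by
  haveI := Functor.isLeftDerivedFunctor_of_inverts (L := DerivedCategory.Qh)
    (HomotopyCategory.quasiIso Y.Modules (ComplexShape.up ℤ))
    (Scheme.Modules.pullback f).mapDerivedCategory
    ((Scheme.Modules.pullback f).mapDerivedCategoryFactorsh)
  exact Functor.leftDerivedUnique (Scheme.Modules.pullback f).mapDerivedCategory (DCoh.Lpull f)
    ((DCoh.pullKh f).totalLeftDerivedCounit DerivedCategory.Qh _)
    ((Scheme.Modules.pullback f).mapDerivedCategoryFactorsh).hom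
    (HomotopyCategory.quasiIso Y.Modules (ComplexShape.up ℤ))

/-- (C) compatibility of `pullD` with restriction to opens. -/
theorem nonempty_pullD_restrict_iso {X Y : Scheme.{u}} (f : X ⟶ Y) [Flat f] (V : Y.Opens)
    (E : DCoh.D Y) :
    Nonempty ((pullD (f ∣_ V)).obj ((DCoh.restrictD V.ι).obj E) ≅
      (DCoh.restrictD (f ⁻¹ᵁ V).ι).obj ((pullD f).obj E)) := by
  let F := DerivedCategory.Q.objPreimage E
  let e : DerivedCategory.Q.obj F ≅ E := DerivedCategory.Q.objObjPreimageIso E
  refine ⟨(pullD (f ∣_ V)).mapIso ((DCoh.restrictD V.ι).mapIso e.symm) ≪≫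
    (pullD (f ∣_ V)).mapIso ((Scheme.Modules.restrictFunctor V.ι).mapDerivedCategoryFactors.app F) ≪≫
    (Scheme.Modules.pullback (f ∣_ V)).mapDerivedCategoryFactors.app _ ≪≫
    DerivedCategory.Q.mapIso (Groth.Agent.H28.LpullLoc.cxIso f V F).symm ≪≫
    ((Scheme.Modules.restrictFunctor (f ⁻¹ᵁ V).ι).mapDerivedCategoryFactors.app _).symm ≪≫
    (DCoh.restrictD (f ⁻¹ᵁ V).ι).mapIso
      ((Scheme.Modules.pullback f).mapDerivedCategoryFactors.app F).symm ≪≫
    (DCoh.restrictD (f ⁻¹ᵁ V).ι).mapIso ((pullD f).mapIso e)⟩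

/-- `H^b` of a module placed in degree `b`. -/
noncomputable def singleHIso {C : Type*} [Category C] [Abelian C] [HasDerivedCategory C]
    (b : ℤ) (A : C) :
    (DerivedCategory.homologyFunctor C b).obj ((DerivedCategory.singleFunctor C b).obj A) ≅ A :=
  (DerivedCategory.homologyFunctor C b).mapIso ((DerivedCategory.singleFunctorIsoCompQ C b).app A) ≪≫
    (DerivedCategory.homologyFunctorFactors C b).app _ ≪≫
    (HomologicalComplex.homologyFunctorSingleIso C (ComplexShape.up ℤ) b).app A

/-- top cohomology locally finitely generated ⇒ locally `b`-pseudo-coherent. -/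
theorem locPC_of_locFG_top {Z : Scheme.{u}} (K : DCoh.D Z) (b : ℤ)
    (hK : ∀ i : ℤ, b < i → IsZero (DCoh.HD K i)) (z : Z) (h : LocFG (DCoh.HD K b) z) :
    LocPC b K z := by
  haveI : K.IsLE b := by
    rw [DerivedCategory.isLE_iff]
    exact fun i hi => hK i hi
  set T := (t.triangleLTGE b).obj K with hTdef
  have hT : T ∈ distTriang _ := t.triangleLTGE_distinguished b K
  have hT2 : T.obj₂ = K := rfl
  haveI h1le : t.IsLE T.obj₁ (b - 1) := inferInstance
  haveI h3ge : t.IsGE T.obj₃ b := inferInstance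
  -- homology of `obj₁` vanishes in degrees `≥ b`
  have hz1 : ∀ i : ℤ, b ≤ i → IsZero ((DerivedCategory.homologyFunctor _ i).obj T.obj₁) :=
    fun i hi => DerivedCategory.isZero_of_isLE T.obj₁ (b - 1) i (by omega)
  -- `obj₃` is `≤ b`
  haveI h3le : t.IsLE T.obj₃ b := by
    show T.obj₃.IsLE b
    rw [DerivedCategory.isLE_iff]
    intro i hi
    refine (HomologySequence.exact₃ T hT i (i + 1) rfl).isZero_of_both_zeros
      ((hK i hi).eq_of_src _ _) ((hz1 (i + 1) (by omega)).eq_of_tgt _ _)
  obtain ⟨A, ⟨eA⟩⟩ := DerivedCategory.exists_iso_singleFunctor_obj_of_isGE_of_isLE T.obj₃ b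
  -- `H^b(K) ≅ H^b(obj₃) ≅ A`
  haveI : Mono ((DerivedCategory.homologyFunctor _ b).map T.mor₂) :=
    (HomologySequence.mono_homologyMap_mor₂_iff T hT b).2 ((hz1 b le_rfl).eq_of_src _ _)
  haveI : Epi ((DerivedCategory.homologyFunctor _ b).map T.mor₂) :=
    (HomologySequence.epi_homologyMap_mor₂_iff T hT b (b + 1) rfl).2
      ((hz1 (b + 1) (by omega)).eq_of_tgt _ _)
  have hiso : IsIso ((DerivedCategory.homologyFunctor _ b).map T.mor₂) := isIso_of_mono_of_epi _
  let eH : DCoh.HD K b ≅ A :=
    @asIso _ _ _ _ ((DerivedCategory.homologyFunctor _ b).map T.mor₂) hiso ≪≫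
      (DerivedCategory.homologyFunctor _ b).mapIso eA ≪≫ singleHIso b A
  have hA : LocFG A z := h.of_iso eH
  -- `obj₃` is locally `b`-pseudo-coherent
  have h3 : LocPC b T.obj₃ z := by
    have h0 : LocPC 0 (DCoh.inD Z A) z := locPC_zero_of_locFG hA
    have h0' := locPC_shift (-b) h0
    rw [show (0 : ℤ) - (-b) = b by ring] at h0'
    exact locPC_of_iso
      (((DerivedCategory.singleFunctors Z.Modules).shiftIso (-b) b 0 (by omega)).app A ≪≫
        eA.symm) h0'
  have h1 : LocPC b T.obj₁ z := by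
    refine locPC_of_bounded (V := ⊤) trivial b (fun i hi => ?_)
    exact IsZero.of_iso (Functor.map_isZero (Scheme.Modules.restrictFunctor (⊤ : Z.Opens).ι)
        (hz1 i hi))
      ((homologyCommIso (Scheme.Modules.restrictFunctor (⊤ : Z.Opens).ι) i).app T.obj₁)
  exact locPC_obj₃ T.invRotate (inv_rot_of_distTriang _ hT) b z (locPC_shift_neg_one h3) h1


/-- (D) killing the top cohomology sheaf by a strictly perfect complex. -/
theorem exists_cone {U : Scheme.{u}} (K : DCoh.D U) (b : ℤ)
    (hK : ∀ i : ℤ, b < i → IsZero (DCoh.HD K i)) (y : U) (h : LocFG (DCoh.HD K b) y) :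
    ∃ (W : U.Opens) (_ : y ∈ W) (P : CochainComplex (W : Scheme.{u}).Modules ℤ)
      (C : DCoh.D (W : Scheme.{u}))
      (α : DerivedCategory.Q.obj P ⟶ (DCoh.restrictD W.ι).obj K)
      (β : (DCoh.restrictD W.ι).obj K ⟶ C) (γ : C ⟶ (DerivedCategory.Q.obj P)⟦(1 : ℤ)⟧),
      DCoh.IsStrictlyPerfect P ∧ Triangle.mk α β γ ∈ distTriang _ ∧
        ∀ i : ℤ, b ≤ i → IsZero (DCoh.HD C i) := by
  obtain ⟨W, hyW, P, α, hP, hα⟩ := locPC_of_locFG_top K b hK y h
  obtain ⟨C, β, γ, hT⟩ := distinguished_cocone_triangle α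
  refine ⟨W, hyW, P, C, α, β, γ, hP, hT, fun i hi => ?_⟩
  exact Groth.Agent.H28.LpullLoc.isZero_obj₃_of_mqi _ hT b ⟨hα.1, hα.2⟩ i hi

/-- stalks of a restriction -/
theorem subsingleton_stalk_restrict_iff {X : Scheme.{u}} (V : X.Opens) (N : X.Modules)
    (v : (V : Scheme.{u})) :
    Subsingleton ↑((N.restrict V.ι).presheaf.stalk v) ↔
      Subsingleton ↑(N.presheaf.stalk (V.ι v)) := by
  have e := (Scheme.Modules.restrictStalkNatIso V.ι v).app N
  exact e.addCommGroupIsoToAddEquiv.toEquiv.subsingleton_congr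

theorem subsingleton_stalk_of_isZero {X : Scheme.{u}} (N : X.Modules) (h : IsZero N) (x : X) :
    Subsingleton ↑(N.presheaf.stalk x) :=
  ModuleCat.subsingleton_of_isZero
    (Functor.map_isZero (DerSch.stalkFunctor X x) h)

theorem isZero_of_subsingleton_stalk {X : Scheme.{u}} (N : X.Modules)
    (h : ∀ x : X, Subsingleton ↑(N.presheaf.stalk x)) : IsZero N :=
  Groth.Agent.H28.StalkTor.isZero_of_stalkFunctor N (fun x => by
    have h1 : IsZero ((DerSch.stalkFunctor X x).obj N) :=
      @ModuleCat.isZero_of_subsingleton _ _ _ (h x)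
    exact h1)

/-- (E) local boundedness above descends along flat open maps. -/
theorem exists_bound {X' X : Scheme.{u}} (f : X' ⟶ X) [Flat f] (hf : IsOpenMap f.base)
    (E : DCoh.D X) (m : ℤ) (x' : X') (h : LocPC m ((pullD f).obj E) x') :
    ∃ (U : X.Opens) (_ : f.base x' ∈ U) (b : ℤ),
      ∀ i : ℤ, b < i → IsZero (DCoh.HD ((DCoh.restrictD U.ι).obj E) i) := by
  obtain ⟨V', hx', P, α, hP, hα⟩ := h
  obtain ⟨⟨a, b0, hab⟩, -⟩ := id hP
  refine ⟨⟨f.base '' (V' : Set X'), hf _ V'.isOpen⟩, ⟨x', hx', rfl⟩, max m b0, fun i hi => ?_⟩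
  have h1 := le_max_left m b0
  have h2 := le_max_right m b0
  -- vanishing upstairs
  have hz : IsZero ((Scheme.Modules.restrictFunctor V'.ι).obj
      ((Scheme.Modules.pullback f).obj (DCoh.HD E i))) := by
    have := hα.1 i (by omega)
    have hQ : IsZero ((DerivedCategory.homologyFunctor _ i).obj (DerivedCategory.Q.obj P)) :=
      IsZero.of_iso ((P.exactAt_iff_isZero_homology i).1
        (HomologicalComplex.ExactAt.of_isZero (hab i (Or.inr (by omega)))))
        ((DerivedCategory.homologyFunctorFactors _ i).app P)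
    have hz1 : IsZero ((DerivedCategory.homologyFunctor _ i).obj
        ((DCoh.restrictD V'.ι).obj ((pullD f).obj E))) :=
      IsZero.of_iso hQ (asIso ((DerivedCategory.homologyFunctor _ i).map α)).symm
    have hz2 : IsZero ((Scheme.Modules.restrictFunctor V'.ι).obj
        (DCoh.HD ((pullD f).obj E) i)) :=
      IsZero.of_iso hz1
        ((homologyCommIso (Scheme.Modules.restrictFunctor V'.ι) i).app ((pullD f).obj E)).symm
    exact IsZero.of_iso hz2 ((Scheme.Modules.restrictFunctor V'.ι).mapIso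
      ((homologyCommIso (Scheme.Modules.pullback f) i).app E)).symm
  -- stalks downstairs
  have hst : ∀ y' : X', y' ∈ V' → Subsingleton ↑((DCoh.HD E i).presheaf.stalk (f.base y')) := by
    intro y' hy'
    rw [← Groth.Agent.H28.FTDescent.subsingleton_stalk_pullback_iff f (DCoh.HD E i) y']
    exact (subsingleton_stalk_restrict_iff V' _ ⟨y', hy'⟩).1
      (subsingleton_stalk_of_isZero _ hz _)
  refine IsZero.of_iso ?_ ((homologyCommIso (Scheme.Modules.restrictFunctor
    (Scheme.Opens.ι (⟨f.base '' (V' : Set X'), hf _ V'.isOpen⟩ : X.Opens))) i).app E)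
  refine isZero_of_subsingleton_stalk _ (fun u => ?_)
  obtain ⟨y', hy', hu⟩ := u.2
  refine (subsingleton_stalk_restrict_iff _ (DCoh.HD E i) u).2 ?_
  have := hst y' hy'
  rw [hu] at this
  exact this

theorem isOpenMap_morphismRestrict {X' X : Scheme.{u}} (f : X' ⟶ X) (hf : IsOpenMap f.base)
    (U : X.Opens) : IsOpenMap (f ∣_ U).base := by
  rw [morphismRestrict_base]
  exact hf.restrictPreimage _

theorem isPC_restrictD {X : Scheme.{u}} (W : X.Opens) (K : DCoh.D X) (m : ℤ)
    (h : DCoh.IsPseudoCoherentD m K) : DCoh.IsPseudoCoherentD m ((DCoh.restrictD W.ι).obj K) := by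
  rw [isPC_iff] at h ⊢
  exact fun y => (locPC_restrict_iff W K m y).2 (h _)

theorem isPC_pullD_Q {X Y : Scheme.{u}} (f : X ⟶ Y) [Flat f] (P : CochainComplex Y.Modules ℤ)
    (hP : DCoh.IsStrictlyPerfect P) (m : ℤ) :
    DCoh.IsPseudoCoherentD m ((pullD f).obj (DerivedCategory.Q.obj P)) := by
  refine isPC_of_iso ((Scheme.Modules.pullback f).mapDerivedCategoryFactors.app P).symm ?_
  rw [isPC_iff]
  exact fun x => locPC_Q_of_isStrictlyPerfect
    (Groth.Agent.H28.LpullLoc.isStrictlyPerfect_pullback f hP) m x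

/-- Descent of `m`-pseudo-coherence for objects bounded above, by induction. -/
theorem descent_bounded (m : ℤ) (n : ℕ) : ∀ {X' X : Scheme.{u}} (f : X' ⟶ X) [Flat f]
    [Surjective f] (_ : IsOpenMap f.base) (E : DCoh.D X) (b : ℤ),
    (∀ i : ℤ, b < i → IsZero (DCoh.HD E i)) → b < m + n →
    DCoh.IsPseudoCoherentD m ((pullD f).obj E) → DCoh.IsPseudoCoherentD m E := by
  induction n with
  | zero =>
    intro X' X f _ _ hf E b hE hb _
    rw [isPC_iff]
    intro x
    refine locPC_of_bounded (V := ⊤) trivial m (fun i hi => ?_)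
    exact IsZero.of_iso (Functor.map_isZero (Scheme.Modules.restrictFunctor (⊤ : X.Opens).ι)
        (hE i (by omega)))
      ((homologyCommIso (Scheme.Modules.restrictFunctor (⊤ : X.Opens).ι) i).app E)
  | succ n ih =>
    intro X' X f _ _ hf E b hE hb hpc
    rw [isPC_iff]
    intro x
    obtain ⟨x', rfl⟩ := f.surjective x
    -- `H^b(E)` is locally finitely generated at `f x'`
    have hbm : m ≤ b ∨ b < m := le_or_gt m b
    rcases hbm with hbm | hbm
    · have hz : ∀ i : ℤ, b < i → IsZero (DCoh.HD ((pullD f).obj E) i) := fun i hi =>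
        IsZero.of_iso (Functor.map_isZero (Scheme.Modules.pullback f) (hE i hi))
          ((homologyCommIso (Scheme.Modules.pullback f) i).app E)
      have hft : CohB1.IsFT (DCoh.HD ((pullD f).obj E) b) :=
        (isFT_isFP_top b _ (isPC_mono hbm hpc)).1 hz
      have hft' : SheafOfModules.IsFiniteType (R := X'.ringCatSheaf)
          ((Scheme.Modules.pullback f).obj (DCoh.HD E b)) :=
        haveI : SheafOfModules.IsFiniteType (R := X'.ringCatSheaf)
          (((Scheme.Modules.pullback f).mapDerivedCategory ⋙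
            DerivedCategory.homologyFunctor X'.Modules b).obj E) := hft
        Groth.Agent.H8.isFiniteType_of_epi
          ((homologyCommIso (Scheme.Modules.pullback f) b).app E).hom
      have hfg : LocFG (DCoh.HD E b) (f.base x') :=
        Groth.Agent.H28.FTDescent.locFG_of_pullback f hf _ hft' x'
      obtain ⟨W, hxW, P, C, α, β, γ, hP, hT, hC⟩ := exists_cone E b hE (f.base x') hfg
      -- apply `pullD (f ∣_ W)` to the triangle
      have hT' := (pullD (f ∣_ W)).map_distinguished _ hT
      have h1 : ∀ k : ℤ, DCoh.IsPseudoCoherentD k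
          ((pullD (f ∣_ W)).obj (DerivedCategory.Q.obj P)) := fun k => isPC_pullD_Q _ P hP k
      have h2 : DCoh.IsPseudoCoherentD m
          ((pullD (f ∣_ W)).obj ((DCoh.restrictD W.ι).obj E)) :=
        isPC_of_iso (nonempty_pullD_restrict_iso f W E).some.symm (isPC_restrictD _ _ m hpc)
      have h3 : DCoh.IsPseudoCoherentD m ((pullD (f ∣_ W)).obj C) :=
        (isPC_triangle m _ hT').1 (h1 (m + 1)) h2
      haveI : Surjective (f ∣_ W) :=
        IsZariskiLocalAtTarget.restrict (P := @Surjective) inferInstance W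
      have h4 : DCoh.IsPseudoCoherentD m C :=
        ih (f ∣_ W) (isOpenMap_morphismRestrict f hf W) C (b - 1)
          (fun i hi => hC i (by omega)) (by push_cast at hb; omega) h3
      have h5 : DCoh.IsPseudoCoherentD m ((DCoh.restrictD W.ι).obj E) := by
        have hQ : DCoh.IsPseudoCoherentD m (DerivedCategory.Q.obj P) := by
          rw [isPC_iff]
          exact fun y => locPC_Q_of_isStrictlyPerfect hP m y
        exact (isPC_triangle m _ hT).2.1 hQ h4
      rw [isPC_iff] at h5
      exact (locPC_restrict_iff W E m ⟨f.base x', hxW⟩).1 (h5 _)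
    · refine locPC_of_bounded (V := ⊤) trivial m (fun i hi => ?_)
      exact IsZero.of_iso (Functor.map_isZero (Scheme.Modules.restrictFunctor (⊤ : X.Opens).ι)
          (hE i (by omega)))
        ((homologyCommIso (Scheme.Modules.restrictFunctor (⊤ : X.Opens).ι) i).app E)

/-- Descent of `m`-pseudo-coherence along flat, surjective, open morphisms. -/
theorem descent {X' X : Scheme.{u}} (f : X' ⟶ X) [Flat f] [Surjective f]
    (hf : IsOpenMap f.base) (E : DCoh.D X) (m : ℤ)
    (hpc : DCoh.IsPseudoCoherentD m ((pullD f).obj E)) : DCoh.IsPseudoCoherentD m E := by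
  rw [isPC_iff]
  intro x
  obtain ⟨x', rfl⟩ := f.surjective x
  obtain ⟨U, hxU, b, hb⟩ := exists_bound f hf E m x' (((isPC_iff m _).1 hpc) x')
  have h2 : DCoh.IsPseudoCoherentD m
      ((pullD (f ∣_ U)).obj ((DCoh.restrictD U.ι).obj E)) :=
    isPC_of_iso (nonempty_pullD_restrict_iso f U E).some.symm (isPC_restrictD _ _ m hpc)
  haveI : Surjective (f ∣_ U) :=
    IsZariskiLocalAtTarget.restrict (P := @Surjective) inferInstance U
  have h3 := descent_bounded m (b + 1 - m).toNat (f ∣_ U) (isOpenMap_morphismRestrict f hf U)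
    _ b hb (by omega) h2
  rw [isPC_iff] at h3
  exact (locPC_restrict_iff U E m ⟨f.base x', hxU⟩).1 (h3 _)

end Groth.Agent.H28.FppfPC
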