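import Mathlib
import Groth.Agent.H90.ChartRel
import Groth.Agent.H28.FppfPC
import Groth.Agent.H28.LpullLoc3
import Groth.Agent.H31.ProjCI
import Groth.Agent.H8.FlatBaseChange
import Groth.Agent.H87.RelPC_C4b
import Groth.Agent.H87.RelPC_C4

/-!
# Relative pseudo-coherence (chart form) is stable under flat base change (helper28)
-/

set_option autoImplicit false
set_option maxHeartbeats 400000
set_option linter.style.haveILetI false
universe u
open CategoryTheory CategoryTheory.Limits AlgebraicGeometry TopologicalSpace Opposite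

attribute [local instance] HasDerivedCategory.standard

namespace Groth.Agent.H28.RelPCBC

open Groth.Agent.H90.Chart Groth.Agent.H90.TPC Groth.Agent.H87.RelPC
open Groth.Agent.H31 Groth.Agent.H31.Stalk Groth.Agent.H31.ProjCI Groth.Agent.H40.StalkTensor

/-- (C1z) -/
theorem isZero_stk_pullback_pushforward {U Z U' Z' : Scheme.{u}}
    {i : U ⟶ Z} {q : Z' ⟶ Z} {i' : U' ⟶ Z'} {g' : U' ⟶ U} (sq : IsPullback g' i' i q)
    [IsClosedImmersion i] [IsClosedImmersion i'] (M : U.Modules) (z' : Z')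
    (hz' : z' ∉ Set.range i'.base) :
    IsZero ((stk (shX Z') z').obj
      ((Scheme.Modules.pullback q).obj ((Scheme.Modules.pushforward i).obj M))) := by
  have h1 : q z' ∉ Set.range i.base := by
    rintro ⟨u, hu⟩
    obtain ⟨w, hw1, hw2⟩ := Scheme.Pullback.exists_preimage_pullback u z' hu
    apply hz'
    refine ⟨sq.isoPullback.inv w, ?_⟩
    rw [← hw2, ← Scheme.Hom.comp_apply]
    rw [sq.isoPullback_inv_snd]
  have h2 := (good_push i M).zero (q z') h1
  have h3 := (ModuleCat.extendScalars.{u, u, u} (φx q z')).map_isZero h2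
  exact h3.of_iso ((stkPullbackIso q z').app ((Scheme.Modules.pushforward i).obj M))

/-- In a pushout square of commutative rings with one leg surjective, the kernel of the opposite
leg is generated by the image of the kernel. -/
theorem ker_le_map_ker_of_isPushout {R S R' S' : CommRingCat.{u}} {a : R ⟶ S} {b : R ⟶ R'}
    {c : S ⟶ S'} {d : R' ⟶ S'} (sq : IsPushout a b c d) (ha : Function.Surjective a.hom) :
    RingHom.ker d.hom ≤ Ideal.map b.hom (RingHom.ker a.hom) := by
  intro x hx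
  set J := Ideal.map b.hom (RingHom.ker a.hom) with hJ
  let π : R' →+* R' ⧸ J := Ideal.Quotient.mk J
  have hker : RingHom.ker a.hom ≤ RingHom.ker (π.comp b.hom) := by
    intro r hr
    rw [RingHom.mem_ker, RingHom.comp_apply]
    exact Ideal.Quotient.eq_zero_iff_mem.2 (Ideal.mem_map_of_mem _ hr)
  let l : S →+* R' ⧸ J := RingHom.liftOfSurjective a.hom ha ⟨π.comp b.hom, hker⟩
  have hl : l.comp a.hom = π.comp b.hom := RingHom.liftOfRightInverse_comp _ _ _ _
  let t : S' ⟶ CommRingCat.of (R' ⧸ J) :=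
    sq.desc (CommRingCat.ofHom l) (CommRingCat.ofHom π) (by
      ext r
      exact congrArg (fun φ : R →+* R' ⧸ J => φ r) hl)
  have ht : d ≫ t = CommRingCat.ofHom π := sq.inr_desc _ _ _
  have h1 : π x = 0 := by
    have := congrArg (fun φ : R' ⟶ CommRingCat.of (R' ⧸ J) => φ.hom x) ht
    simp only [CommRingCat.hom_comp, RingHom.comp_apply, CommRingCat.hom_ofHom] at this
    rw [← this, (RingHom.mem_ker).1 hx, map_zero]
  exact Ideal.Quotient.eq_zero_iff_mem.1 h1


/-- step (1) -/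
theorem exists_affine_section_of_stalkMap_eq_zero {U' Z' : Scheme.{u}} (i' : U' ⟶ Z')
    [IsClosedImmersion i'] (u' : U') (k : Z'.presheaf.stalk (i' u'))
    (hk : (i'.stalkMap u').hom k = 0) (W0 : Z'.Opens) (h0 : i' u' ∈ W0) :
    ∃ (W' : Z'.Opens) (hz : i' u' ∈ W') (s : Γ(Z', W')), IsAffineOpen W' ∧ W' ≤ W0 ∧
      Z'.presheaf.germ W' (i' u') hz s = k ∧ (i'.app W').hom s = 0 := by
  obtain ⟨W1, hz1, s1, rfl⟩ := Z'.presheaf.exists_germ_eq k
  have h1 : U'.presheaf.germ (i' ⁻¹ᵁ W1) u' hz1 ((i'.app W1).hom s1) =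
      U'.presheaf.germ (i' ⁻¹ᵁ W1) u' hz1 0 := by
    rw [map_zero]
    exact (Scheme.Hom.germ_stalkMap_apply i' W1 u' hz1 s1).symm.trans hk
  obtain ⟨N, hN, iU, iV, hres⟩ := U'.presheaf.germ_eq u' hz1 hz1 _ _ h1
  obtain ⟨N', hN'o, hN'⟩ := i'.isClosedEmbedding.isInducing.isOpen_iff.1 N.2
  let N'' : Z'.Opens := ⟨N', hN'o⟩
  have hzN : i' u' ∈ N'' := by
    have : u' ∈ (i' ⁻¹' N') := by rw [hN']; exact hN
    exact this
  obtain ⟨W', hW', hzW', hW'sub⟩ := exists_isAffineOpen_mem_and_subset (x := i' u')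
    (U := N'' ⊓ W1 ⊓ W0) ⟨⟨hzN, hz1⟩, h0⟩
  have hW'1 : W' ≤ W1 := fun y hy => (hW'sub hy).1.2
  have hW'N : i' ⁻¹ᵁ W' ≤ N := by
    intro y hy
    have : y ∈ i' ⁻¹' N' := (hW'sub hy).1.1
    rw [hN'] at this
    exact this
  refine ⟨W', hzW', Z'.presheaf.map (homOfLE hW'1).op s1, hW', fun y hy => (hW'sub hy).2, ?_, ?_⟩
  · exact Z'.presheaf.germ_res_apply (homOfLE hW'1) (i' u') hzW' s1
  · have nat := i'.naturality (homOfLE hW'1).op
    have h2 : (i'.app W').hom (Z'.presheaf.map (homOfLE hW'1).op s1) =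
        U'.presheaf.map (homOfLE (show i' ⁻¹ᵁ W' ≤ i' ⁻¹ᵁ W1 from fun y hy => hW'1 hy)).op
          ((i'.app W1).hom s1) := by
      have := congrArg (fun φ => φ.hom s1) nat
      exact this
    rw [h2]
    have h3 : (homOfLE (show i' ⁻¹ᵁ W' ≤ i' ⁻¹ᵁ W1 from fun y hy => hW'1 hy)).op =
        iU.op ≫ (homOfLE hW'N).op := rfl
    rw [h3, Functor.map_comp, CommRingCat.comp_apply, hres]
    simp

/-- (K1) -/
theorem ker_stalkMap_le_span {U Z U' Z' : Scheme.{u}}
    {i : U ⟶ Z} {q : Z' ⟶ Z} {i' : U' ⟶ Z'} {g' : U' ⟶ U} (sq : IsPullback g' i' i q)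
    [IsClosedImmersion i] [IsClosedImmersion i'] (u' : U')
    (k : Z'.presheaf.stalk (i' u')) (hk : (i'.stalkMap u').hom k = 0) :
    k ∈ Ideal.span {y : Z'.presheaf.stalk (i' u') | ∃ (W : Z.Opens) (b : Γ(Z, W))
      (hz : q (i' u') ∈ W), (i.app W).hom b = 0 ∧
        y = (q.stalkMap (i' u')).hom (Z.presheaf.germ W (q (i' u')) hz b)} := by
  obtain ⟨W, hW, hzW, -⟩ :=
    exists_isAffineOpen_mem_and_subset (x := q (i' u')) (U := ⊤) trivial
  obtain ⟨W', hz, s, hW', hW'W, rfl, hs⟩ :=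
    exists_affine_section_of_stalkMap_eq_zero i' u' k hk (q ⁻¹ᵁ W) hzW
  have hUaff : IsAffineOpen (i ⁻¹ᵁ W) := hW.preimage i
  have hpush : IsPushout (i.appLE W (i ⁻¹ᵁ W) le_rfl) (q.appLE W W' hW'W)
      (g'.appLE (i ⁻¹ᵁ W) (g' ⁻¹ᵁ (i ⁻¹ᵁ W) ⊓ i' ⁻¹ᵁ W') inf_le_left)
      (i'.appLE W' (g' ⁻¹ᵁ (i ⁻¹ᵁ W) ⊓ i' ⁻¹ᵁ W') inf_le_right) := by
    have := isIso_pushoutSection_of_isAffineOpen sq hW'W le_rfl rfl hW hW' hUaff
    exact (isIso_pushoutSection_iff sq hW'W le_rfl rfl).mp this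
  have happ : (i.appLE W (i ⁻¹ᵁ W) le_rfl) = i.app W := by
    simp [Scheme.Hom.appLE]
  have hsurj : Function.Surjective (i.appLE W (i ⁻¹ᵁ W) le_rfl).hom := by
    rw [happ]
    exact i.app_surjective W hW
  have hs' : s ∈ RingHom.ker (i'.appLE W' (g' ⁻¹ᵁ (i ⁻¹ᵁ W) ⊓ i' ⁻¹ᵁ W') inf_le_right).hom := by
    rw [RingHom.mem_ker, Scheme.Hom.appLE, CommRingCat.hom_comp, RingHom.comp_apply, hs, map_zero]
  have hmem := ker_le_map_ker_of_isPushout hpush hsurj hs'
  have key : ∀ t ∈ Ideal.map (q.appLE W W' hW'W).hom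
      (RingHom.ker (i.appLE W (i ⁻¹ᵁ W) le_rfl).hom),
      Z'.presheaf.germ W' (i' u') hz t ∈
        Ideal.span {y : Z'.presheaf.stalk (i' u') | ∃ (W : Z.Opens) (b : Γ(Z, W))
          (hz : q (i' u') ∈ W), (i.app W).hom b = 0 ∧
            y = (q.stalkMap (i' u')).hom (Z.presheaf.germ W (q (i' u')) hz b)} := by
    intro t ht
    induction ht using Submodule.span_induction with
    | mem t ht =>
      obtain ⟨b, hb, rfl⟩ := ht
      apply Ideal.subset_span
      refine ⟨W, b, hzW, ?_, ?_⟩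
      · rw [← happ]; exact hb
      · have := congrArg (fun φ => φ.hom b)
          (Groth.Agent.H8.germ_stalkMap_eq q hW'W (i' u') hz)
        exact this.symm
    | zero => rw [map_zero]; exact Ideal.zero_mem _
    | add a b _ _ ha hb => rw [map_add]; exact Ideal.add_mem _ ha hb
    | smul c a _ ha => rw [smul_eq_mul, map_mul]; exact Ideal.mul_mem_left _ _ ha
  exact key s hmem

set_option backward.isDefEq.respectTransparency false in
/-- (K2a) germs of sections vanishing on `U` kill the stalks of `i_* M`. -/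
theorem germ_smul_stk_pushforward {U Z : Scheme.{u}} (i : U ⟶ Z) [IsClosedImmersion i]
    (M : U.Modules) (W : Z.Opens) (b : Γ(Z, W)) (hb : (i.app W).hom b = 0) (z : Z) (hz : z ∈ W)
    (x : ((stk (shX Z) z).obj ((Scheme.Modules.pushforward i).obj M) :
      ModuleCat.{u} (Rx (shX Z).obj z))) :
    (Z.presheaf.germ W z hz b : Rx (shX Z).obj z) • x = 0 := by
  by_cases h : z ∈ Set.range i.base
  · obtain ⟨u, rfl⟩ := h
    refine (good_push i M).kill u _ ?_ x
    show (i.stalkMap u).hom (Z.presheaf.germ W (i u) hz b) = 0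
    rw [Scheme.Hom.germ_stalkMap_apply, hb, map_zero]
  · have h0 := (good_push i M).zero z h
    have h1 : x = 0 := by
      have := congrArg (fun g => g.hom x) (h0.eq_of_src (𝟙 _) 0)
      exact this
    rw [h1, smul_zero]

set_option backward.isDefEq.respectTransparency false in
open ChangeOfRings TensorProduct in
lemma extendScalars_smul_eq_zero {R S : Type u} [CommRing R] [CommRing S] (φ : R →+* S)
    (N : ModuleCat.{u} R) (β : R) (hβ : ∀ x : N, β • x = 0)
    (w : (ModuleCat.extendScalars.{u, u, u} φ).obj N) : (φ β) • w = 0 := by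
  letI : Module R S := Module.compHom S φ
  refine TensorProduct.induction_on w (smul_zero _) (fun (s : S) x => ?_)
    (fun w1 w2 h1 h2 => ?_)
  · have h1 : (φ β) • (s ⊗ₜ[R,φ] x) = (φ β * s) ⊗ₜ[R,φ] x :=
      ModuleCat.ExtendScalars.smul_tmul ..
    have h2 : (φ β * s : S) = β • s := rfl
    refine h1.trans ?_
    show (φ β * s) ⊗ₜ[R] x = 0
    rw [h2, TensorProduct.smul_tmul, hβ, TensorProduct.tmul_zero]
  · rw [smul_add, h1, h2, add_zero]

set_option backward.isDefEq.respectTransparency false in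
/-- (K2b) -/
theorem stalkMap_smul_stk_pullback {Z Z' : Scheme.{u}} (q : Z' ⟶ Z) (G : Z.Modules) (z' : Z')
    (β : Rx (shX Z).obj (q z'))
    (hβ : ∀ x : ((stk (shX Z) (q z')).obj G : ModuleCat.{u} (Rx (shX Z).obj (q z'))), β • x = 0)
    (n : ((stk (shX Z') z').obj ((Scheme.Modules.pullback q).obj G) :
      ModuleCat.{u} (Rx (shX Z').obj z'))) :
    (φx q z' β) • n = 0 := by
  let e := (stkPullbackIso q z').app G
  have key := extendScalars_smul_eq_zero (φx q z') ((stk (shX Z) (q z')).obj G) β hβ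
  have h1 : n = e.inv.hom (e.hom.hom n) := by
    have := congrArg (fun g => g.hom n) e.hom_inv_id
    exact this.symm
  calc (φx q z' β) • n = (φx q z' β) • e.inv.hom (e.hom.hom n) :=
        congrArg (fun t => (φx q z' β) • t) h1
    _ = e.inv.hom ((φx q z' β) • e.hom.hom n) := (e.inv.hom.map_smul _ _).symm
    _ = 0 := by rw [key, map_zero]

set_option backward.isDefEq.respectTransparency false in
/-- (C1k) -/
theorem kill_stk_pullback_pushforward {U Z U' Z' : Scheme.{u}}
    {i : U ⟶ Z} {q : Z' ⟶ Z} {i' : U' ⟶ Z'} {g' : U' ⟶ U} (sq : IsPullback g' i' i q)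
    [IsClosedImmersion i] [IsClosedImmersion i'] (M : U.Modules) (u' : U')
    (k : Rx (shX Z').obj (i'.base u')) (hk : StalkRS.φx i'.base (cc i') u' k = 0)
    (n : ((stk (shX Z') (i'.base u')).obj
      ((Scheme.Modules.pullback q).obj ((Scheme.Modules.pushforward i).obj M)) :
        ModuleCat.{u} (Rx (shX Z').obj (i'.base u')))) : k • n = 0 := by
  have hk' : (i'.stalkMap u').hom k = 0 := hk
  have hmem := ker_stalkMap_le_span sq u' k hk'
  have key : ∀ y ∈ Ideal.span {y : Z'.presheaf.stalk (i' u') | ∃ (W : Z.Opens) (b : Γ(Z, W))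
      (hz : q (i' u') ∈ W), (i.app W).hom b = 0 ∧
        y = (q.stalkMap (i' u')).hom (Z.presheaf.germ W (q (i' u')) hz b)},
      ∀ n : ((stk (shX Z') (i'.base u')).obj
        ((Scheme.Modules.pullback q).obj ((Scheme.Modules.pushforward i).obj M)) :
          ModuleCat.{u} (Rx (shX Z').obj (i'.base u'))),
        (y : Rx (shX Z').obj (i'.base u')) • n = 0 := by
    intro y hy
    induction hy using Submodule.span_induction with
    | mem y hy =>
      obtain ⟨W, b, hz, hb, rfl⟩ := hy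
      intro n
      exact stalkMap_smul_stk_pullback q ((Scheme.Modules.pushforward i).obj M) (i' u') _
        (fun x => germ_smul_stk_pushforward i M W b hb _ hz x) n
    | zero => intro n; exact zero_smul _ _
    | add a b _ _ ha hb => intro n; rw [add_smul, ha, hb, add_zero]
    | smul c a _ ha => intro n; rw [smul_eq_mul, mul_smul, ha, smul_zero]
  exact key k hmem n

theorem good_pullback_pushforward {U Z U' Z' : Scheme.{u}}
    {i : U ⟶ Z} {q : Z' ⟶ Z} {i' : U' ⟶ Z'} {g' : U' ⟶ U} (sq : IsPullback g' i' i q)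
    [IsClosedImmersion i] [IsClosedImmersion i'] (M : U.Modules) :
    Good i'.base (cc i')
      ((Scheme.Modules.pullback q).obj ((Scheme.Modules.pushforward i).obj M)) where
  zero z' hz' := isZero_stk_pullback_pushforward sq M z' hz'
  kill u' k hk n := kill_stk_pullback_pushforward sq M u' k hk n

/-- (C1) -/
theorem nonempty_pushforward_pullback_iso_of_isClosedImmersion {U Z U' Z' : Scheme.{u}}
    {i : U ⟶ Z} {q : Z' ⟶ Z} {i' : U' ⟶ Z'} {g' : U' ⟶ U} (sq : IsPullback g' i' i q)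
    [IsClosedImmersion i] [IsClosedImmersion i'] :
    Nonempty (Scheme.Modules.pushforward i ⋙ Scheme.Modules.pullback q ≅
      Scheme.Modules.pullback g' ⋙ Scheme.Modules.pushforward i') := by
  let F := Scheme.Modules.pushforward i ⋙ Scheme.Modules.pullback q
  haveI h1 : ∀ M, IsIso ((Functor.whiskerLeft F
      (Scheme.Modules.pullbackPushforwardAdjunction i').unit).app M) := fun M =>
    isIso_unit i' _ (good_pullback_pushforward sq M)
  haveI : IsIso (Functor.whiskerLeft F (Scheme.Modules.pullbackPushforwardAdjunction i').unit) :=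
    NatIso.isIso_of_isIso_app _
  haveI h2 : ∀ M, IsIso ((Scheme.Modules.pullbackPushforwardAdjunction i).counit.app M) :=
    fun M => isIso_counit i M
  haveI : IsIso (Scheme.Modules.pullbackPushforwardAdjunction i).counit :=
    NatIso.isIso_of_isIso_app _
  let e1 : F ≅ F ⋙ (Scheme.Modules.pullback i' ⋙ Scheme.Modules.pushforward i') :=
    (Functor.rightUnitor F).symm ≪≫
      asIso (Functor.whiskerLeft F (Scheme.Modules.pullbackPushforwardAdjunction i').unit)
  let e2 : Scheme.Modules.pullback q ⋙ Scheme.Modules.pullback i' ≅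
      Scheme.Modules.pullback i ⋙ Scheme.Modules.pullback g' :=
    Scheme.Modules.pullbackComp i' q ≪≫ Scheme.Modules.pullbackCongr sq.w.symm ≪≫
      (Scheme.Modules.pullbackComp g' i).symm
  let e3 : Scheme.Modules.pushforward i ⋙ Scheme.Modules.pullback i ≅ 𝟭 _ :=
    asIso (Scheme.Modules.pullbackPushforwardAdjunction i).counit
  exact ⟨e1 ≪≫ Functor.associator _ _ _ ≪≫
    Functor.isoWhiskerLeft _ ((Functor.associator _ _ _).symm ≪≫
      Functor.isoWhiskerRight e2 _ ≪≫ Functor.associator _ _ _) ≪≫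
    (Functor.associator _ _ _).symm ≪≫ Functor.isoWhiskerRight e3 _ ≪≫ Functor.leftUnitor _⟩

/-- (C2) pseudo-coherence of the direct image along a closed immersion after a flat base change. -/
theorem isPC_push_pullback {U Z U' Z' : Scheme.{u}}
    {i : U ⟶ Z} {q : Z' ⟶ Z} {i' : U' ⟶ Z'} {g' : U' ⟶ U} (sq : IsPullback g' i' i q)
    [IsClosedImmersion i] [IsClosedImmersion i'] [Flat q]
    (K : CochainComplex U.Modules ℤ) (m : ℤ)
    (h : DCoh.IsPseudoCoherentD m (DerivedCategory.Q.obj ((DerSch.pushCx i).obj K))) :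
    DCoh.IsPseudoCoherentD m (DerivedCategory.Q.obj ((DerSch.pushCx i').obj
      (((Scheme.Modules.pullback g').mapHomologicalComplex (ComplexShape.up ℤ)).obj K))) := by
  obtain ⟨e⟩ := nonempty_pushforward_pullback_iso_of_isClosedImmersion sq
  haveI : DCoh.HasLpull q := Groth.Agent.H31.Stalk.hasLpull q
  have h1 := Groth.Agent.H28.LpullLoc.isPseudoCoherentD_Lpull q m _ h
  let e1 : (DCoh.Lpull q).obj (DerivedCategory.Q.obj ((DerSch.pushCx i).obj K)) ≅
      DerivedCategory.Q.obj (((Scheme.Modules.pullback q).mapHomologicalComplex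
        (ComplexShape.up ℤ)).obj ((DerSch.pushCx i).obj K)) :=
    (Groth.Agent.H28.FppfPC.LpullIsoMap q).app _ ≪≫
      (Scheme.Modules.pullback q).mapDerivedCategoryFactors.app _
  let e2 : ((Scheme.Modules.pullback q).mapHomologicalComplex
        (ComplexShape.up ℤ)).obj ((DerSch.pushCx i).obj K) ≅
      (DerSch.pushCx i').obj
        (((Scheme.Modules.pullback g').mapHomologicalComplex (ComplexShape.up ℤ)).obj K) :=
    (NatIso.mapHomologicalComplex e (ComplexShape.up ℤ)).app K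
  exact isPC_of_iso (e1 ≪≫ DerivedCategory.Q.mapIso e2) h1

/-- (C3) restriction to opens commutes with pull-back. -/
noncomputable def restrictPullbackIso {X' X : Scheme.{u}} (g : X' ⟶ X) (U : X.Opens)
    (U' : X'.Opens) (gU : (U' : Scheme.{u}) ⟶ (U : Scheme.{u})) (hg : gU ≫ U.ι = U'.ι ≫ g) :
    Scheme.Modules.pullback g ⋙ Scheme.Modules.restrictFunctor U'.ι ≅
      Scheme.Modules.restrictFunctor U.ι ⋙ Scheme.Modules.pullback gU :=
  Functor.isoWhiskerLeft _ (Scheme.Modules.restrictFunctorIsoPullback U'.ι) ≪≫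
    Scheme.Modules.pullbackComp U'.ι g ≪≫
    Scheme.Modules.pullbackCongr hg.symm ≪≫
    (Scheme.Modules.pullbackComp gU U.ι).symm ≪≫
    Functor.isoWhiskerRight (Scheme.Modules.restrictFunctorIsoPullback U.ι).symm _

/-- (C6) the product chart of a good pair is good for `Lg^* E`. -/
theorem good_Lpull {X S X' S' : Scheme.{u}} {f : X ⟶ S} {h : S' ⟶ S} {f' : X' ⟶ S'}
    {g : X' ⟶ X} (sq : IsPullback g f' f h) [Flat h] [DCoh.HasLpull g]
    {V : S.Opens} {V' : S'.Opens} {U : X.Opens}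
    (hV : IsAffineOpen V) (hV' : IsAffineOpen V') (hU : IsAffineOpen U)
    (hVV' : V' ≤ h ⁻¹ᵁ V) (hUV : U ≤ f ⁻¹ᵁ V) (m : ℤ) (E : DCoh.D X)
    (H : Good f m E U V hUV) :
    Good f' m ((DCoh.Lpull g).obj E) (g ⁻¹ᵁ U ⊓ f' ⁻¹ᵁ V') V' inf_le_right := by
  obtain ⟨n, φ, hφ, hPC⟩ := H
  obtain ⟨φ', gU, hφ', hgU, sqU⟩ := exists_chart_baseChange sq hV hV' hU hVV' hUV φ hφ
  refine ⟨n, φ', hφ', ?_⟩
  have hU' : IsAffineOpen (g ⁻¹ᵁ U ⊓ f' ⁻¹ᵁ V') :=
    Groth.Agent.H8.isAffineOpen_prodOpen sq hV hV' hVV' hU hUV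
  haveI : IsClosedImmersion (DerSch.chartImm U φ) := isClosedImmersion_imm hU φ hφ.1
  haveI : IsClosedImmersion (DerSch.chartImm (g ⁻¹ᵁ U ⊓ f' ⁻¹ᵁ V') φ') :=
    isClosedImmersion_imm hU' φ' hφ'.1
  haveI := flat_Spec_map_mvPolynomial_map h hV hV' hVV' n
  obtain ⟨G, hG, ⟨eG⟩⟩ := Groth.Agent.H28.LpullLoc.exists_kflat_rep E
  have e : DCoh.toD X' (((Scheme.Modules.pullback g).mapHomologicalComplex
      (ComplexShape.up ℤ)).obj G) ≅ (DCoh.Lpull g).obj E :=
    (Groth.Agent.H31.Stalk.LpullObjIso g G hG).symm ≪≫ (DCoh.Lpull g).mapIso eG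
  refine (forall_rep_iff hU' φ' hφ'.1 m _ _ e).2 ?_
  have h1 := hPC G ⟨eG⟩
  have h2 := isPC_push_pullback sqU ((DCoh.restrictCx U).obj G) m h1
  let e3 := (NatIso.mapHomologicalComplex (restrictPullbackIso g U _ gU hgU)
    (ComplexShape.up ℤ)).app G
  exact isPC_of_iso (DerivedCategory.Q.mapIso
    ((DerSch.pushCx (DerSch.chartImm (g ⁻¹ᵁ U ⊓ f' ⁻¹ᵁ V') φ')).mapIso e3.symm)) h2

/-- Relative pseudo-coherence (chart form) is stable under flat base change. -/
theorem isPseudoCoherentRel_Lpull {X S S' : Scheme.{u}} (f : X ⟶ S) [LocallyOfFiniteType f]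
    (h : S' ⟶ S) [Flat h] [DCoh.HasLpull (pullback.fst f h)] (m : ℤ) (E : DCoh.D X)
    (hE : DerSch.IsPseudoCoherentRel f m E) :
    DerSch.IsPseudoCoherentRel (pullback.snd f h) m
      ((DCoh.Lpull (pullback.fst f h)).obj E) := by
  have sq : IsPullback (pullback.fst f h) (pullback.snd f h) f h := IsPullback.of_hasPullback f h
  refine ⟨inferInstance, {V' : S'.affineOpens | ∃ V : S.affineOpens,
    (V' : S'.Opens) ≤ h ⁻¹ᵁ (V : S.Opens)}, ?_, ?_⟩
  · rw [eq_top_iff]
    intro x _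
    obtain ⟨V, hV, hxV, -⟩ :=
      exists_isAffineOpen_mem_and_subset (x := h x) (U := ⊤) trivial
    obtain ⟨V', hV', hxV', hV'V⟩ :=
      exists_isAffineOpen_mem_and_subset (x := x) (U := h ⁻¹ᵁ V) hxV
    rw [TopologicalSpace.Opens.mem_iSup]
    refine ⟨⟨V', hV'⟩, ?_⟩
    rw [TopologicalSpace.Opens.mem_iSup]
    exact ⟨⟨⟨V, hV⟩, fun y hy => hV'V hy⟩, hxV'⟩
  · rintro V' ⟨V, hVV'⟩
    refine ⟨{U' : (pullback f h).affineOpens | ∃ U : X.affineOpens,
      ∃ _ : (U : X.Opens) ≤ f ⁻¹ᵁ (V : S.Opens),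
        (U' : (pullback f h).Opens) = (pullback.fst f h) ⁻¹ᵁ (U : X.Opens) ⊓
          (pullback.snd f h) ⁻¹ᵁ (V' : S'.Opens)}, ?_, ?_⟩
    · apply le_antisymm
      · refine iSup₂_le ?_
        rintro U' ⟨U, hUV, hU'⟩
        rw [hU']
        exact inf_le_right
      · intro x hx
        have hw : f (pullback.fst f h x) = h (pullback.snd f h x) := by
          rw [← Scheme.Hom.comp_apply, ← Scheme.Hom.comp_apply, sq.w]
        have hx1 : pullback.fst f h x ∈ f ⁻¹ᵁ (V : S.Opens) := by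
          change f (pullback.fst f h x) ∈ (V : S.Opens)
          rw [hw]
          exact hVV' hx
        obtain ⟨U, hU, hxU, hUV⟩ :=
          exists_isAffineOpen_mem_and_subset (x := pullback.fst f h x)
            (U := f ⁻¹ᵁ (V : S.Opens)) hx1
        rw [TopologicalSpace.Opens.mem_iSup]
        refine ⟨⟨_, Groth.Agent.H8.isAffineOpen_prodOpen sq V.2 V'.2 hVV' hU
          (fun y hy => hUV hy)⟩, ?_⟩
        rw [TopologicalSpace.Opens.mem_iSup]
        exact ⟨⟨⟨U, hU⟩, fun y hy => hUV hy, rfl⟩, ⟨hxU, hx⟩⟩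
    · rintro U' ⟨U, hUV, hU'⟩ h'
      have H := good_Lpull sq V.2 V'.2 U.2 hVV' hUV m E
        (good_of_isPseudoCoherentRel hE U.2 V.2 hUV)
      exact good_congr (pullback.snd f h) hU'.symm rfl _ h' H

end Groth.Agent.H28.RelPCBC
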