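import Groth.Agent.H28.LpullLoc3

/-!
# Local free presentations of perfect objects (helper28 library)

* `restrictFreeModIso`, `isFinLocFree_of_iso_freeMod`, `isoFreeOfLift`, `isZero_freeMod_zero`.
* `exists_free_presentation` : a perfect object is, locally, represented by a bounded complex of
  finite free modules (uniformly in the representing complex).
-/

set_option maxHeartbeats 400000
set_option autoImplicit false
universe u
open CategoryTheory CategoryTheory.Limits AlgebraicGeometry TopologicalSpace Opposite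
attribute [local instance] HasDerivedCategory.standard

namespace Groth.Agent.H28.LpullLoc

open Groth.Agent.H31.Stalk

variable {X : Scheme.{u}}

theorem mem_finset_inf {ι : Type*} (s : Finset ι) (f : ι → X.Opens) (x : X) :
    x ∈ s.inf f ↔ ∀ i ∈ s, x ∈ f i := by
  classical
  induction s using Finset.induction_on with
  | empty => simp
  | insert a s ha ih =>
    rw [Finset.inf_insert]
    constructor
    · rintro ⟨h1, h2⟩ i hi
      rcases Finset.mem_insert.1 hi with rfl | hi
      · exact h1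
      · exact ih.1 h2 i hi
    · intro h
      exact ⟨h a (Finset.mem_insert_self _ _),
        ih.2 (fun i hi => h i (Finset.mem_insert_of_mem hi))⟩

/-- Restriction of a free module along an open immersion is free. -/
noncomputable def restrictFreeModIso {U : Scheme.{u}} (j : U ⟶ X) [IsOpenImmersion j] (n : ℕ) :
    (Scheme.Modules.restrictFunctor j).obj (FlatMod.freeMod X n) ≅ FlatMod.freeMod U n :=
  (Scheme.Modules.restrictFunctorIsoPullback j).app _ ≪≫ pullbackFreeModIso j n

theorem isFinLocFree_of_iso_freeMod {M : X.Modules} {n : ℕ} (e : M ≅ FlatMod.freeMod X n) :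
    FlatMod.IsFinLocFree M := by
  intro x
  exact ⟨⊤, n, trivial, ⟨(Scheme.Modules.restrictFunctor (⊤ : X.Opens).ι).mapIso e ≪≫
    restrictFreeModIso _ n⟩⟩

theorem isZero_freeMod_zero : IsZero (FlatMod.freeMod X 0) := by
  rw [IsZero.iff_id_eq_zero]
  apply Sigma.hom_ext
  intro i
  exact Fin.elim0 i

/-- If `j = k ≫ ι` and `M|_ι` is free, then `M|_j` is free. -/
noncomputable def isoFreeOfLift {A B : Scheme.{u}} (j : A ⟶ X) [IsOpenImmersion j] (ι : B ⟶ X)
    [IsOpenImmersion ι] (k : A ⟶ B) (hk : k ≫ ι = j) (M : X.Modules) (n : ℕ)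
    (e : (Scheme.Modules.restrictFunctor ι).obj M ≅ FlatMod.freeMod B n) :
    (Scheme.Modules.restrictFunctor j).obj M ≅ FlatMod.freeMod A n :=
  (Scheme.Modules.restrictFunctorIsoPullback j).app M ≪≫
    (Scheme.Modules.pullbackCongr hk.symm).app M ≪≫
    ((Scheme.Modules.pullbackComp k ι).symm).app M ≪≫
    (Scheme.Modules.pullback k).mapIso
      (((Scheme.Modules.restrictFunctorIsoPullback ι).symm).app M ≪≫ e) ≪≫
    pullbackFreeModIso k n

/-- Transitivity of restriction of complexes: for `W ≤ V`, `F|_W ≅ (F|_V)|_W`. -/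
noncomputable def restrictCxTrans {V W : X.Opens} (h : W ≤ V) (F : CochainComplex X.Modules ℤ) :
    (DCoh.restrictCx W).obj F ≅
      ((Scheme.Modules.restrictFunctor (X.homOfLE h)).mapHomologicalComplex
        (ComplexShape.up ℤ)).obj ((DCoh.restrictCx V).obj F) :=
  (NatIso.mapHomologicalComplex
    (Scheme.Modules.restrictFunctorCongr (X.homOfLE_ι h).symm ≪≫
      Scheme.Modules.restrictFunctorComp (X.homOfLE h) V.ι) (ComplexShape.up ℤ)).app F

/-- Shrinking a presentation: if `Q(F|_V) ≅ Q(P)` then `Q(F'|_W) ≅ Q(P|_W)` for `W ≤ V` and any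
`F'` with `Q F' ≅ Q F`. -/
noncomputable def shrinkIso {V W : X.Opens} (h : W ≤ V) (F F' : CochainComplex X.Modules ℤ)
    (e : DerivedCategory.Q.obj F' ≅ DerivedCategory.Q.obj F)
    (P : CochainComplex (V : Scheme.{u}).Modules ℤ)
    (eP : DerivedCategory.Q.obj ((DCoh.restrictCx V).obj F) ≅ DerivedCategory.Q.obj P) :
    DerivedCategory.Q.obj ((DCoh.restrictCx W).obj F') ≅
      DerivedCategory.Q.obj (((Scheme.Modules.restrictFunctor (X.homOfLE h)).mapHomologicalComplex
        (ComplexShape.up ℤ)).obj P) :=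
  ((Scheme.Modules.restrictFunctor W.ι).mapDerivedCategoryFactors.app F').symm ≪≫
    (Scheme.Modules.restrictFunctor W.ι).mapDerivedCategory.mapIso e ≪≫
    (Scheme.Modules.restrictFunctor W.ι).mapDerivedCategoryFactors.app F ≪≫
    DerivedCategory.Q.mapIso (restrictCxTrans h F) ≪≫
    ((Scheme.Modules.restrictFunctor (X.homOfLE h)).mapDerivedCategoryFactors.app _).symm ≪≫
    (Scheme.Modules.restrictFunctor (X.homOfLE h)).mapDerivedCategory.mapIso eP ≪≫
    (Scheme.Modules.restrictFunctor (X.homOfLE h)).mapDerivedCategoryFactors.app P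

/-- A perfect object is locally represented by a bounded complex of finite free modules. -/
theorem exists_free_presentation (E : DCoh.D X) (hE : DCoh.IsPerfect E) (x : X) :
    ∃ W : X.Opens, x ∈ W ∧ ∀ F : CochainComplex X.Modules ℤ, Nonempty (DCoh.toD X F ≅ E) →
      ∃ (P : CochainComplex (W : Scheme.{u}).Modules ℤ) (a b : ℤ), DCoh.VanishesOutside P a b ∧
        (∀ i : ℤ, ∃ n : ℕ, Nonempty (P.X i ≅ FlatMod.freeMod (W : Scheme.{u}) n)) ∧
        Nonempty (DerivedCategory.Q.obj ((DCoh.restrictCx W).obj F) ≅ DerivedCategory.Q.obj P) := by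
  classical
  obtain ⟨V, hxV, hV⟩ := hE x
  obtain ⟨F₀, -, ⟨e₀⟩⟩ := exists_kflat_rep E
  obtain ⟨P₀, ⟨⟨a, b, hab⟩, hfl⟩, ⟨eP⟩⟩ := hV F₀ ⟨e₀⟩
  let xV : (V : Scheme.{u}) := ⟨x, hxV⟩
  choose Wf nf hxW hiso using fun i => hfl i xV
  let W' : (V : Scheme.{u}).Opens := (Finset.Icc a b).inf Wf
  have hxW' : xV ∈ W' := (mem_finset_inf _ _ _).2 (fun i _ => hxW i)
  have hle : V.ι ''ᵁ W' ≤ V := V.ι_image_le W'
  refine ⟨V.ι ''ᵁ W', ⟨xV, hxW', rfl⟩, ?_⟩
  rintro F ⟨eF⟩
  refine ⟨((Scheme.Modules.restrictFunctor (X.homOfLE hle)).mapHomologicalComplex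
    (ComplexShape.up ℤ)).obj P₀, a, b, fun i hi =>
      Functor.map_isZero (Scheme.Modules.restrictFunctor (X.homOfLE hle)) (hab i hi), ?_,
    ⟨shrinkIso hle F₀ F (eF ≪≫ e₀.symm) P₀ eP⟩⟩
  intro i
  by_cases hi : i ∈ Finset.Icc a b
  · have hWi : W' ≤ Wf i := Finset.inf_le hi
    refine ⟨nf i, ⟨isoFreeOfLift (X.homOfLE hle) (Wf i).ι
      ((V.ι.isoImage W').inv ≫ (V : Scheme.{u}).homOfLE hWi) ?_ (P₀.X i) (nf i) (hiso i).some⟩⟩
    rw [Category.assoc, Scheme.homOfLE_ι, Scheme.Opens.isoImage_ι_inv_ι]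
  · refine ⟨0, ⟨IsZero.iso (Functor.map_isZero
      (Scheme.Modules.restrictFunctor (X.homOfLE hle)) (hab i ?_)) isZero_freeMod_zero⟩⟩
    rw [Finset.mem_Icc, not_and_or, not_le, not_le] at hi
    exact hi

/-- Perfect iff locally represented by a bounded complex of finite free modules. -/
theorem isPerfect_iff_locally_free (E : DCoh.D X) :
    DCoh.IsPerfect E ↔ ∀ x : X, ∃ V : X.Opens, x ∈ V ∧
      ∀ F : CochainComplex X.Modules ℤ, Nonempty (DCoh.toD X F ≅ E) →
        ∃ (P : CochainComplex (V : Scheme.{u}).Modules ℤ) (a b : ℤ), DCoh.VanishesOutside P a b ∧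
          (∀ i : ℤ, ∃ n : ℕ, Nonempty (P.X i ≅ FlatMod.freeMod (V : Scheme.{u}) n)) ∧
          Nonempty (DerivedCategory.Q.obj ((DCoh.restrictCx V).obj F) ≅
            DerivedCategory.Q.obj P) := by
  constructor
  · intro hE x
    exact exists_free_presentation E hE x
  · intro h x
    obtain ⟨V, hxV, hV⟩ := h x
    refine ⟨V, hxV, fun F hF => ?_⟩
    obtain ⟨P, a, b, hab, hfree, hiso⟩ := hV F hF
    exact ⟨P, ⟨⟨a, b, hab⟩, fun i => by
      obtain ⟨n, ⟨e⟩⟩ := hfree i
      exact isFinLocFree_of_iso_freeMod e⟩, hiso⟩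

end Groth.Agent.H28.LpullLoc
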