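import Groth.Agent.H28.K0Devissage
import Groth.Agent.S0796
import Groth.Agent.S1006
import Groth.Agent.H90.PerfLoc
import Groth.Agent.H31.PerfLocalD

/-!
# Coherent modules with support in a closed set: closure properties and dévissage to perfect objects
-/

set_option autoImplicit false
set_option maxHeartbeats 400000
universe u
open CategoryTheory CategoryTheory.Limits CategoryTheory.Pretriangulated AlgebraicGeometry
open scoped ZeroObject
attribute [local instance] HasDerivedCategory.standard

namespace Groth.Agent.H28.K0CS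

open Groth.Agent.H28.K0D

variable {X : Scheme.{u}}

theorem subsingleton_stalk_of_isZero {Z : X.Modules} (hZ : IsZero Z) (x : X) :
    Subsingleton ↑(Z.presheaf.stalk x) := by
  rw [Groth.Agent.H8.subsingleton_stalk_iff]
  intro t
  obtain ⟨U, hxU, k, rfl⟩ := TopCat.Presheaf.exists_germ_eq Z.presheaf t
  have hk : k = 0 := by
    have h1 : (𝟙 Z : Z ⟶ Z) = 0 := hZ.eq_of_src _ _
    have h2 : (𝟙 Z : Z ⟶ Z).app U k = (0 : Z ⟶ Z).app U k := by rw [h1]
    simpa using h2
  rw [hk, map_zero]

theorem support_of_isZero {Z : X.Modules} (hZ : IsZero Z) : CohB1.support Z = ∅ := by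
  ext x
  simp only [Set.mem_empty_iff_false, iff_false]
  exact fun h => h (subsingleton_stalk_of_isZero hZ x)

theorem support_subset_of_mono {F G : X.Modules} (f : F ⟶ G) [Mono f] :
    CohB1.support F ⊆ CohB1.support G := by
  let S : ShortComplex X.Modules := ShortComplex.mk f (cokernel.π f) (cokernel.condition f)
  have hS : S.ShortExact :=
    { exact := ShortComplex.exact_of_g_is_cokernel S (cokernelIsCokernel f)
      mono_f := inferInstanceAs (Mono f)
      epi_g := inferInstanceAs (Epi (cokernel.π f)) }
  have := Groth.Agent.S0796.support_eq_union S hS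
  intro x hx
  have h2 : x ∈ CohB1.support S.X₂ := by rw [this]; exact Or.inl hx
  exact h2

theorem support_of_iso {F G : X.Modules} (e : F ≅ G) : CohB1.support F = CohB1.support G :=
  le_antisymm (support_subset_of_mono e.hom) (support_subset_of_mono e.inv)

/-- Coherent modules supported in `Y'` are closed under isomorphisms, zero objects and kernels. -/
theorem good_cohSupp [IsLocallyNoetherian X] (Y' : Set X) :
    Good (fun G : X.Modules => Coh.IsCoh G ∧ CohB1.support G ⊆ Y') where
  iso e h := ⟨Groth.Agent.H90.QH.isCoh_of_iso e h.1, by rw [← support_of_iso e]; exact h.2⟩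
  zero hZ := ⟨Groth.Agent.H90.QH.isCoh_of_isFinLocFree
      (Groth.Agent.H90.SPerf.isFinLocFree_of_isZero hZ), by
    rw [support_of_isZero hZ]; exact Set.empty_subset _⟩
  ker f hF hG := ⟨Groth.Agent.H8.isCoh_kernel hF.1 hG.1 f,
    (support_subset_of_mono (kernel.ι f)).trans hF.2⟩

/-- If every module in `B` is perfect in degree `0`, every bounded object with cohomology in `B` is
perfect. -/
theorem isPerfect_of_PB (B : ObjectProperty X.Modules) (hB : Good B)
    (hperf : ∀ G : X.Modules, B G → DCoh.IsPerfect (DCoh.inD X G))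
    (K : DCoh.D X) (hK : PB B K) : DCoh.IsPerfect K := by
  refine PB_induction B hB (fun K => DCoh.IsPerfect K) ?_ ?_ ?_ K hK
  · intro E E' e h
    exact Groth.Agent.H31.PerfLocalD.isPerfect_of_iso e h
  · intro M a hM
    have e' : ((DerivedCategory.singleFunctor X.Modules 0).obj M)⟦-a⟧ ≅
        (DerivedCategory.singleFunctor X.Modules a).obj M :=
      ((DerivedCategory.singleFunctors X.Modules).shiftIso (-a) a 0 (by lia)).app M
    exact Groth.Agent.H31.PerfLocalD.isPerfect_of_iso e'
      (Groth.Agent.H90.SPerf.isPerfect_shift _ (-a) (hperf M hM))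
  · intro T hT h₁ h₃
    exact Groth.Agent.H90.SPerf.isPerfect_obj₃ T.invRotate (inv_rot_of_distTriang _ hT)
      (Groth.Agent.H90.SPerf.isPerfect_shift _ (-1) h₃) h₁

end Groth.Agent.H28.K0CS
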