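import Groth.Agent.H31.LpullComp
import Groth.Prelude.Def_CxOX
import Groth.Prelude.Def_DDual2

/-!
# Pullback of modules and restriction to opens (helper28 library)

* `final_opensMap` : `Opens.map f.base` is a final functor.
* `pullbackUnitIso` : `f^* O_Y ≅ O_X`, `pullbackFreeModIso` : `f^* O_Y^n ≅ O_X^n`.
* `bcIso` : `(f^* M)|_{f⁻¹V} ≅ (f|_V)^* (M|_V)` (as an isomorphism of functors).
* `isFinLocFree_pullback`, `isStrictlyPerfect_pullback`.
-/

set_option maxHeartbeats 400000
set_option autoImplicit false
universe u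
open CategoryTheory CategoryTheory.Limits AlgebraicGeometry TopologicalSpace Opposite

namespace Groth.Agent.H28.LpullLoc

variable {X Y : Scheme.{u}} (f : X ⟶ Y)

instance final_opensMap : (Opens.map f.base).Final where
  out U := by
    let T : StructuredArrow U (Opens.map f.base) :=
      StructuredArrow.mk (Y := (⊤ : Opens Y)) (homOfLE le_top)
    refine isConnected_of_isTerminal _ (x := T) (IsTerminal.ofUniqueHom
      (fun A => StructuredArrow.homMk (homOfLE (by exact le_top)) (Subsingleton.elim _ _))
      (fun A m => ?_))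
    apply StructuredArrow.ext
    apply Subsingleton.elim

set_option backward.isDefEq.respectTransparency.types false in
theorem isIso_pullbackObjUnitToUnit :
    IsIso (SheafOfModules.pullbackObjUnitToUnit f.toRingCatSheafHom) := by
  have := final_opensMap f
  infer_instance

set_option backward.isDefEq.respectTransparency.types false in
/-- `f^* O_Y ≅ O_X`. -/
noncomputable def pullbackUnitIso :
    (Scheme.Modules.pullback f).obj (Coh.structureModule Y) ≅ Coh.structureModule X :=
  @asIso _ _ _ _ (SheafOfModules.pullbackObjUnitToUnit f.toRingCatSheafHom)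
    (isIso_pullbackObjUnitToUnit f)

/-- `f^* O_Y^n ≅ O_X^n`. -/
noncomputable def pullbackFreeModIso (n : ℕ) :
    (Scheme.Modules.pullback f).obj (FlatMod.freeMod Y n) ≅ FlatMod.freeMod X n :=
  PreservesCoproduct.iso (Scheme.Modules.pullback f) _ ≪≫
    Sigma.mapIso (fun _ => pullbackUnitIso f)

variable (V : Y.Opens)

/-- `(f^* M)|_{f⁻¹V} ≅ (f|_V)^* (M|_V)`, as an isomorphism of functors. -/
noncomputable def bcIso :
    Scheme.Modules.pullback f ⋙ Scheme.Modules.restrictFunctor (f ⁻¹ᵁ V).ι ≅
      Scheme.Modules.restrictFunctor V.ι ⋙ Scheme.Modules.pullback (f ∣_ V) :=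
  Functor.isoWhiskerLeft _ (Scheme.Modules.restrictFunctorIsoPullback _) ≪≫
    Scheme.Modules.pullbackComp (f ⁻¹ᵁ V).ι f ≪≫
    Scheme.Modules.pullbackCongr (morphismRestrict_ι f V).symm ≪≫
    (Scheme.Modules.pullbackComp (f ∣_ V) V.ι).symm ≪≫
    Functor.isoWhiskerRight (Scheme.Modules.restrictFunctorIsoPullback V.ι).symm _

/-- The pullback of a finite locally free module is finite locally free. -/
theorem isFinLocFree_pullback {M : Y.Modules} (hM : FlatMod.IsFinLocFree M) :
    FlatMod.IsFinLocFree ((Scheme.Modules.pullback f).obj M) := by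
  intro x
  obtain ⟨V, n, hxV, ⟨e⟩⟩ := hM (f.base x)
  refine ⟨f ⁻¹ᵁ V, n, hxV, ⟨?_⟩⟩
  exact (bcIso f V).app M ≪≫ (Scheme.Modules.pullback (f ∣_ V)).mapIso e ≪≫
    pullbackFreeModIso (f ∣_ V) n

/-- The termwise pullback of a strictly perfect complex is strictly perfect. -/
theorem isStrictlyPerfect_pullback {E : CochainComplex Y.Modules ℤ}
    (hE : DCoh.IsStrictlyPerfect E) :
    DCoh.IsStrictlyPerfect
      (((Scheme.Modules.pullback f).mapHomologicalComplex (ComplexShape.up ℤ)).obj E) := by
  obtain ⟨⟨a, b, hab⟩, hfl⟩ := hE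
  exact ⟨⟨a, b, fun i hi => Functor.map_isZero _ (hab i hi)⟩,
    fun i => isFinLocFree_pullback f (hfl i)⟩

/-- Termwise base change for complexes: `(f^* F)|_{f⁻¹V} ≅ (f|_V)^* (F|_V)`. -/
noncomputable def cxIso (F : CochainComplex Y.Modules ℤ) :
    (DCoh.restrictCx (f ⁻¹ᵁ V)).obj
        (((Scheme.Modules.pullback f).mapHomologicalComplex (ComplexShape.up ℤ)).obj F) ≅
      ((Scheme.Modules.pullback (f ∣_ V)).mapHomologicalComplex (ComplexShape.up ℤ)).obj
        ((DCoh.restrictCx V).obj F) :=
  (NatIso.mapHomologicalComplex (bcIso f V) (ComplexShape.up ℤ)).app F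

/-- Restriction of complexes to an open is isomorphic to the termwise pullback. -/
noncomputable def restrictCxIso (F : CochainComplex Y.Modules ℤ) :
    (DCoh.restrictCx V).obj F ≅
      ((Scheme.Modules.pullback V.ι).mapHomologicalComplex (ComplexShape.up ℤ)).obj F :=
  (NatIso.mapHomologicalComplex (Scheme.Modules.restrictFunctorIsoPullback V.ι)
    (ComplexShape.up ℤ)).app F

end Groth.Agent.H28.LpullLoc
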