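import Groth.Agent.H99.DRank
import Mathlib

/-!
# Semicontinuity of the fibre cohomology dimension of a cochain complex of finite free modules
(helper28 library)

Cochain-complex version of `H99.DRank`, together with independence of the field-valued point
representing a prime.
-/

set_option maxHeartbeats 400000
set_option autoImplicit false
universe u
open scoped TensorProduct
open CategoryTheory

namespace Groth.Agent.H28.RankSC

open Groth.Agent.H99.DRank

variable {A : Type u} [CommRing A]

/-- `dim_K (K ⊗ M)` does not change under field extensions `κ → K`. -/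
theorem muG_eq_of_tower (κ K : Type u) [Field κ] [Field K] [Algebra A κ] [Algebra A K]
    [Algebra κ K] [IsScalarTower A κ K] (M : Type u) [AddCommGroup M] [Module A M] :
    muG A K M = muG A κ M := by
  unfold muG
  rw [← (TensorProduct.AlgebraTensorModule.cancelBaseChange A κ K K M).finrank_eq]
  exact Module.finrank_baseChange

/-- The rank of `K ⊗ d` does not change under field extensions `κ → K`. -/
theorem rhoG_eq_of_tower (κ K : Type u) [Field κ] [Field K] [Algebra A κ] [Algebra A K]
    [Algebra κ K] [IsScalarTower A κ K] {M N : Type u} [AddCommGroup M] [Module A M]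
    [AddCommGroup N] [Module A N] [Module.Finite A N] (d : M →ₗ[A] N) :
    rhoG K d = rhoG κ d := by
  have h1 := rhoG_add_muG_coker K d
  have h2 := rhoG_add_muG_coker κ d
  have h3 := muG_eq_of_tower (A := A) κ K N
  have h4 := muG_eq_of_tower (A := A) κ K (N ⧸ LinearMap.range d)
  omega

set_option backward.isDefEq.respectTransparency false in
/-- Cochain version of `H99.DRank.finrank_homology_bcCx`. -/
theorem finrank_homology_bcCx_up (κ : Type u) [Field κ] (φ : A →+* κ)
    (P : CochainComplex (ModuleCat.{u} A) ℤ) (j : ℤ) [Module.Finite A (P.X j)] :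
    Module.finrank κ ((CohIII.bcCx φ P).homology j)
      + @rhoG A _ κ _ (algOf κ φ) _ _ _ _ _ _ (P.d (j - 1) j).hom
      + @rhoG A _ κ _ (algOf κ φ) _ _ _ _ _ _ (P.d j (j + 1)).hom
      = @muG A _ κ _ (algOf κ φ) (P.X j) _ _ := by
  let _ : Algebra A κ := algOf κ φ
  set K := CohIII.bcCx φ P with hK
  have e1 : K.homology j ≅ (K.sc' (j - 1) j (j + 1)).homology :=
    ShortComplex.homologyMapIso (K.isoSc' (j - 1) j (j + 1) (by simp) (by simp))
  have e2 := (e1 ≪≫ (K.sc' (j - 1) j (j + 1)).moduleCatHomologyIso).toLinearEquiv.finrank_eq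
  rw [e2]
  have : Module.Finite κ (κ ⊗[A] (P.X j)) := Module.Finite.base_change A κ (P.X j)
  have h3 := finrank_homology_formula κ ((P.d (j - 1) j).hom.baseChange κ)
    ((P.d j (j + 1)).hom.baseChange κ)
    (fun x => (K.sc' (j - 1) j (j + 1)).moduleCat_zero_apply x)
  exact h3


/-- `dim H^j(P ⊗ κ(x)) + rank (d^{j-1} ⊗ κ(x)) + rank (d^j ⊗ κ(x)) = dim (P^j ⊗ κ(x))`. -/
theorem dRank_add_up (P : CochainComplex (ModuleCat.{u} A) ℤ) (j : ℤ) (x : PrimeSpectrum A)
    [Module.Finite A (P.X j)] :
    CohIII.dRank P j x + rhoG x.asIdeal.ResidueField (P.d (j - 1) j).hom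
      + rhoG x.asIdeal.ResidueField (P.d j (j + 1)).hom
      = muG A x.asIdeal.ResidueField (P.X j) := by
  have h := finrank_homology_bcCx_up x.asIdeal.ResidueField
    (algebraMap A x.asIdeal.ResidueField) P j
  have hi : algOf x.asIdeal.ResidueField (algebraMap A x.asIdeal.ResidueField) =
      (inferInstance : Algebra A x.asIdeal.ResidueField) :=
    Algebra.algebra_ext _ _ (fun r => rfl)
  rw [hi] at h
  exact h

/-- The fibre cohomology dimension at a field-valued point only depends on the kernel. -/
theorem finrank_homology_bcCx_eq_dRank (K : Type u) [Field K] (φ : A →+* K)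
    (p : PrimeSpectrum A) (hp : RingHom.ker φ = p.asIdeal)
    (P : CochainComplex (ModuleCat.{u} A) ℤ) (j : ℤ)
    [Module.Finite A (P.X j)] [Module.Finite A (P.X (j + 1))] :
    Module.finrank K ((CohIII.bcCx φ P).homology j) = CohIII.dRank P j p := by
  have h1 := finrank_homology_bcCx_up K φ P j
  have h2 := dRank_add_up P j p
  letI : Algebra A K := algOf K φ
  have hf₁ : p.asIdeal ≤ RingHom.ker φ := hp.ge
  have hf₂ : p.asIdeal.primeCompl ≤ (IsUnit.submonoid K).comap φ := by
    intro r hr
    change IsUnit (φ r)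
    rw [isUnit_iff_ne_zero]
    intro h0
    apply hr
    change r ∈ p.asIdeal
    rw [← hp]
    exact h0
  letI : Algebra p.asIdeal.ResidueField K :=
    (Ideal.ResidueField.lift p.asIdeal φ hf₁ hf₂).toAlgebra
  haveI : IsScalarTower A p.asIdeal.ResidueField K :=
    IsScalarTower.of_algebraMap_eq (fun r =>
      (Ideal.ResidueField.lift_algebraMap p.asIdeal φ hf₁ hf₂ r).symm)
  have h3 := muG_eq_of_tower (A := A) p.asIdeal.ResidueField K (P.X j)
  have h4 := rhoG_eq_of_tower (A := A) p.asIdeal.ResidueField K (P.d (j - 1) j).hom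
  have h5 := rhoG_eq_of_tower (A := A) p.asIdeal.ResidueField K (P.d j (j + 1)).hom
  omega

theorem dRank_eventually_le (P : CochainComplex (ModuleCat.{u} A) ℤ) (j : ℤ)
    [Module.Finite A (P.X j)] [Module.FinitePresentation A (P.X j)] [Module.Flat A (P.X j)]
    [Module.Finite A (P.X (j + 1))] [Module.FinitePresentation A (P.X (j + 1))]
    [Module.Flat A (P.X (j + 1))] (p : PrimeSpectrum A) :
    ∀ᶠ q in nhds p, CohIII.dRank P j q ≤ CohIII.dRank P j p := by
  filter_upwards [muG_eventually_eq (P.X j) p, rhoG_eventually_ge (P.d (j - 1) j).hom p,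
    rhoG_eventually_ge (P.d j (j + 1)).hom p] with q h1 h2 h3
  have h4 := dRank_add_up P j q
  have h5 := dRank_add_up P j p
  omega

theorem isOpen_setOf_dRank_lt (P : CochainComplex (ModuleCat.{u} A) ℤ) (j : ℤ)
    [Module.Finite A (P.X j)] [Module.FinitePresentation A (P.X j)] [Module.Flat A (P.X j)]
    [Module.Finite A (P.X (j + 1))] [Module.FinitePresentation A (P.X (j + 1))]
    [Module.Flat A (P.X (j + 1))] (n : ℕ) :
    IsOpen {q : PrimeSpectrum A | CohIII.dRank P j q < n} := by
  rw [isOpen_iff_mem_nhds]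
  intro p hp
  filter_upwards [dRank_eventually_le P j p] with q hq
  exact lt_of_le_of_lt hq hp

end Groth.Agent.H28.RankSC
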