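import Groth.Agent.H28.PerfEuler
import Groth.Agent.H31.LpullTilde

/-!
# Complexes of free modules on an affine scheme come from complexes of free modules over the ring
(helper28 library)
-/

set_option maxHeartbeats 400000
set_option autoImplicit false
universe u
open CategoryTheory CategoryTheory.Limits AlgebraicGeometry TopologicalSpace Opposite

namespace Groth.Agent.H28.TildeCx

open Groth.Agent.H31.Stalk Groth.Agent.H28.LpullLoc Groth.Agent.H28.GammaPt
  Groth.Agent.H28.PerfEuler

section Lift

universe v₁ v₂ u₁ u₂

variable {A : Type u₁} {B : Type u₂} [Category.{v₁} A] [Category.{v₂} B] [Preadditive A]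
  [Preadditive B]
  (F : A ⥤ B) [F.Additive] [F.Full] [F.Faithful]

/-- Lifting a complex along a fully faithful additive functor, given lifts of the objects. -/
noncomputable def liftCx (C : CochainComplex B ℤ) (M : ℤ → A)
    (e : ∀ n, F.obj (M n) ≅ C.X n) : CochainComplex A ℤ where
  X := M
  d i j := F.preimage ((e i).hom ≫ C.d i j ≫ (e j).inv)
  shape i j h := by
    apply F.map_injective
    rw [F.map_preimage, C.shape i j h, F.map_zero]
    simp
  d_comp_d' i j k _ _ := by
    apply F.map_injective
    simp

/-- The lifted complex maps to the original one. -/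
noncomputable def liftCxIso (C : CochainComplex B ℤ) (M : ℤ → A)
    (e : ∀ n, F.obj (M n) ≅ C.X n) :
    (F.mapHomologicalComplex (ComplexShape.up ℤ)).obj (liftCx F C M e) ≅ C :=
  HomologicalComplex.Hom.isoOfComponents e (by
    intro i j _
    change (e i).hom ≫ C.d i j =
      F.map (F.preimage ((e i).hom ≫ C.d i j ≫ (e j).inv)) ≫ (e j).hom
    rw [F.map_preimage, Category.assoc, Category.assoc, Iso.inv_hom_id, Category.comp_id])

end Lift


section Tilde

attribute [local instance] CategoryTheory.Abelian.hasFiniteBiproducts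

variable (R : CommRingCat.{u})

/-- `(R^n)~` is the free module of rank `n`. -/
noncomputable def tildeFreeIso (n : ℕ) :
    (tilde.functor R).obj (ModuleCat.of R (Fin n → R)) ≅ FlatMod.freeMod (Spec R) n :=
  (tilde.functor R).mapIso
      (ModuleCat.biproductIsoPi (fun _ : Fin n => ModuleCat.of R R)).symm ≪≫
    (tilde.functor R).mapBiproduct (fun _ : Fin n => ModuleCat.of R R) ≪≫
    biproduct.isoCoproduct (fun _ : Fin n => Coh.structureModule (Spec R))

/-- The complex of free `R`-modules underlying a complex of free modules on `Spec R`. -/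
noncomputable def tildeCx (C : CochainComplex (Spec R).Modules ℤ) (k : ℤ → ℕ)
    (e : ∀ n, C.X n ≅ FlatMod.freeMod (Spec R) (k n)) : CochainComplex (ModuleCat.{u} R) ℤ :=
  liftCx (tilde.functor R) C (fun n => ModuleCat.of R (Fin (k n) → R))
    (fun n => tildeFreeIso R (k n) ≪≫ (e n).symm)

noncomputable def tildeCxIso (C : CochainComplex (Spec R).Modules ℤ) (k : ℤ → ℕ)
    (e : ∀ n, C.X n ≅ FlatMod.freeMod (Spec R) (k n)) :
    ((tilde.functor R).mapHomologicalComplex (ComplexShape.up ℤ)).obj (tildeCx R C k e) ≅ C :=
  liftCxIso (tilde.functor R) C _ _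

variable {R}

/-- Pullback of the tilde of a complex along `Spec φ`. -/
noncomputable def pullTildeCxIso {K : CommRingCat.{u}} (φ : R ⟶ K)
    (M : CochainComplex (ModuleCat.{u} R) ℤ) :
    ((Scheme.Modules.pullback (Spec.map φ)).mapHomologicalComplex (ComplexShape.up ℤ)).obj
        (((tilde.functor R).mapHomologicalComplex (ComplexShape.up ℤ)).obj M) ≅
      ((tilde.functor K).mapHomologicalComplex (ComplexShape.up ℤ)).obj
        (((ModuleCat.extendScalars.{u, u, u} φ.hom).mapHomologicalComplex
          (ComplexShape.up ℤ)).obj M) :=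
  ((NatIso.mapHomologicalComplex (extTildeIso φ) (ComplexShape.up ℤ)).app M).symm

end Tilde


section Gamma

variable (K : CommRingCat.{u})

/-- The ring isomorphism `K → Γ(Spec K, ⊤)`. -/
noncomputable abbrev ρ : K →+* Coh.Γtop (Spec K) := (Scheme.ΓSpecIso K).inv.hom

theorem ρ_bijective : Function.Bijective (ρ K) :=
  ConcreteCategory.bijective_of_isIso (Scheme.ΓSpecIso K).inv

theorem finrank_restrictScalars {S T : Type u} [Ring S] [Ring T] (σ : S →+* T)
    (hσ : Function.Bijective σ) (V : ModuleCat.{u} T) :
    Module.finrank S ((ModuleCat.restrictScalars σ).obj V) = Module.finrank T V :=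
  congrArg Cardinal.toNat
    (rank_eq_of_equiv_equiv σ (AddEquiv.refl V) hσ (fun _ _ => rfl))

variable {K} in
theorem moduleSpecΓ_smul_eq (M : (Spec K).Modules) (r : K)
    (m : (moduleSpecΓFunctor (R := K)).obj M) :
    (r • m : (moduleSpecΓFunctor (R := K)).obj M) =
      (show (Γf (Spec K)).obj M from
        (ρ K r • (show (Γf (Spec K)).obj M from m) : (Γf (Spec K)).obj M)) := by
  change (((Spec K).ringCatSheaf.obj.map
    ((initialOpOfTerminal isTerminalTop).to (op ⊤))).hom (ρ K r) •
      (show (Γf (Spec K)).obj M from m) : (Γf (Spec K)).obj M) = _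
  have : (initialOpOfTerminal isTerminalTop).to (op (⊤ : (Spec K).Opens)) = 𝟙 _ :=
    Subsingleton.elim _ _
  rw [this, CategoryTheory.Functor.map_id]
  rfl

/-- `moduleSpecΓFunctor` is global sections followed by restriction of scalars. -/
noncomputable def moduleSpecΓIsoApp (M : (Spec K).Modules) :
    (moduleSpecΓFunctor (R := K)).obj M ≅
      (ModuleCat.restrictScalars (ρ K)).obj ((Γf (Spec K)).obj M) where
  hom := ConcreteCategory.ofHom (C := ModuleCat K)
    (X := (moduleSpecΓFunctor (R := K)).obj M)
    (Y := (ModuleCat.restrictScalars (ρ K)).obj ((Γf (Spec K)).obj M))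
    { toFun := fun m => m
      map_add' := fun _ _ => rfl
      map_smul' := fun r m => moduleSpecΓ_smul_eq M r m }
  inv := ConcreteCategory.ofHom (C := ModuleCat K)
    (X := (ModuleCat.restrictScalars (ρ K)).obj ((Γf (Spec K)).obj M))
    (Y := (moduleSpecΓFunctor (R := K)).obj M)
    { toFun := fun m => m
      map_add' := fun _ _ => rfl
      map_smul' := fun r m => (moduleSpecΓ_smul_eq M r m).symm }
  hom_inv_id := rfl
  inv_hom_id := rfl

noncomputable def moduleSpecΓIso :
    moduleSpecΓFunctor (R := K) ≅ Γf (Spec K) ⋙ ModuleCat.restrictScalars (ρ K) :=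
  NatIso.ofComponents (moduleSpecΓIsoApp K) (fun f => by
    ext x
    rfl)

instance restrictScalars_preservesHomology {S T : Type u} [Ring S] [Ring T] (σ : S →+* T) :
    (ModuleCat.restrictScalars.{u} σ).PreservesHomology :=
  ((Functor.exact_tfae (ModuleCat.restrictScalars.{u} σ)).out 1 2).mp (fun S hS => by
    rw [ShortComplex.ShortExact.moduleCat_exact_iff_function_exact] at hS ⊢
    exact hS)

instance : (moduleSpecΓFunctor (R := K)).Additive :=
  Functor.additive_of_iso (moduleSpecΓIso K).symm

/-- The fibre cohomology of the tilde of a complex of `K`-modules, computed on global sections. -/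
theorem finrank_homology_Γf_tilde (N : CochainComplex (ModuleCat.{u} K) ℤ) (i : ℤ) :
    Module.finrank (Coh.Γtop (Spec K))
      ((((Γf (Spec K)).mapHomologicalComplex (ComplexShape.up ℤ)).obj
        (((tilde.functor K).mapHomologicalComplex (ComplexShape.up ℤ)).obj N)).homology i) =
      Module.finrank K (N.homology i) := by
  let C' := ((tilde.functor K).mapHomologicalComplex (ComplexShape.up ℤ)).obj N
  let D := ((Γf (Spec K)).mapHomologicalComplex (ComplexShape.up ℤ)).obj C'
  let RS := ModuleCat.restrictScalars.{u} (ρ K)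
  let iso1 : ((moduleSpecΓFunctor (R := K)).mapHomologicalComplex (ComplexShape.up ℤ)).obj C' ≅ N :=
    ((NatIso.mapHomologicalComplex (tilde.toTildeΓNatIso (R := K)) (ComplexShape.up ℤ)).app N).symm
  let iso2 : ((moduleSpecΓFunctor (R := K)).mapHomologicalComplex (ComplexShape.up ℤ)).obj C' ≅
      (RS.mapHomologicalComplex (ComplexShape.up ℤ)).obj D :=
    (NatIso.mapHomologicalComplex (moduleSpecΓIso K) (ComplexShape.up ℤ)).app C'
  let iso3 : ((RS.mapHomologicalComplex (ComplexShape.up ℤ)).obj D).homology i ≅
      RS.obj (D.homology i) := (D.sc i).mapHomologyIso RS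
  let e : N.homology i ≅ RS.obj (D.homology i) :=
    (HomologicalComplex.homologyFunctor _ _ i).mapIso (iso1.symm ≪≫ iso2) ≪≫ iso3
  rw [e.toLinearEquiv.finrank_eq]
  exact (finrank_restrictScalars (ρ K) (ρ_bijective K) _).symm

end Gamma

end Groth.Agent.H28.TildeCx
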