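import Groth.Agent.H28.PerfEuler
import Groth.Agent.H28.TildeCx
import Groth.Agent.H28.RankSC

/-!
# Betti numbers of a pseudo-coherent object at points (helper28 library)

* `mqi_Lpull` : `Lh^*` preserves `m`-quasi-isomorphisms between K-flat complexes.
* `betti_eq_of_mqi`.
-/

set_option maxHeartbeats 400000
set_option autoImplicit false
universe u
open CategoryTheory CategoryTheory.Limits AlgebraicGeometry TopologicalSpace Opposite
attribute [local instance] HasDerivedCategory.standard

namespace Groth.Agent.H28.BettiPC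

open Groth.Agent.H31.Stalk Groth.Agent.H28.LpullLoc Groth.Agent.H28.GammaPt
  Groth.Agent.H28.PerfEuler Groth.Agent.H28.TildeCx Groth.Agent.H28.RankSC

variable {X : Scheme.{u}}

/-- `Lh^*` preserves `m`-quasi-isomorphisms between (objects represented by) K-flat complexes. -/
theorem mqi_Lpull {Z V : Scheme.{u}} (h : Z ⟶ V) [DCoh.HasLpull h]
    {P F' : CochainComplex V.Modules ℤ} (_hP : DCoh.IsKFlat P) (hF' : DCoh.IsKFlat F')
    (α : DerivedCategory.Q.obj P ⟶ DerivedCategory.Q.obj F') (m : ℤ) (hαm : MQI m α) :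
    MQI m ((DCoh.Lpull h).map α) := by
  obtain ⟨P₁, s₁, hs₁, g₁, hfac⟩ := DerivedCategory.right_fac α
  obtain ⟨P₂, q, hP₂, -, hq, -⟩ := Groth.Agent.S0955.result P₁
  have hQq : IsIso (DerivedCategory.Q.map q) := by
    have := hq
    infer_instance
  have hs : IsIso (DerivedCategory.Q.map (q ≫ s₁)) := by
    rw [Functor.map_comp]
    infer_instance
  have hcomm : DerivedCategory.Q.map (q ≫ s₁) ≫ α = DerivedCategory.Q.map (q ≫ g₁) := by
    rw [hfac, Functor.map_comp, Functor.map_comp, Category.assoc, IsIso.hom_inv_id_assoc]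
  have e1 : Arrow.mk (DerivedCategory.Q.map (q ≫ g₁)) ≅ Arrow.mk α :=
    Arrow.isoMk (asIso (DerivedCategory.Q.map (q ≫ s₁))) (Iso.refl _) (by simpa using hcomm)
  have hb : MQI m (DerivedCategory.Q.map (q ≫ g₁)) := mqi_of_arrow_iso e1.symm hαm
  have hb' := mqi_pullback h (q ≫ g₁) hP₂ hF' m hb
  have e2 : Arrow.mk ((DCoh.Lpull h).map (DerivedCategory.Q.map (q ≫ g₁))) ≅
      Arrow.mk (DerivedCategory.Q.map (((Scheme.Modules.pullback h).mapHomologicalComplex
        (ComplexShape.up ℤ)).map (q ≫ g₁))) :=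
    Arrow.isoMk (LpullObjIso _ P₂ hP₂) (LpullObjIso _ _ hF')
      (LpullObjIso_naturality h (q ≫ g₁) hP₂ hF').symm
  have h3 : MQI m ((DCoh.Lpull h).map (DerivedCategory.Q.map (q ≫ g₁))) :=
    mqi_of_arrow_iso e2.symm hb'
  exact mqi_of_arrow_iso ((DCoh.Lpull h).mapArrow.mapIso e1) h3

/-- First half of `LpullLiftIso`: `Lg^* E ≅ Lh^* (Q (F|_W))` for `g = h ≫ W.ι`. -/
noncomputable def LpullRestrictIso {Z : Scheme.{u}} (W : X.Opens) (h : Z ⟶ (W : Scheme.{u}))
    (g : Z ⟶ X) (hg : h ≫ W.ι = g) [DCoh.HasLpull g] [DCoh.HasLpull h] (E : DCoh.D X)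
    (F : CochainComplex X.Modules ℤ) (hF : DCoh.IsKFlat F) (eF : DCoh.toD X F ≅ E) :
    (DCoh.Lpull g).obj E ≅
      (DCoh.Lpull h).obj (DerivedCategory.Q.obj ((DCoh.restrictCx W).obj F)) :=
  (DCoh.Lpull g).mapIso eF.symm ≪≫ LpullObjIso g F hF ≪≫
    DerivedCategory.Q.mapIso
      ((NatIso.mapHomologicalComplex (liftPullIso W h g hg) (ComplexShape.up ℤ)).app F) ≪≫
    (LpullObjIso h ((DCoh.restrictCx W).obj F) (isKFlat_restrictCx W F hF)).symm

/-- Around any point, a strictly perfect complex becomes a complex of free modules on an affine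
chart. -/
theorem exists_affine_free_chart {V : Scheme.{u}} (P : CochainComplex V.Modules ℤ)
    (hP : DCoh.IsStrictlyPerfect P) (x : V) :
    ∃ (R : CommRingCat.{u}) (j : Spec R ⟶ V) (_ : IsOpenImmersion j), x ∈ Set.range j ∧
      ∀ n : ℤ, ∃ k : ℕ,
        Nonempty ((Scheme.Modules.pullback j).obj (P.X n) ≅ FlatMod.freeMod (Spec R) k) := by
  classical
  obtain ⟨⟨a, b, hab⟩, hfl⟩ := hP
  choose Wf nf hxW hiso using fun n => hfl n x
  let W' : V.Opens := (Finset.Icc a b).inf Wf
  have hxW' : x ∈ W' := (mem_finset_inf _ _ _).2 (fun n _ => hxW n)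
  obtain ⟨U, hU, hxU, hUW⟩ := Opens.isBasis_iff_nbhd.1 V.isBasis_affineOpens hxW'
  have hU' : IsAffineOpen U := hU
  refine ⟨_, hU'.fromSpec, inferInstance, ?_, fun n => ?_⟩
  · rw [hU'.range_fromSpec]
    exact hxU
  · by_cases hn : n ∈ Finset.Icc a b
    · have hle : U ≤ Wf n := hUW.trans (Finset.inf_le hn)
      have hrange : Set.range hU'.fromSpec ⊆ Set.range (Wf n).ι := by
        rw [hU'.range_fromSpec, Scheme.Opens.range_ι]
        exact hle
      refine ⟨nf n, ⟨((Scheme.Modules.restrictFunctorIsoPullback hU'.fromSpec).symm).app _ ≪≫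
        isoFreeOfLift hU'.fromSpec (Wf n).ι (IsOpenImmersion.lift (Wf n).ι hU'.fromSpec hrange)
          (IsOpenImmersion.lift_fac _ _ _) (P.X n) (nf n) (hiso n).some⟩⟩
    · refine ⟨0, ⟨IsZero.iso (Functor.map_isZero _ (hab n ?_)) isZero_freeMod_zero⟩⟩
      rw [Finset.mem_Icc, not_and_or, not_le, not_le] at hn
      exact hn

/-- The `i`-th Betti number of a complex `P` at a "point" `h : Z ⟶ V`. -/
noncomputable def ptBetti {Z V : Scheme.{u}} (h : Z ⟶ V) (P : CochainComplex V.Modules ℤ)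
    (i : ℤ) : ℕ :=
  Module.finrank (Coh.Γtop Z)
    ((((Γf Z).mapHomologicalComplex (ComplexShape.up ℤ)).obj
      (((Scheme.Modules.pullback h).mapHomologicalComplex (ComplexShape.up ℤ)).obj P)).homology i)

theorem ptBetti_congr {Z V : Scheme.{u}} (h : Z ⟶ V) {P P' : CochainComplex V.Modules ℤ}
    (e : P ≅ P') (i : ℤ) : ptBetti h P i = ptBetti h P' i :=
  ((HomologicalComplex.homologyFunctor _ _ i).mapIso
    (((Γf Z).mapHomologicalComplex (ComplexShape.up ℤ)).mapIso
      (((Scheme.Modules.pullback h).mapHomologicalComplex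
        (ComplexShape.up ℤ)).mapIso e))).toLinearEquiv.finrank_eq

theorem ptBetti_comp {Z W V : Scheme.{u}} (l : Z ⟶ W) (j : W ⟶ V)
    (P : CochainComplex V.Modules ℤ) (i : ℤ) :
    ptBetti (l ≫ j) P i =
      ptBetti l (((Scheme.Modules.pullback j).mapHomologicalComplex
        (ComplexShape.up ℤ)).obj P) i :=
  ((HomologicalComplex.homologyFunctor _ _ i).mapIso
    (((Γf Z).mapHomologicalComplex (ComplexShape.up ℤ)).mapIso
      ((NatIso.mapHomologicalComplex (Scheme.Modules.pullbackComp l j)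
        (ComplexShape.up ℤ)).app P).symm)).toLinearEquiv.finrank_eq

theorem ptBetti_Spec_tilde {R K : CommRingCat.{u}} (hK : IsField K) (φ : R ⟶ K)
    (M : CochainComplex (ModuleCat.{u} R) ℤ) (i : ℤ) [Module.Finite R (M.X i)]
    [Module.Finite R (M.X (i + 1))] (q : PrimeSpectrum R)
    (hq : RingHom.ker φ.hom = q.asIdeal) :
    ptBetti (Spec.map φ)
      (((tilde.functor R).mapHomologicalComplex (ComplexShape.up ℤ)).obj M) i =
      CohIII.dRank M i q := by
  have h1 := ((HomologicalComplex.homologyFunctor _ _ i).mapIso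
    (((Γf (Spec K)).mapHomologicalComplex (ComplexShape.up ℤ)).mapIso
      (pullTildeCxIso φ M))).toLinearEquiv.finrank_eq
  have h2 := finrank_homology_Γf_tilde K
    (((ModuleCat.extendScalars.{u, u, u} φ.hom).mapHomologicalComplex
      (ComplexShape.up ℤ)).obj M) i
  letI := hK.toField
  have h3 := finrank_homology_bcCx_eq_dRank K φ.hom q hq M i
  exact h1.trans (h2.trans h3)

section Main

variable [∀ x : X, DCoh.HasLpull (X.fromSpecResidueField x)]

theorem betti_eq_of_mqi (E : DCoh.D X) (W : X.Opens)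
    (F : CochainComplex X.Modules ℤ) (hF : DCoh.IsKFlat F) (eF : DCoh.toD X F ≅ E)
    (P : CochainComplex (W : Scheme.{u}).Modules ℤ) (hP : DCoh.IsKFlat P) (i : ℤ)
    (α : DerivedCategory.Q.obj P ⟶ DerivedCategory.Q.obj ((DCoh.restrictCx W).obj F))
    (hα : MQI (i - 1) α)
    (y : X) (h : Spec (X.residueField y) ⟶ (W : Scheme.{u}))
    (hg : h ≫ W.ι = X.fromSpecResidueField y) :
    PerfD.betti E y i = Module.finrank (Coh.Γtop (Spec (X.residueField y)))
      ((((Γf (Spec (X.residueField y))).mapHomologicalComplex (ComplexShape.up ℤ)).obj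
        (((Scheme.Modules.pullback h).mapHomologicalComplex (ComplexShape.up ℤ)).obj P)).homology
          i) := by
  haveI : DCoh.HasLpull h := hasLpull h
  let e := LpullRestrictIso W h (X.fromSpecResidueField y) hg E F hF eF
  let C := ((Scheme.Modules.pullback h).mapHomologicalComplex (ComplexShape.up ℤ)).obj P
  have hm := mqi_Lpull h hP (isKFlat_restrictCx W F hF) α (i - 1) hα
  haveI : IsIso ((DerivedCategory.homologyFunctor _ i).map ((DCoh.Lpull h).map α)) :=
    hm.1 i (by omega)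
  let e1 : DCoh.HD ((DCoh.Lpull (X.fromSpecResidueField y)).obj E) i ≅ C.homology i :=
    (DerivedCategory.homologyFunctor _ i).mapIso e ≪≫
      (asIso ((DerivedCategory.homologyFunctor _ i).map ((DCoh.Lpull h).map α))).symm ≪≫
      (DerivedCategory.homologyFunctor _ i).mapIso (LpullObjIso h P hP) ≪≫
      (DerivedCategory.homologyFunctorFactors _ i).app C
  let e2 := (Γf (Spec (X.residueField y))).mapIso e1 ≪≫ (ΓfHomologyIso C i).symm
  exact e2.toLinearEquiv.finrank_eq

theorem betti_eq_dRank (E : DCoh.D X) (V : X.Opens)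
    (F : CochainComplex X.Modules ℤ) (hF : DCoh.IsKFlat F) (eF : DCoh.toD X F ≅ E)
    (P : CochainComplex (V : Scheme.{u}).Modules ℤ) (hP : DCoh.IsKFlat P) (i : ℤ)
    (α : DerivedCategory.Q.obj P ⟶ DerivedCategory.Q.obj ((DCoh.restrictCx V).obj F))
    (hα : MQI (i - 1) α)
    (R : CommRingCat.{u}) (j : Spec R ⟶ (V : Scheme.{u})) [IsOpenImmersion j] (k : ℤ → ℕ)
    (e : ∀ n, (((Scheme.Modules.pullback j).mapHomologicalComplex
      (ComplexShape.up ℤ)).obj P).X n ≅ FlatMod.freeMod (Spec R) (k n)) (q : Spec R) :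
    PerfD.betti E ((j ≫ V.ι).base q) i =
      CohIII.dRank (tildeCx R (((Scheme.Modules.pullback j).mapHomologicalComplex
        (ComplexShape.up ℤ)).obj P) k e) i q := by
  set y := (j ≫ V.ι).base q with hy
  have hrange : Set.range (X.fromSpecResidueField y) ⊆ Set.range (j ≫ V.ι) := by
    rw [Scheme.range_fromSpecResidueField]
    rintro _ rfl
    exact ⟨q, rfl⟩
  let l := IsOpenImmersion.lift (j ≫ V.ι) (X.fromSpecResidueField y) hrange
  have hl : l ≫ j ≫ V.ι = X.fromSpecResidueField y := IsOpenImmersion.lift_fac _ _ _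
  let φ := Spec.preimage l
  have hφ : Spec.map φ = l := Spec.map_preimage l
  have h1 := betti_eq_of_mqi E V F hF eF P hP i α hα y (l ≫ j)
    (by rw [Category.assoc]; exact hl)
  have h2 := ptBetti_comp l j P i
  let C := ((Scheme.Modules.pullback j).mapHomologicalComplex (ComplexShape.up ℤ)).obj P
  let M := tildeCx R C k e
  have h3 := ptBetti_congr l (tildeCxIso R C k e).symm i
  have hq : RingHom.ker φ.hom = q.asIdeal := by
    let pt : Spec (X.residueField y) := default
    have hpt : l.base pt = q := by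
      apply (j ≫ V.ι).isOpenEmbedding.injective
      have : (j ≫ V.ι).base (l.base pt) = (l ≫ j ≫ V.ι).base pt := rfl
      rw [this, hl, Scheme.fromSpecResidueField_apply]
    have hbot : pt.asIdeal = ⊥ :=
      (Ideal.eq_bot_or_top pt.asIdeal).resolve_right pt.isPrime.ne_top
    rw [← hpt, ← hφ]
    change _ = Ideal.comap φ.hom pt.asIdeal
    rw [hbot]
    rfl
  haveI : Module.Finite R (M.X i) := inferInstanceAs (Module.Finite R (Fin (k i) → R))
  haveI : Module.Finite R (M.X (i + 1)) :=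
    inferInstanceAs (Module.Finite R (Fin (k (i + 1)) → R))
  have h4 := ptBetti_Spec_tilde (Field.toIsField (X.residueField y)) φ M i q hq
  rw [hφ] at h4
  exact h1.trans (h2.trans (h3.trans h4))

/-- Upper semicontinuity of the `i`-th Betti number of an `(i-1)`-pseudo-coherent object. -/
theorem isOpen_betti_lt (E : DCoh.D X) (i : ℤ) (hE : DCoh.IsPseudoCoherentD (i - 1) E)
    (n : ℕ) : IsOpen {x : X | PerfD.betti E x i < n} := by
  rw [isOpen_iff_mem_nhds]
  intro x hx
  obtain ⟨V, hxV, hV⟩ := hE x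
  obtain ⟨F, hF, ⟨eF⟩⟩ := exists_kflat_rep E
  obtain ⟨P, α, hP, hα1, hα2⟩ := hV F ⟨eF⟩
  have hPK := isKFlat_of_isStrictlyPerfect hP
  obtain ⟨R, j, hj, hxj, hfree⟩ := exists_affine_free_chart P hP ⟨x, hxV⟩
  haveI := hj
  choose k hk using hfree
  let e : ∀ m, (((Scheme.Modules.pullback j).mapHomologicalComplex
      (ComplexShape.up ℤ)).obj P).X m ≅ FlatMod.freeMod (Spec R) (k m) := fun m => (hk m).some
  let M := tildeCx R (((Scheme.Modules.pullback j).mapHomologicalComplex
      (ComplexShape.up ℤ)).obj P) k e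
  have hbetti : ∀ q : Spec R, PerfD.betti E ((j ≫ V.ι).base q) i = CohIII.dRank M i q :=
    fun q => betti_eq_dRank E V F hF eF P hPK i α ⟨hα1, hα2⟩ R j k e q
  haveI : Module.Finite R (M.X i) := inferInstanceAs (Module.Finite R (Fin (k i) → R))
  haveI : Module.FinitePresentation R (M.X i) :=
    inferInstanceAs (Module.FinitePresentation R (Fin (k i) → R))
  haveI : Module.Flat R (M.X i) := inferInstanceAs (Module.Flat R (Fin (k i) → R))
  haveI : Module.Finite R (M.X (i + 1)) :=
    inferInstanceAs (Module.Finite R (Fin (k (i + 1)) → R))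
  haveI : Module.FinitePresentation R (M.X (i + 1)) :=
    inferInstanceAs (Module.FinitePresentation R (Fin (k (i + 1)) → R))
  haveI : Module.Flat R (M.X (i + 1)) := inferInstanceAs (Module.Flat R (Fin (k (i + 1)) → R))
  have hopen : IsOpen {q : PrimeSpectrum R | CohIII.dRank M i q < n} :=
    isOpen_setOf_dRank_lt M i n
  have himg : IsOpen ((j ≫ V.ι).base '' {q : PrimeSpectrum R | CohIII.dRank M i q < n}) :=
    (j ≫ V.ι).isOpenEmbedding.isOpenMap _ hopen
  refine Filter.mem_of_superset (himg.mem_nhds ?_) ?_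
  · obtain ⟨q, hq⟩ := hxj
    have hxq : (j ≫ V.ι).base q = x := by
      change V.ι.base (j.base q) = x
      rw [hq]
      rfl
    refine ⟨q, ?_, hxq⟩
    change CohIII.dRank M i q < n
    rw [← hbetti q, hxq]
    exact hx
  · rintro _ ⟨q, hq, rfl⟩
    change PerfD.betti E _ i < n
    rw [hbetti q]
    exact hq

end Main

end Groth.Agent.H28.BettiPC
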