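import Groth.Agent.H28.PerfAmp3

/-!
# Chain-level Tor-vanishing on K-flat representatives ⇒ global flat amplitude (helper28 library)

Same argument as `H28.PerfAmp.hasFlatAmplitudeIn_of_locAmp` (adapted from helper40's
`H40.TorAmp3.hasFlatAmplitudeIn_of_hasTorAmplitudeIn`), with the Tor-vanishing as a hypothesis.
-/

set_option autoImplicit false
set_option maxHeartbeats 400000
set_option backward.isDefEq.respectTransparency false
universe u
open CategoryTheory CategoryTheory.Limits AlgebraicGeometry HomologicalComplex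
attribute [local instance] HasDerivedCategory.standard

namespace Groth.Agent.H28.PerfAmp

open Groth.Agent.H31 Groth.Agent.H40.LTensorDCoh Groth.Agent.H40.TorAmp Groth.Agent.H40.TorAmp2
  Groth.Agent.H40.TorAmp3 Groth.Agent.H40.FlatCoker Groth.Agent.H40.FlatKer

variable {X : Scheme.{u}}

/-- Chain-level Tor-vanishing outside `[a,b]` on all K-flat representatives implies flat amplitude
in `[a,b]`. -/
theorem hasFlatAmplitudeIn_of_vanishing (E : DCoh.D X) (a b : ℤ) (hab : a ≤ b)
    (hV : ∀ (P : CochainComplex X.Modules ℤ), DCoh.IsKFlat P → (DerivedCategory.Q.obj P ≅ E) →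
      ∀ (G : X.Modules) (i : ℤ), (i < a ∨ b < i) → IsZero (((TfC G).obj P).homology i)) :
    DCoh.HasFlatAmplitudeIn a b E := by
  let K : CochainComplex X.Modules ℤ := DerivedCategory.Q.objPreimage E
  let eK : DCoh.toD X K ≅ E := DerivedCategory.Q.objObjPreimageIso E
  obtain ⟨P, q, hPK, hPfl, hq, -⟩ : ∃ (P : CochainComplex X.Modules ℤ) (q : P ⟶ K),
      DCoh.IsKFlat P ∧ (∀ n : ℤ, ModSite.IsFlat (O := X.sheaf) (P.X n)) ∧ QuasiIso q ∧
        ∀ n : ℤ, Epi (q.f n) :=
    Groth.Agent.H31.KFlat.exists_isKFlat_resolution (O := X.sheaf) K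
  have hQq : IsIso (DerivedCategory.Q.map q) :=
    (DerivedCategory.isIso_Q_map_iff_quasiIso _ _).2 hq
  have eP : DCoh.toD X P ≅ E := @asIso _ _ _ _ (DerivedCategory.Q.map q) hQq ≪≫ eK
  have hPfl' : ∀ n, FlatMod.IsFlat (P.X n) := fun n =>
    Groth.Agent.H40.FlatBridge2.stalkFlat_of_isFlat _ (hPfl n)
  have hvan : ∀ (G : X.Modules) (i : ℤ), (i < a ∨ b < i) →
      IsZero (((Fc G).obj P).homology i) := fun G i hi =>
    hV P hPK eP G i hi
  have hvanP : ∀ i : ℤ, (i < a ∨ b < i) → IsZero (P.homology i) := fun i hi =>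
    isZero_homology_of_tensor_unit P i (hvan _ i hi)
  -- step 1 : truncation above
  have hLE : P.IsLE b := by
    rw [CochainComplex.isLE_iff]
    intro i hi
    rw [HomologicalComplex.exactAt_iff_isZero_homology]
    exact hvanP i (Or.inr hi)
  have hι : QuasiIso (P.ιTruncLE b) := inferInstance
  have hcyc : FlatMod.IsFlat (P.cycles b) :=
    flat_cycles P b (hPfl' _) (hPfl' _) (hPfl' _)
      (fun G => hvan G (b + 1) (Or.inr (by omega)))
      (by rw [HomologicalComplex.exactAt_iff_isZero_homology]; exact hvanP (b + 1) (Or.inr (by omega)))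
  have hP1fl : ∀ n, FlatMod.IsFlat ((P.truncLE b).X n) := by
    intro n
    rcases lt_trichotomy n b with h | h | h
    · exact stalkFlat_of_iso (P.truncLEXIso b n h).symm (hPfl' n)
    · subst h; exact stalkFlat_of_iso (P.truncLEXIsoCycles n).symm hcyc
    · exact stalkFlat_of_isZero ((P.truncLE b).isZero_of_isStrictlyLE b n h)
  have hP1K : DCoh.IsKFlat (P.truncLE b) :=
    isKFlat_of_bounded_above_stalkFlat (P.truncLE b) b
      (fun q hq => (P.truncLE b).isZero_of_isStrictlyLE b q hq) hP1fl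
  have hQι : IsIso (DerivedCategory.Q.map (P.ιTruncLE b)) :=
    (DerivedCategory.isIso_Q_map_iff_quasiIso _ _).2 hι
  have eP1 : DCoh.toD X (P.truncLE b) ≅ E :=
    @asIso _ _ _ _ (DerivedCategory.Q.map (P.ιTruncLE b)) hQι ≪≫ eP
  have hvan1 : ∀ (G : X.Modules) (i : ℤ), i < a →
      IsZero (((Fc G).obj (P.truncLE b)).homology i) := fun G i hi =>
    hV (P.truncLE b) hP1K eP1 G i (Or.inl hi)
  have hvanP1 : ∀ i : ℤ, i < a → IsZero ((P.truncLE b).homology i) := fun i hi =>
    isZero_homology_of_tensor_unit _ i (hvan1 _ i hi)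
  -- step 2 : truncation below
  have hGE : (P.truncLE b).IsGE a := by
    rw [CochainComplex.isGE_iff]
    intro i hi
    rw [HomologicalComplex.exactAt_iff_isZero_homology]
    exact hvanP1 i hi
  have hπ : QuasiIso ((P.truncLE b).πTruncGE a) := inferInstance
  have hop : FlatMod.IsFlat ((P.truncLE b).opcycles a) :=
    flat_cokernel_of_homology_zero (P.truncLE b) a (hP1fl a)
      (fun G => hvan1 G (a - 1) (by omega)) ((P.truncLE b).pOpcycles a)
      ((P.truncLE b).d_pOpcycles _ _) ((P.truncLE b).opcyclesIsCokernel (a - 1) a (by simp))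
  have hQπ : IsIso (DerivedCategory.Q.map ((P.truncLE b).πTruncGE a)) :=
    (DerivedCategory.isIso_Q_map_iff_quasiIso _ _).2 hπ
  refine ⟨(P.truncLE b).truncGE a, ?_, ?_,
    ⟨(@asIso _ _ _ _ (DerivedCategory.Q.map ((P.truncLE b).πTruncGE a)) hQπ).symm ≪≫ eP1⟩⟩
  · intro i hi
    rcases hi with hi | hi
    · exact ((P.truncLE b).truncGE a).isZero_of_isStrictlyGE a i hi
    · exact ((P.truncLE b).truncGEXIso a i (by omega)).isZero_iff.2
        ((P.truncLE b).isZero_of_isStrictlyLE b i hi)
  · intro i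
    rcases lt_trichotomy i a with h | h | h
    · exact stalkFlat_of_isZero (((P.truncLE b).truncGE a).isZero_of_isStrictlyGE a i h)
    · subst h; exact stalkFlat_of_iso ((P.truncLE b).truncGEXIsoOpcycles i).symm hop
    · exact stalkFlat_of_iso ((P.truncLE b).truncGEXIso a i h).symm (hP1fl i)

end Groth.Agent.H28.PerfAmp
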