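import Groth.Agent.H28.StalkFlatAmp
import Groth.Agent.H31.KFlatBounded
import Groth.Agent.H31.KFlatResolutionSite
import Groth.Agent.H40.LTensorComp
import Groth.Agent.H28.PerfAmp4

set_option autoImplicit false
set_option maxHeartbeats 400000
universe u
open CategoryTheory CategoryTheory.Limits AlgebraicGeometry HomologicalComplex MonoidalCategory
attribute [local instance] HasDerivedCategory.standard

namespace Groth.Agent.H28.StalkTor

open Groth.Agent.H31 Groth.Agent.H31.KFlatRing

section Ring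

variable {R : Type u} [CommRing R]

/-- Termwise `- ⊗ N` on complexes of `R`-modules. -/
noncomputable abbrev TR (N : ModuleCat.{u} R) : DRing.Cx R ⥤ DRing.Cx R :=
  ((curriedTensor (ModuleCat.{u} R)).flip.obj N).mapHomologicalComplex (ComplexShape.up ℤ)

theorem ring_nonempty_homology_iso (N : ModuleCat.{u} R) (P₁ P₂ : DRing.Cx R)
    (h₁ : DRing.IsKFlat R P₁) (h₂ : DRing.IsKFlat R P₂)
    (e : DRing.toD P₁ ≅ DRing.toD P₂) (i : ℤ) :
    Nonempty (((TR N).obj P₁).homology i ≅ ((TR N).obj P₂).homology i) := by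
  have := hasExactColimitsOfShape_nat (R := R)
  obtain ⟨T, s, hs, g, hg⟩ := DerivedCategory.right_fac e.hom
  have hg' : IsIso (DerivedCategory.Q.map g) := by
    have : DerivedCategory.Q.map g = DerivedCategory.Q.map s ≫ e.hom := by
      rw [hg, IsIso.hom_inv_id_assoc]
    rw [this]
    infer_instance
  obtain ⟨T', r, hT', -, hr, -⟩ := exists_isKFlat_resolution T
  have hs' : QuasiIso s := (DerivedCategory.isIso_Q_map_iff_quasiIso _ s).1 hs
  have hg'' : QuasiIso g := (DerivedCategory.isIso_Q_map_iff_quasiIso _ g).1 hg'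
  have hrs : QuasiIso (r ≫ s) := inferInstance
  have hrg : QuasiIso (r ≫ g) := inferInstance
  have q1 : QuasiIso ((TR N).map (r ≫ s)) :=
    Groth.Agent.H40.LTensorComp.quasiIso_map_flip_obj (T := curriedTensor (ModuleCat.{u} R))
      tensorLike (r ≫ s) hrs ((isKFlat_iff _).1 hT') ((isKFlat_iff _).1 h₁) N
  have q2 : QuasiIso ((TR N).map (r ≫ g)) :=
    Groth.Agent.H40.LTensorComp.quasiIso_map_flip_obj (T := curriedTensor (ModuleCat.{u} R))
      tensorLike (r ≫ g) hrg ((isKFlat_iff _).1 hT') ((isKFlat_iff _).1 h₂) N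
  have a1 : QuasiIsoAt ((TR N).map (r ≫ s)) i := q1.quasiIsoAt i
  have a2 : QuasiIsoAt ((TR N).map (r ≫ g)) i := q2.quasiIsoAt i
  exact ⟨(@isoOfQuasiIsoAt _ _ _ _ _ _ _ ((TR N).map (r ≫ s)) i _ _ a1).symm ≪≫
    @isoOfQuasiIsoAt _ _ _ _ _ _ _ ((TR N).map (r ≫ g)) i _ _ a2⟩

/-- Tor-vanishing on a K-flat representative of an object with tor amplitude in `[a, b]`. -/
theorem ring_isZero_homology_tensor (P : DRing.Cx R) (hP : DRing.IsKFlat R P) (a b : ℤ)
    (h : DRing.HasTorAmplitudeIn R a b (DRing.toD P)) (N : ModuleCat.{u} R) (i : ℤ)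
    (hi : i < a ∨ b < i) : IsZero (((TR N).obj P).homology i) := by
  obtain ⟨Φ, hv, hfl, ⟨e⟩⟩ := h
  have hΦ : DRing.IsKFlat R Φ :=
    isKFlat_of_bounded_above_flat Φ b (fun j hj => hv j (Or.inr hj)) hfl
  obtain ⟨e'⟩ := ring_nonempty_homology_iso N P Φ hP hΦ e.symm i
  refine IsZero.of_iso ?_ e'
  exact ShortComplex.isZero_homology_of_isZero_X₂ _
    (Functor.map_isZero ((curriedTensor (ModuleCat.{u} R)).flip.obj N) (hv i hi))

end Ring


section Scheme

open ZeroObject
open Groth.Agent.H31.Stalk Groth.Agent.H90.SPerf Groth.Agent.H28.PerfAmp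

variable {X : Scheme.{u}}

/-- Vanishing of a module can be checked on stalks. -/
theorem isZero_of_stalkFunctor (M : X.Modules)
    (h : ∀ x : X, IsZero ((DerSch.stalkFunctor X x).obj M)) : IsZero M :=
  isZero_of_stk (O := shX X) M (fun x => h x)

/-- The complex of stalks of a termwise tensor product. -/
noncomputable def stalkTfCIso (x : X) (G : X.Modules) (P : CochainComplex X.Modules ℤ) :
    ((DerSch.stalkFunctor X x).mapHomologicalComplex (ComplexShape.up ℤ)).obj ((TfC G).obj P) ≅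
      (TR ((DerSch.stalkFunctor X x).obj G)).obj
        (((DerSch.stalkFunctor X x).mapHomologicalComplex (ComplexShape.up ℤ)).obj P) :=
  HomologicalComplex.Hom.isoOfComponents (fun i => τ (shX X) x (P.X i) G)
    (fun i j _ => (τ_natural_left (shX X) x (P.d i j) G).symm)

/-- Tor-vanishing (chain level) from stalkwise tor amplitude, on any K-flat representative. -/
theorem isZero_homology_TfC_of_stalk (F : CochainComplex X.Modules ℤ) (a b : ℤ)
    (hF : ∀ x : X, DRing.HasTorAmplitudeIn (X.presheaf.stalk x) a b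
      (DRing.toD (((DerSch.stalkFunctor X x).mapHomologicalComplex (ComplexShape.up ℤ)).obj F)))
    (P : CochainComplex X.Modules ℤ) (hP : DCoh.IsKFlat P)
    (eP : DerivedCategory.Q.obj P ≅ DerivedCategory.Q.obj F)
    (G : X.Modules) (i : ℤ) (hi : i < a ∨ b < i) : IsZero (((TfC G).obj P).homology i) := by
  refine isZero_of_stalkFunctor _ (fun x => ?_)
  let Sx := DerSch.stalkFunctor X x
  have e1 : Sx.obj (((TfC G).obj P).homology i) ≅
      ((Sx.mapHomologicalComplex (ComplexShape.up ℤ)).obj ((TfC G).obj P)).homology i :=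
    ((homologyMapHCIso Sx i).app _).symm
  have e2 : ((Sx.mapHomologicalComplex (ComplexShape.up ℤ)).obj ((TfC G).obj P)).homology i ≅
      ((TR (Sx.obj G)).obj ((Sx.mapHomologicalComplex (ComplexShape.up ℤ)).obj P)).homology i :=
    (HomologicalComplex.homologyFunctor _ _ i).mapIso (stalkTfCIso x G P)
  have hPx : DRing.IsKFlat (X.presheaf.stalk x)
      ((Sx.mapHomologicalComplex (ComplexShape.up ℤ)).obj P) := (isKFlat_iff_stalk_sch P).1 hP x
  have e3 : DRing.toD ((Sx.mapHomologicalComplex (ComplexShape.up ℤ)).obj F) ≅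
      DRing.toD ((Sx.mapHomologicalComplex (ComplexShape.up ℤ)).obj P) :=
    (Sx.mapDerivedCategoryFactors.app F).symm ≪≫ Sx.mapDerivedCategory.mapIso eP.symm ≪≫
      Sx.mapDerivedCategoryFactors.app P
  have hamp : DRing.HasTorAmplitudeIn (X.presheaf.stalk x) a b
      (DRing.toD ((Sx.mapHomologicalComplex (ComplexShape.up ℤ)).obj P)) := by
    obtain ⟨Φ, hv, hfl, ⟨e⟩⟩ := hF x
    exact ⟨Φ, hv, hfl, ⟨e ≪≫ e3⟩⟩
  exact IsZero.of_iso (ring_isZero_homology_tensor _ hPx a b hamp (Sx.obj G) i hi) (e1 ≪≫ e2)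

/-- The stalk over the identity is the stalk. -/
noncomputable def stalkOverIdIso (x : X) : DerSch.stalkOver (𝟙 X) x ≅ DerSch.stalkFunctor X x :=
  Functor.isoWhiskerLeft (DerSch.stalkFunctor X x)
    (ModuleCat.restrictScalarsId'.{u} ((𝟙 X : X ⟶ X).stalkMap x).hom
      (by rw [Scheme.Hom.stalkMap_id]; rfl)) ≪≫ Functor.rightUnitor _

/-- Stalkwise tor amplitude relative to the identity, in terms of the plain stalk functor. -/
theorem hasTorAmplitudeIn_stalk_of_id (F : CochainComplex X.Modules ℤ) (a b : ℤ)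
    (h : DerSch.HasTorAmplitude (𝟙 X) a b F) (x : X) :
    DRing.HasTorAmplitudeIn (X.presheaf.stalk x) a b
      (DRing.toD (((DerSch.stalkFunctor X x).mapHomologicalComplex (ComplexShape.up ℤ)).obj F)) := by
  obtain ⟨Φ, hv, hfl, ⟨e⟩⟩ := h x
  let ι : (DerSch.stalkCxOver (𝟙 X) x).obj F ≅
      ((DerSch.stalkFunctor X x).mapHomologicalComplex (ComplexShape.up ℤ)).obj F :=
    HomologicalComplex.Hom.isoOfComponents (fun i => (stalkOverIdIso x).app (F.X i))
      (fun i j _ => ((stalkOverIdIso x).hom.naturality (F.d i j)).symm)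
  exact ⟨Φ, hv, hfl, ⟨e ≪≫ DerivedCategory.Q.mapIso ι⟩⟩

/-- An acyclic complex has flat amplitude in any interval. -/
theorem hasFlatAmplitudeIn_of_acyclic (F : CochainComplex X.Modules ℤ) (hF : F.Acyclic) (a b : ℤ) :
    DCoh.HasFlatAmplitudeIn a b (DCoh.toD X F) := by
  have hz : ∀ i : ℤ, IsZero ((0 : CochainComplex X.Modules ℤ).X i) := fun i =>
    Functor.map_isZero (HomologicalComplex.eval _ _ i) (isZero_zero _)
  refine ⟨0, fun i _ => hz i, fun i => Groth.Agent.H40.TorAmp3.stalkFlat_of_isZero (hz i), ⟨?_⟩⟩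
  have hq : QuasiIso (0 : (0 : CochainComplex X.Modules ℤ) ⟶ F) := by
    rw [quasiIso_iff]
    intro i
    rw [quasiIsoAt_iff_exactAt]
    · exact hF i
    · rw [HomologicalComplex.exactAt_iff_isZero_homology]
      exact ShortComplex.isZero_homology_of_isZero_X₂ _ (hz i)
  have hQ : IsIso (DerivedCategory.Q.map (0 : (0 : CochainComplex X.Modules ℤ) ⟶ F)) :=
    (DerivedCategory.isIso_Q_map_iff_quasiIso _ _).2 hq
  exact @asIso _ _ _ _ _ hQ

/-- Stalkwise tor amplitude in an empty interval forces acyclicity. -/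
theorem acyclic_of_stalk_of_lt (F : CochainComplex X.Modules ℤ) (a b : ℤ) (hab : b < a)
    (hF : ∀ x : X, DRing.HasTorAmplitudeIn (X.presheaf.stalk x) a b
      (DRing.toD (((DerSch.stalkFunctor X x).mapHomologicalComplex (ComplexShape.up ℤ)).obj F))) :
    F.Acyclic := by
  refine acyclic_of_stk (O := shX X) F (fun x => ?_)
  obtain ⟨Φ, hv, -, ⟨e⟩⟩ := hF x
  intro i
  rw [HomologicalComplex.exactAt_iff_isZero_homology]
  have e1 : (((DerSch.stalkFunctor X x).mapHomologicalComplex (ComplexShape.up ℤ)).obj F).homology i ≅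
      Φ.homology i :=
    (DerivedCategory.homologyFunctorFactors _ i).symm.app _ ≪≫
      (DerivedCategory.homologyFunctor _ i).mapIso e.symm ≪≫
      (DerivedCategory.homologyFunctorFactors _ i).app Φ
  refine IsZero.of_iso ?_ e1
  exact ShortComplex.isZero_homology_of_isZero_X₂ (Φ.sc i) (hv i (by omega))

/-- Stalkwise tor amplitude in `[a,b]` implies global flat amplitude in `[a,b]`. -/
theorem hasFlatAmplitudeIn_of_stalk (F : CochainComplex X.Modules ℤ) (a b : ℤ)
    (hF : ∀ x : X, DRing.HasTorAmplitudeIn (X.presheaf.stalk x) a b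
      (DRing.toD (((DerSch.stalkFunctor X x).mapHomologicalComplex (ComplexShape.up ℤ)).obj F))) :
    DCoh.HasFlatAmplitudeIn a b (DCoh.toD X F) := by
  by_cases hab : a ≤ b
  · exact hasFlatAmplitudeIn_of_vanishing _ a b hab
      (fun P hP eP G i hi => isZero_homology_TfC_of_stalk F a b hF P hP eP G i hi)
  · exact hasFlatAmplitudeIn_of_acyclic F (acyclic_of_stalk_of_lt F a b (by omega) hF) a b

end Scheme

end Groth.Agent.H28.StalkTor
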