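import Groth.Agent.H2.ConnComp
import Groth.Prelude.Def_DerSch
import Groth.Prelude.Def_DDual2

/-!
# Stalkwise tor amplitude: bookkeeping (helper28 library)

* `stalkOverCompIso` : `stalkOver f x ⋙ restrictScalars (g.stalkMap (f x)) ≅ stalkOver (f ≫ g) x`.
* `toDStalkCompIso` : the induced iso in the derived category.
* `unitStalkIso` : `(O_Y)_y` as a complex over `O_{Z, g y}` is `O_{Y,y}[0]`.
-/

set_option autoImplicit false
set_option maxHeartbeats 400000
universe u
open CategoryTheory CategoryTheory.Limits AlgebraicGeometry HomologicalComplex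
attribute [local instance] HasDerivedCategory.standard

namespace Groth.Agent.H28.StalkTor

variable {X Y Z : Scheme.{u}}

/-- The stalk map of `g` at `f x`, with source typed at `(f ≫ g) x`. -/
noncomputable abbrev φ (f : X ⟶ Y) (g : Y ⟶ Z) (x : X) :
    Z.presheaf.stalk ((f ≫ g).base x) →+* Y.presheaf.stalk (f.base x) :=
  (g.stalkMap (f.base x)).hom

/-- The stalk over `Z` is the stalk over `Y` with scalars restricted. -/
noncomputable def stalkOverCompIso (f : X ⟶ Y) (g : Y ⟶ Z) (x : X) :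
    DerSch.stalkOver f x ⋙ ModuleCat.restrictScalars.{u} (φ f g x) ≅
      DerSch.stalkOver (f ≫ g) x :=
  Functor.associator _ _ _ ≪≫ Functor.isoWhiskerLeft (DerSch.stalkFunctor X x)
    (ModuleCat.restrictScalarsComp'.{u} (φ f g x) (f.stalkMap x).hom
      ((f ≫ g).stalkMap x).hom (by rw [Scheme.Hom.stalkMap_comp]; rfl)).symm

/-- The complex of stalks over `Z` is the complex of stalks over `Y` with scalars restricted. -/
noncomputable def toDStalkCompIso (f : X ⟶ Y) (g : Y ⟶ Z) (x : X)
    (F : CochainComplex X.Modules ℤ) :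
    (DRing.restrictD (φ f g x)).obj
        (DRing.toD ((DerSch.stalkCxOver f x).obj F)) ≅
      DRing.toD ((DerSch.stalkCxOver (f ≫ g) x).obj F) :=
  (ModuleCat.restrictScalars.{u} (φ f g x)).mapDerivedCategoryFactors.app _ ≪≫
    DerivedCategory.Q.mapIso
      ((NatIso.mapHomologicalComplex (stalkOverCompIso f g x) (ComplexShape.up ℤ)).app F)


/-- `(O_Y)_y`, with scalars restricted to `O_{Z, g y}`, is `O_{Y,y}` as an algebra over `O_{Z, g y}`. -/
noncomputable def stalkOverUnitIso (g : Y ⟶ Z) (y : Y) :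
    letI : Algebra (Z.presheaf.stalk (g.base y)) (Y.presheaf.stalk y) :=
      (g.stalkMap y).hom.toAlgebra
    (DerSch.stalkOver g y).obj (Coh.structureModule Y) ≅
      ModuleCat.of (Z.presheaf.stalk (g.base y)) (Y.presheaf.stalk y) := by
  letI : Algebra (Z.presheaf.stalk (g.base y)) (Y.presheaf.stalk y) :=
    (g.stalkMap y).hom.toAlgebra
  let ℓ : Y.presheaf.stalk y ≃ₗ[Y.presheaf.stalk y] (Coh.structureModule Y).presheaf.stalk y :=
    LinearEquiv.ofBijective (Groth.Agent.H2.ConnComp.L Y y) (Groth.Agent.H2.ConnComp.L_bijective Y y)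
  let e3 : (ModuleCat.restrictScalars.{u} (g.stalkMap y).hom).obj
      (ModuleCat.of (Y.presheaf.stalk y) (Y.presheaf.stalk y)) ≅
      ModuleCat.of (Z.presheaf.stalk (g.base y)) (Y.presheaf.stalk y) :=
    LinearEquiv.toModuleIso
      (AddEquiv.toLinearEquiv
        (M := ↑((ModuleCat.restrictScalars.{u} (g.stalkMap y).hom).obj
          (ModuleCat.of (Y.presheaf.stalk y) (Y.presheaf.stalk y))))
        (M₂ := Y.presheaf.stalk y) (AddEquiv.refl _) (fun a b => rfl))
  exact (ModuleCat.restrictScalars.{u} (g.stalkMap y).hom).mapIso ℓ.symm.toModuleIso ≪≫ e3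

/-- Tor dimension of a morphism, at one point, in ring form. -/
theorem hasTorAmplitudeIn_inD_of_hasTorDimLE (g : Y ⟶ Z) (n : ℕ) (hg : DerSch.HasTorDimLE g n)
    (y : Y) :
    letI : Algebra (Z.presheaf.stalk (g.base y)) (Y.presheaf.stalk y) :=
      (g.stalkMap y).hom.toAlgebra
    DRing.HasTorAmplitudeIn (Z.presheaf.stalk (g.base y)) (-(n : ℤ)) 0
      (Dual.inD (Z.presheaf.stalk (g.base y)) (Y.presheaf.stalk y)) := by
  letI : Algebra (Z.presheaf.stalk (g.base y)) (Y.presheaf.stalk y) :=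
    (g.stalkMap y).hom.toAlgebra
  obtain ⟨E, hv, hfl, ⟨e⟩⟩ := hg y
  refine ⟨E, hv, hfl, ⟨e ≪≫ ?_⟩⟩
  let e1 : (DerSch.stalkCxOver g y).obj (DerSch.unitCx Y) ≅
      (HomologicalComplex.single (ModuleCat.{u} (Z.presheaf.stalk (g.base y))) (ComplexShape.up ℤ) 0).obj
        ((DerSch.stalkOver g y).obj (Coh.structureModule Y)) :=
    (HomologicalComplex.singleMapHomologicalComplex (DerSch.stalkOver g y) (ComplexShape.up ℤ) 0).app _
  exact DerivedCategory.Q.mapIso (e1 ≪≫
    (HomologicalComplex.single (ModuleCat.{u} (Z.presheaf.stalk (g.base y))) (ComplexShape.up ℤ) 0).mapIso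
      (stalkOverUnitIso g y)) ≪≫
    (DerivedCategory.singleFunctorIsoCompQ (ModuleCat.{u} (Z.presheaf.stalk (g.base y))) 0).symm.app _

end Groth.Agent.H28.StalkTor
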