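import Groth.Agent.H8.ClosedPush
import Groth.Agent.H28.StalkFlatAmp2
import Groth.Agent.H28.StalkTor

set_option autoImplicit false
set_option maxHeartbeats 400000
universe u
open CategoryTheory CategoryTheory.Limits AlgebraicGeometry HomologicalComplex Opposite
attribute [local instance] HasDerivedCategory.standard

namespace Groth.Agent.H28.ClosedStalk

variable {Z X : Scheme.{u}} (i : Z ⟶ X)

/-- The comparison `(i_* M)_{i z} ⟶ M_z` of stalks, on abelian groups. -/
noncomputable abbrev spAb (M : Z.Modules) (z : Z) :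
    ((Scheme.Modules.pushforward i).obj M).presheaf.stalk (i.base z) ⟶ M.presheaf.stalk z :=
  TopCat.Presheaf.stalkPushforward AddCommGrpCat i.base M.presheaf z

/-- The comparison of stalks is semilinear for the stalk map of `i`. -/
theorem spAb_smul (M : Z.Modules) (z : Z) (r : X.presheaf.stalk (i.base z))
    (m : ((Scheme.Modules.pushforward i).obj M).presheaf.stalk (i.base z)) :
    spAb i M z (r • m) = (i.stalkMap z).hom r • spAb i M z m := by
  obtain ⟨U, hU, s, rfl⟩ := X.presheaf.exists_germ_eq (x := i.base z) r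
  obtain ⟨V, hV, t, rfl⟩ :=
    ((Scheme.Modules.pushforward i).obj M).presheaf.exists_germ_eq (x := i.base z) m
  have hW : i.base z ∈ U ⊓ V := ⟨hU, hV⟩
  have hs := X.presheaf.germ_res_apply (homOfLE inf_le_left : U ⊓ V ⟶ U) (i.base z) hW s
  have ht := ((Scheme.Modules.pushforward i).obj M).presheaf.germ_res_apply
    (homOfLE inf_le_right : U ⊓ V ⟶ V) (i.base z) hW t
  rw [← hs, ← ht]
  generalize X.presheaf.map (homOfLE inf_le_left : U ⊓ V ⟶ U).op s = s'
  generalize ((Scheme.Modules.pushforward i).obj M).presheaf.map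
    (homOfLE inf_le_right : U ⊓ V ⟶ V).op t = t'
  have keyP : ∀ (a : Γ(X, U ⊓ V))
      (b : ((Scheme.Modules.pushforward i).obj M).presheaf.obj (op (U ⊓ V))),
      ((Scheme.Modules.pushforward i).obj M).presheaf.germ (U ⊓ V) (i.base z) hW (a • b) =
        X.presheaf.germ (U ⊓ V) (i.base z) hW a •
          ((Scheme.Modules.pushforward i).obj M).presheaf.germ (U ⊓ V) (i.base z) hW b :=
    fun a b => PresheafOfModules.germ_smul (R := X.presheaf)
      (show PresheafOfModules (X.presheaf ⋙ forget₂ CommRingCat RingCat) from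
        ((Scheme.Modules.pushforward i).obj M).val) (i.base z) (U ⊓ V) hW a b
  have keyM : ∀ (a : Γ(Z, i ⁻¹ᵁ (U ⊓ V))) (b : M.presheaf.obj (op (i ⁻¹ᵁ (U ⊓ V)))),
      M.presheaf.germ (i ⁻¹ᵁ (U ⊓ V)) z hW (a • b) =
        Z.presheaf.germ (i ⁻¹ᵁ (U ⊓ V)) z hW a • M.presheaf.germ (i ⁻¹ᵁ (U ⊓ V)) z hW b :=
    fun a b => PresheafOfModules.germ_smul (R := Z.presheaf)
      (show PresheafOfModules (Z.presheaf ⋙ forget₂ CommRingCat RingCat) from M.val)
      z (i ⁻¹ᵁ (U ⊓ V)) hW a b
  rw [← keyP]
  have h1 : ∀ b : ((Scheme.Modules.pushforward i).obj M).presheaf.obj (op (U ⊓ V)),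
      spAb i M z (((Scheme.Modules.pushforward i).obj M).presheaf.germ (U ⊓ V) (i.base z) hW b) =
        M.presheaf.germ (i ⁻¹ᵁ (U ⊓ V)) z hW b :=
    fun b => TopCat.Presheaf.stalkPushforward_germ_apply AddCommGrpCat i.base M.presheaf
      (U ⊓ V) z hW b
  rw [h1, h1]
  have h2 : (i.stalkMap z).hom (X.presheaf.germ (U ⊓ V) (i.base z) hW s') =
      Z.presheaf.germ (i ⁻¹ᵁ (U ⊓ V)) z hW (i.app (U ⊓ V) s') :=
    Scheme.Hom.germ_stalkMap_apply i (U ⊓ V) z hW s'
  rw [h2]
  exact keyM (i.app (U ⊓ V) s') t'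

/-- The comparison of stalks as a linear map over `O_{X, i z}`. -/
noncomputable def spLinMap (M : Z.Modules) (z : Z) :
    ((DerSch.stalkFunctor X (i.base z)).obj ((Scheme.Modules.pushforward i).obj M)) →ₗ[X.presheaf.stalk (i.base z)]
      ((DerSch.stalkOver i z).obj M) where
  toFun := fun m => spAb i M z m
  map_add' := fun a b => map_add (spAb i M z).hom a b
  map_smul' := fun r m => spAb_smul i M z r m

theorem spLinMap_germ (M : Z.Modules) (z : Z) (U : X.Opens) (hU : i.base z ∈ U)
    (b : ((Scheme.Modules.pushforward i).obj M).presheaf.obj (op U)) :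
    spLinMap i M z (((Scheme.Modules.pushforward i).obj M).presheaf.germ U (i.base z) hU b) =
      M.presheaf.germ (i ⁻¹ᵁ U) z hU b :=
  TopCat.Presheaf.stalkPushforward_germ_apply AddCommGrpCat i.base M.presheaf U z hU b

theorem spLinMap_bijective (hi : Topology.IsInducing i.base) (M : Z.Modules) (z : Z) :
    Function.Bijective (spLinMap i M z) := by
  haveI : IsIso (spAb i M z) :=
    TopCat.Presheaf.stalkPushforward.stalkPushforward_iso_of_isInducing AddCommGrpCat hi
      M.presheaf z
  exact ConcreteCategory.bijective_of_isIso (spAb i M z)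

/-- For an inducing `i`: `(i_* M)_{i z} ≅ M_z` over `O_{X, i z}`, naturally in `M`. -/
noncomputable def pushStalkIso (hi : Topology.IsInducing i.base) (z : Z) :
    Scheme.Modules.pushforward i ⋙ DerSch.stalkFunctor X (i.base z) ≅ DerSch.stalkOver i z :=
  NatIso.ofComponents
    (fun M => (LinearEquiv.ofBijective (spLinMap i M z) (spLinMap_bijective i hi M z)).toModuleIso)
    (by
      intro M N φ
      ext a
      obtain ⟨U, hU, n, rfl⟩ :=
        ((Scheme.Modules.pushforward i).obj M).presheaf.exists_germ_eq (x := i.base z) a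
      show spLinMap i N z ((DerSch.stalkFunctor X (i.base z)).map
          ((Scheme.Modules.pushforward i).map φ)
          (((Scheme.Modules.pushforward i).obj M).presheaf.germ U (i.base z) hU n)) =
        (DerSch.stalkFunctor Z z).map φ (spLinMap i M z
          (((Scheme.Modules.pushforward i).obj M).presheaf.germ U (i.base z) hU n))
      rw [DerSch.stalkFunctor_map_germ, spLinMap_germ, spLinMap_germ]
      exact (DerSch.stalkFunctor_map_germ z φ (i ⁻¹ᵁ U) hU n).symm)

open Groth.Agent.H28.StalkTor in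
/-- Stalks of `i_* M` over the base of a further morphism. -/
noncomputable def pushStalkOverIso {Y : Scheme.{u}} (hi : Topology.IsInducing i.base)
    (f' : X ⟶ Y) (z : Z) :
    Scheme.Modules.pushforward i ⋙ DerSch.stalkFunctor X (i.base z) ⋙
        ModuleCat.restrictScalars.{u} (φ i f' z) ≅
      DerSch.stalkOver (i ≫ f') z :=
  (Functor.associator _ _ _).symm ≪≫
    Functor.isoWhiskerRight (pushStalkIso i hi z) (ModuleCat.restrictScalars.{u} (φ i f' z)) ≪≫
    stalkOverCompIso i f' z

open Groth.Agent.H28.StalkTor in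
/-- S6191: absolute flat amplitude of `i_* F` gives tor amplitude of `F` relative to `i ≫ f'`
for `f'` flat and `i` inducing. -/
theorem hasTorAmplitude_of_pushforward {Y : Scheme.{u}} (hi : Topology.IsInducing i.base)
    (f' : X ⟶ Y) [Flat f'] (F : CochainComplex Z.Modules ℤ) (a b : ℤ)
    (hF : DCoh.HasFlatAmplitudeIn a b (DCoh.toD X
      (((Scheme.Modules.pushforward i).mapHomologicalComplex (ComplexShape.up ℤ)).obj F))) :
    DerSch.HasTorAmplitude (i ≫ f') a b F := by
  have h1 := hasTorAmplitude_of_hasFlatAmplitudeIn f'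
    (((Scheme.Modules.pushforward i).mapHomologicalComplex (ComplexShape.up ℤ)).obj F) a b hF
  intro z
  obtain ⟨Φ, hv, hfl, ⟨e⟩⟩ := h1 (i.base z)
  let ι : (DerSch.stalkCxOver f' (i.base z)).obj
      (((Scheme.Modules.pushforward i).mapHomologicalComplex (ComplexShape.up ℤ)).obj F) ≅
      (DerSch.stalkCxOver (i ≫ f') z).obj F :=
    HomologicalComplex.Hom.isoOfComponents
      (fun n => (pushStalkOverIso i hi f' z).app (F.X n))
      (fun n m _ => ((pushStalkOverIso i hi f' z).hom.naturality (F.d n m)).symm)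
  exact ⟨Φ, hv, hfl, ⟨e ≪≫ DerivedCategory.Q.mapIso ι⟩⟩

end Groth.Agent.H28.ClosedStalk
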