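/-
helper28: vanishing of `T²(B/A, -)` for a quotient `B = A/I` of a Noetherian local ring forces a minimal
system of generators of `I` to be a regular sequence.

* `mem_of_one_tmul_mem_range`: for `R → B` surjective and `N' ≤ N` with `ker(R → B) • N ≤ N'`,
  `1 ⊗ n ∈ range (B ⊗ N' → B ⊗ N)` implies `n ∈ N'`.
* `exists_minimal_generators`: minimal generators of a f.g. ideal of a local ring: every relation has
  coefficients in the maximal ideal.
* `isWeaklyRegular_of_ker_le`: over a Noetherian local ring, elements of the maximal ideal all of whose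
  relations are trivial (Koszul) relations form a regular sequence.
* `P1`, `isWeaklyRegular_of_T2`: the presentation of `B = A/I` over `A` with no variables, and the main result.
-/
import Groth.Agent.H61.CotTSmooth
import Groth.Agent.H61.KoszulRel

set_option autoImplicit false

noncomputable section

namespace Groth.Agent.H28.CotCI

open TensorProduct CotT

universe u

/-! ### Part 1 -/

section Theta

variable {R B : Type*} [CommRing R] [CommRing B] [Algebra R B]
variable {N : Type*} [AddCommGroup N] [Module R N]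

theorem mem_of_one_tmul_mem_range (hs : Function.Surjective (algebraMap R B))
    (N' : Submodule R N) (hK : ∀ r : R, algebraMap R B r = 0 → ∀ n : N, r • n ∈ N') (n : N)
    (h : (1 : B) ⊗ₜ[R] n ∈ LinearMap.range (N'.subtype.baseChange B)) : n ∈ N' := by
  classical
  let s : B → R := Function.surjInv hs
  have hs' : ∀ b, algebraMap R B (s b) = b := Function.surjInv_eq hs
  have key : ∀ (r r' : R), algebraMap R B r = algebraMap R B r' →
      ∀ n : N, r • N'.mkQ n = r' • N'.mkQ n := by
    intro r r' hrr n
    rw [← sub_eq_zero, ← sub_smul, ← map_smul, Submodule.mkQ_apply, Submodule.Quotient.mk_eq_zero]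
    exact hK _ (by rw [map_sub, hrr, sub_self]) n
  let θ₂ : B →ₗ[R] N →ₗ[R] (N ⧸ N') :=
    LinearMap.mk₂ R (fun b n => s b • N'.mkQ n)
      (fun b b' n => by
        rw [← add_smul]
        exact key _ _ (by rw [hs', map_add, hs', hs']) n)
      (fun r b n => by
        rw [smul_smul]
        exact key _ _ (by rw [hs', map_mul, hs', Algebra.smul_def]) n)
      (fun b n n' => by rw [map_add, smul_add])
      (fun r b n => by rw [map_smul, smul_comm])
  let θ : B ⊗[R] N →ₗ[R] (N ⧸ N') := TensorProduct.lift θ₂
  have hθ : ∀ b n, θ (b ⊗ₜ n) = s b • N'.mkQ n := fun b n => by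
    rw [show θ = TensorProduct.lift θ₂ from rfl, TensorProduct.lift.tmul]
    rfl
  have h0 : ∀ y : B ⊗[R] N', θ ((N'.subtype.baseChange B) y) = 0 := by
    intro y
    induction y using TensorProduct.induction_on with
    | zero => rw [map_zero, map_zero]
    | tmul b t =>
      rw [LinearMap.baseChange_tmul, hθ, Submodule.subtype_apply, Submodule.mkQ_apply,
        (Submodule.Quotient.mk_eq_zero N').mpr t.2, smul_zero]
    | add x y hx hy => rw [map_add, map_add, hx, hy, add_zero]
  obtain ⟨y, hy⟩ := h
  have h1 := h0 y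
  rw [hy, hθ] at h1
  have h2 : s 1 • N'.mkQ n = (1 : R) • N'.mkQ n := key _ _ (by rw [hs', map_one]) n
  rw [h2, one_smul, Submodule.mkQ_apply, Submodule.Quotient.mk_eq_zero] at h1
  exact h1

end Theta

/-! ### Part 2: minimal generators -/

section MinGen

variable {A : Type*} [CommRing A] [IsLocalRing A]

theorem coeff_mem_maximalIdeal_of_minimal :
    ∀ (n : ℕ) (f : Fin n → A) (I : Ideal A), Ideal.span (Set.range f) = I →
      (∀ m, m < n → ¬ ∃ g : Fin m → A, Ideal.span (Set.range g) = I) →
      ∀ c : Fin n → A, ∑ i, c i * f i = 0 → ∀ i, c i ∈ IsLocalRing.maximalIdeal A := by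
  intro n
  cases n with
  | zero => intro f I _ _ c _ i; exact i.elim0
  | succ m =>
    intro f I hf hmin c hc i
    by_contra hci
    have hu : IsUnit (c i) := by
      by_contra h
      exact hci ((IsLocalRing.mem_maximalIdeal _).mpr (mem_nonunits_iff.mpr h))
    apply hmin m (Nat.lt_succ_self m)
    refine ⟨fun k => f (i.succAbove k), ?_⟩
    have hsum : c i * f i + ∑ k, c (i.succAbove k) * f (i.succAbove k) = 0 := by
      rw [← Fin.sum_univ_succAbove (fun k => c k * f k) i]; exact hc
    have hfi : f i ∈ Ideal.span (Set.range fun k => f (i.succAbove k)) := by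
      obtain ⟨v, hv⟩ := hu
      have h1 : c i * f i ∈ Ideal.span (Set.range fun k => f (i.succAbove k)) := by
        have h1' : c i * f i = - ∑ k, c (i.succAbove k) * f (i.succAbove k) :=
          eq_neg_of_add_eq_zero_left hsum
        rw [h1']
        exact neg_mem (Ideal.sum_mem _ fun k _ => Ideal.mul_mem_left _ _ (Ideal.subset_span ⟨k, rfl⟩))
      have h2 : f i = (↑v⁻¹ : A) * (c i * f i) := by
        rw [← mul_assoc, ← hv, Units.inv_mul, one_mul]
      rw [h2]
      exact Ideal.mul_mem_left _ _ h1
    apply le_antisymm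
    · rw [← hf]
      exact Ideal.span_mono (by rintro _ ⟨k, rfl⟩; exact ⟨_, rfl⟩)
    · rw [← hf, Ideal.span_le]
      rintro _ ⟨k, rfl⟩
      by_cases hk : k = i
      · rw [hk]; exact hfi
      · obtain ⟨z, rfl⟩ := Fin.exists_succAbove_eq hk
        exact Ideal.subset_span ⟨z, rfl⟩

theorem exists_minimal_generators (I : Ideal A) (hI : I.FG) :
    ∃ (n : ℕ) (f : Fin n → A), Ideal.span (Set.range f) = I ∧
      ∀ c : Fin n → A, ∑ i, c i * f i = 0 → ∀ i, c i ∈ IsLocalRing.maximalIdeal A := by
  classical
  have hex : ∃ n, ∃ f : Fin n → A, Ideal.span (Set.range f) = I :=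
    Submodule.fg_iff_exists_fin_generating_family.mp hI
  obtain ⟨f, hf⟩ := Nat.find_spec hex
  exact ⟨Nat.find hex, f, hf,
    coeff_mem_maximalIdeal_of_minimal _ f I hf (fun m hm => Nat.find_min hex hm)⟩

end MinGen

/-! ### Part 3: trivial relations and regular sequences -/

section Koszul

variable {R : Type*} [CommRing R]

/-- `ev g a = ∑ a i * g i` -/
def ev {n : ℕ} (g : Fin n → R) : (Fin n → R) →ₗ[R] R where
  toFun a := ∑ i, a i * g i
  map_add' a b := by simp [add_mul, Finset.sum_add_distrib]
  map_smul' r a := by simp [Finset.mul_sum, mul_assoc]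

lemma ev_apply {n : ℕ} (g : Fin n → R) (a : Fin n → R) : ev g a = ∑ i, a i * g i := rfl

/-- trivial relations -/
def T {n : ℕ} (g : Fin n → R) : Submodule R (Fin n → R) :=
  Submodule.span R {y | ∃ a b : Fin n → R, y = ev g a • b - ev g b • a}

lemma mem_T {n : ℕ} (g : Fin n → R) (a b : Fin n → R) : ev g a • b - ev g b • a ∈ T g :=
  Submodule.subset_span ⟨a, b, rfl⟩

/-- restriction to the first `n` coordinates -/
def initL (n : ℕ) : (Fin (n + 1) → R) →ₗ[R] (Fin n → R) := LinearMap.funLeft R R Fin.castSucc

lemma initL_apply (n : ℕ) (a : Fin (n + 1) → R) (i : Fin n) : initL n a i = a i.castSucc := rfl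

lemma ev_succ {n : ℕ} (g : Fin (n + 1) → R) (a : Fin (n + 1) → R) :
    ev g a = ev (fun i => g i.castSucc) (initL n a) + a (Fin.last n) * g (Fin.last n) := by
  rw [ev_apply, ev_apply, Fin.sum_univ_castSucc]
  rfl

lemma decomp {n : ℕ} (g : Fin (n + 1) → R) (t : Fin (n + 1) → R) (ht : t ∈ T g) :
    ∃ w : Fin n → R, initL n t - g (Fin.last n) • w ∈ T (fun i => g i.castSucc) ∧
      t (Fin.last n) = - ev (fun i => g i.castSucc) w := by
  refine Submodule.span_induction (p := fun t _ => ∃ w : Fin n → R,
    initL n t - g (Fin.last n) • w ∈ T (fun i => g i.castSucc) ∧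
      t (Fin.last n) = - ev (fun i => g i.castSucc) w) ?_ ?_ ?_ ?_ ht
  · rintro y ⟨a, b, rfl⟩
    refine ⟨a (Fin.last n) • initL n b - b (Fin.last n) • initL n a, ?_, ?_⟩
    · have h1 : initL n (ev g a • b - ev g b • a) -
            g (Fin.last n) • (a (Fin.last n) • initL n b - b (Fin.last n) • initL n a) =
          ev (fun i => g i.castSucc) (initL n a) • initL n b -
            ev (fun i => g i.castSucc) (initL n b) • initL n a := by
        rw [map_sub, map_smul, map_smul, ev_succ g a, ev_succ g b]
        funext i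
        simp only [Pi.sub_apply, Pi.smul_apply, smul_eq_mul]
        ring
      rw [h1]
      exact mem_T _ _ _
    · simp only [Pi.sub_apply, Pi.smul_apply, smul_eq_mul, map_sub, map_smul, ev_succ g a, ev_succ g b]
      ring
  · exact ⟨0, by simp, by simp⟩
  · rintro x y _ _ ⟨w₁, h₁, h₁'⟩ ⟨w₂, h₂, h₂'⟩
    refine ⟨w₁ + w₂, ?_, ?_⟩
    · have h1 : initL n (x + y) - g (Fin.last n) • (w₁ + w₂) =
          (initL n x - g (Fin.last n) • w₁) + (initL n y - g (Fin.last n) • w₂) := by
        rw [map_add, smul_add]; abel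
      rw [h1]; exact add_mem h₁ h₂
    · rw [Pi.add_apply, h₁', h₂', map_add, neg_add]
  · rintro r x _ ⟨w, h, h'⟩
    refine ⟨r • w, ?_, ?_⟩
    · have h1 : initL n (r • x) - g (Fin.last n) • (r • w) = r • (initL n x - g (Fin.last n) • w) := by
        rw [map_smul, smul_sub, smul_comm]
      rw [h1]; exact Submodule.smul_mem _ _ h
    · rw [Pi.smul_apply, h', map_smul, smul_eq_mul, smul_eq_mul, mul_neg]

theorem isWeaklyRegular_of_ker_le [IsLocalRing R] [IsNoetherianRing R] :
    ∀ (n : ℕ) (g : Fin n → R), (∀ i, g i ∈ IsLocalRing.maximalIdeal R) →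
      LinearMap.ker (ev g) ≤ T g → RingTheory.Sequence.IsWeaklyRegular R (List.ofFn g) := by
  intro n
  induction n with
  | zero =>
    intro g _ _
    rw [List.ofFn_zero]
    exact RingTheory.Sequence.IsWeaklyRegular.nil R R
  | succ n ih =>
    intro g hg hker
    have hinit : ∀ (b : Fin n → R) (x : R), initL n (Fin.snoc b x : Fin (n + 1) → R) = b := by
      intro b x
      funext i
      show (Fin.snoc b x : Fin (n + 1) → R) i.castSucc = b i
      simp
    have hsnoc : ∀ (b : Fin n → R) (x : R), ev g (Fin.snoc b x : Fin (n + 1) → R) =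
        ev (fun i => g i.castSucc) b + x * g (Fin.last n) := by
      intro b x
      rw [ev_succ, hinit, Fin.snoc_last]
    -- Step 1
    have hker' : LinearMap.ker (ev (fun i => g i.castSucc)) ≤ T (fun i => g i.castSucc) := by
      apply Submodule.le_of_le_smul_of_le_jacobson_bot (I := IsLocalRing.maximalIdeal R)
        (IsNoetherian.noetherian _) (IsLocalRing.maximalIdeal_le_jacobson _)
      intro q hq
      rw [LinearMap.mem_ker] at hq
      have ht : (Fin.snoc q 0 : Fin (n + 1) → R) ∈ T g := hker (by
        rw [LinearMap.mem_ker, hsnoc, hq, zero_mul, add_zero])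
      obtain ⟨w, hw1, hw2⟩ := decomp g _ ht
      rw [hinit] at hw1
      rw [Fin.snoc_last] at hw2
      have hw : w ∈ LinearMap.ker (ev (fun i => g i.castSucc)) := by
        rw [LinearMap.mem_ker]
        exact neg_eq_zero.mp hw2.symm
      have h1 : q = (q - g (Fin.last n) • w) + g (Fin.last n) • w := by abel
      rw [h1]
      exact Submodule.add_mem_sup hw1 (Submodule.smul_mem_smul (hg _) hw)
    -- Step 2
    have hreg' := ih (fun i => g i.castSucc) (fun i => hg _) hker'
    rw [List.ofFn_succ', List.concat_eq_append, RingTheory.Sequence.isWeaklyRegular_append_iff]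
    refine ⟨hreg', ?_⟩
    rw [RingTheory.Sequence.isWeaklyRegular_singleton_iff, isSMulRegular_iff_right_eq_zero_of_smul]
    intro z hz
    obtain ⟨x, rfl⟩ := Submodule.Quotient.mk_surjective _ z
    rw [← Submodule.Quotient.mk_smul, Submodule.Quotient.mk_eq_zero] at hz
    rw [Submodule.Quotient.mk_eq_zero]
    have hI : (Ideal.ofList (List.ofFn fun i => g i.castSucc) • (⊤ : Submodule R R)) =
        Ideal.span (Set.range fun i : Fin n => g i.castSucc) := by
      simp only [smul_eq_mul, Ideal.mul_top, Ideal.ofList]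
      congr 1
      ext y
      simp [List.mem_ofFn]
    rw [hI] at hz ⊢
    rw [smul_eq_mul] at hz
    obtain ⟨b, hb⟩ := Ideal.mem_span_range_iff_exists_fun.mp hz
    have hb' : ev (fun i => g i.castSucc) b = g (Fin.last n) * x := (ev_apply _ _).trans hb
    have ht : (Fin.snoc b (-x) : Fin (n + 1) → R) ∈ T g := hker (by
      rw [LinearMap.mem_ker, hsnoc, hb']; ring)
    obtain ⟨w, _, hw2⟩ := decomp g _ ht
    rw [Fin.snoc_last] at hw2
    have hx : x = ev (fun i => g i.castSucc) w := neg_injective hw2
    rw [hx, ev_apply]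
    exact Ideal.sum_mem _ fun i _ => Ideal.mul_mem_left _ _ (Ideal.subset_span ⟨i, rfl⟩)

end Koszul

end Groth.Agent.H28.CotCI
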