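/-
helper28: second part of `CotCI` (presentations of quotients, main result).
-/
import Groth.Agent.H28.CotCI

set_option autoImplicit false
set_option maxHeartbeats 200000

noncomputable section

namespace Groth.Agent.H28.CotCI

open TensorProduct CotT

universe u

/-! ### Part 4: from `CotT` to functions -/

section Convert

variable {A B : Type u} [CommRing A] [CommRing B] [Algebra A B]
variable {ι : Type*} {n : ℕ} (P : Algebra.Presentation A B ι (Fin n))

lemma jmap_eq (q : relMod P) :
    jmap P q = ev (rel P)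
      (Finsupp.linearEquivFunOnFinite P.toExtension.Ring P.toExtension.Ring (Fin n) q) := by
  rw [ev_apply, jmap, Finsupp.linearCombination_apply,
    Finsupp.sum_fintype q (fun i a => a • rel P i) (fun i => zero_smul _ _)]
  rfl

theorem ker_ev_le_T (h : relKer P ≤ trivRel P) : LinearMap.ker (ev (rel P)) ≤ T (rel P) := by
  intro c hc
  let E := Finsupp.linearEquivFunOnFinite P.toExtension.Ring P.toExtension.Ring (Fin n)
  have hq : E.symm c ∈ relKer P := by
    change jmap P (E.symm c) = 0
    rw [jmap_eq]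
    change ev (rel P) (E (E.symm c)) = 0
    rw [LinearEquiv.apply_symm_apply]
    exact hc
  have hq' := h hq
  have hmap : (trivRel P).map (E : relMod P →ₗ[P.toExtension.Ring] (Fin n → P.toExtension.Ring)) ≤
      T (rel P) := by
    rw [trivRel, Submodule.map_span, T]
    apply Submodule.span_mono
    rintro _ ⟨y, ⟨a, b, rfl⟩, rfl⟩
    refine ⟨E a, E b, ?_⟩
    rw [map_sub, map_smul, map_smul, jmap_eq, jmap_eq]
    rfl
  have h1 : c = E (E.symm c) := (E.apply_symm_apply c).symm
  rw [h1]
  exact hmap (Submodule.mem_map_of_mem hq')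


/-- if `L₂ = 0` then all relations are trivial -/
theorem relKer_le_trivRel_of_L2 {σ : Type*} (Q : Algebra.Presentation A B ι σ)
    (hL2 : ∀ x : L2 Q, x = 0) : relKer Q ≤ trivRel Q := by
  intro q hq
  have h1 : (Submodule.Quotient.mk ((1 : B) ⊗ₜ[Q.toExtension.Ring] (⟨q, hq⟩ : relKer Q)) : L2 Q) = 0 :=
    hL2 _
  rw [Submodule.Quotient.mk_eq_zero] at h1
  have hK : ∀ r : Q.toExtension.Ring, algebraMap Q.toExtension.Ring B r = 0 →
      ∀ m : relKer Q, r • m ∈ trivRelKer Q := by
    intro r hr m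
    change ((r • m : relKer Q) : relMod Q) ∈ trivRel Q
    have hr' : r ∈ LinearMap.range (jmap Q) := by
      rw [range_jmap]; exact RingHom.mem_ker.mpr hr
    obtain ⟨a, rfl⟩ := hr'
    have h3 : ((jmap Q a • m : relKer Q) : relMod Q) =
        jmap Q a • (m : relMod Q) - jmap Q (m : relMod Q) • a := by
      have hm : jmap Q (m : relMod Q) = 0 := m.2
      rw [hm, zero_smul, sub_zero]
      rfl
    rw [h3]
    exact Submodule.subset_span ⟨a, m, rfl⟩
  have h2 := @mem_of_one_tmul_mem_range Q.toExtension.Ring B _ _ _ (relKer Q) _ _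
    Q.toExtension.algebraMap_surjective (trivRelKer Q) hK ⟨q, hq⟩
  have h3 := h2 h1
  exact h3

/-- Nakayama: if relations have coefficients in the maximal ideal and `T²(L₂) = 0` then `L₂ = 0` -/
theorem L2_eq_zero [IsLocalRing B] [IsNoetherianRing P.toExtension.Ring]
    (hcoef : ∀ q ∈ relKer P, ∀ i, algebraMap P.toExtension.Ring B (q i) ∈ IsLocalRing.maximalIdeal B)
    (hT2 : Subsingleton (T2 P (L2 P))) : ∀ x : L2 P, x = 0 := by
  classical
  have hd2 : ∀ x : L2 P, d2 P x ∈ (IsLocalRing.maximalIdeal B) • (⊤ : Submodule B (L1 P)) := by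
    intro x
    obtain ⟨y, rfl⟩ := Submodule.Quotient.mk_surjective _ x
    obtain ⟨q, rfl⟩ := Groth.Agent.H61.CotT2.exists_one_tmul P y
    rw [d2_mk_tmul]
    have hq : ((1 : B) ⊗ₜ[P.toExtension.Ring] (q : relMod P) : L1 P) =
        ∑ i, algebraMap P.toExtension.Ring B ((q : relMod P) i) •
          ((1 : B) ⊗ₜ[P.toExtension.Ring] Finsupp.single i (1 : P.toExtension.Ring) : L1 P) := by
      conv_lhs => rw [← Finsupp.univ_sum_single (q : relMod P)]
      rw [TensorProduct.tmul_sum]
      refine Finset.sum_congr rfl fun i _ => ?_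
      rw [algebraMap_smul, ← TensorProduct.tmul_smul, Finsupp.smul_single, smul_eq_mul, mul_one]
    rw [hq]
    exact Submodule.sum_mem _ fun i _ => Submodule.smul_mem_smul (hcoef q q.2 i) trivial
  obtain ⟨φ, hφ⟩ : ∃ φ : L1 P →ₗ[B] L2 P, φ ∘ₗ d2 P = LinearMap.id := by
    have h1 : (Submodule.Quotient.mk (LinearMap.id : L2 P →ₗ[B] L2 P) : T2 P (L2 P)) =
        Submodule.Quotient.mk 0 := hT2.elim _ _
    rw [Submodule.Quotient.eq, sub_zero] at h1
    obtain ⟨φ, hφ⟩ := h1
    exact ⟨φ, hφ⟩
  haveI : IsNoetherian P.toExtension.Ring (relMod P) :=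
    isNoetherian_of_linearEquiv
      (Finsupp.linearEquivFunOnFinite P.toExtension.Ring P.toExtension.Ring (Fin n)).symm
  haveI : Module.Finite B (L2 P) := inferInstance
  have htop : (⊤ : Submodule B (L2 P)) = ⊥ := by
    apply Submodule.eq_bot_of_le_smul_of_le_jacobson_bot (IsLocalRing.maximalIdeal B) ⊤
      Module.Finite.fg_top ?_ (IsLocalRing.maximalIdeal_le_jacobson _)
    intro x _
    have hx : x = φ (d2 P x) := by rw [← LinearMap.comp_apply, hφ, LinearMap.id_apply]
    rw [hx]
    have h2 : φ (d2 P x) ∈ ((IsLocalRing.maximalIdeal B) • (⊤ : Submodule B (L1 P))).map φ :=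
      Submodule.mem_map_of_mem (hd2 x)
    rw [Submodule.map_smul''] at h2
    exact Submodule.smul_mono le_rfl le_top h2
  intro x
  have h1 : x ∈ (⊤ : Submodule B (L2 P)) := trivial
  rw [htop] at h1
  exact (Submodule.mem_bot B).mp h1

/-- the abstract form of the main result, in the ring of the presentation -/
theorem isWeaklyRegular_rel_of_T2 [IsLocalRing B] [IsLocalRing P.toExtension.Ring]
    [IsNoetherianRing P.toExtension.Ring]
    (hgm : ∀ i, rel P i ∈ IsLocalRing.maximalIdeal P.toExtension.Ring)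
    (hcoef : ∀ q ∈ relKer P, ∀ i, algebraMap P.toExtension.Ring B (q i) ∈ IsLocalRing.maximalIdeal B)
    (hT2 : Subsingleton (T2 P (L2 P))) :
    RingTheory.Sequence.IsWeaklyRegular P.toExtension.Ring (List.ofFn (rel P)) :=
  isWeaklyRegular_of_ker_le n (rel P) hgm
    (ker_ev_le_T P (relKer_le_trivRel_of_L2 P (L2_eq_zero P hcoef hT2)))

end Convert

/-! ### Part 5: the presentation of a quotient and the main result -/

section Pres

variable {A B : Type u} [CommRing A] [CommRing B] [Algebra A B]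
variable (hs : Function.Surjective (algebraMap A B)) {n : ℕ} (f : Fin n → A)
variable (hf : Ideal.span (Set.range f) = RingHom.ker (algebraMap A B))

/-- generators of `B` over `A` with no variables -/
abbrev G0 : Algebra.Generators A B PEmpty.{u + 1} := Algebra.Generators.ofSurjectiveAlgebraMap hs

/-- the ring isomorphism `A[∅] ≃ A` -/
def e0 (A : Type u) [CommRing A] : MvPolynomial PEmpty.{u + 1} A ≃+* A :=
  MvPolynomial.isEmptyRingEquiv A PEmpty.{u + 1}

lemma e0_C (a : A) : e0 A (MvPolynomial.C a) = a := by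
  rw [e0, ← MvPolynomial.isEmptyRingEquiv_symm_apply (R := A) (σ := PEmpty.{u + 1})]
  exact (MvPolynomial.isEmptyRingEquiv A PEmpty.{u + 1}).apply_symm_apply a

lemma C_e0 (x : MvPolynomial PEmpty.{u + 1} A) : MvPolynomial.C (e0 A x) = x :=
  (e0 A).injective (e0_C _)

lemma halg (x : (G0 hs).Ring) : algebraMap (G0 hs).Ring B x = algebraMap A B (e0 A x) := by
  rw [Algebra.Generators.algebraMap_apply]
  conv_lhs => rw [← C_e0 x]
  rw [MvPolynomial.aeval_C]

include hf in
lemma hspan : Ideal.span (Set.range fun i => (MvPolynomial.C (f i) : (G0 hs).Ring)) = (G0 hs).ker := by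
  apply le_antisymm
  · rw [Ideal.span_le]
    rintro _ ⟨i, rfl⟩
    change algebraMap (G0 hs).Ring B (MvPolynomial.C (f i)) = 0
    rw [halg, e0_C]
    have h1 : f i ∈ RingHom.ker (algebraMap A B) := by rw [← hf]; exact Ideal.subset_span ⟨i, rfl⟩
    exact h1
  · intro x hx
    have h1 : algebraMap (G0 hs).Ring B x = 0 := hx
    rw [halg] at h1
    have h2 : e0 A x ∈ Ideal.span (Set.range f) := by rw [hf]; exact h1
    have h3 := (Groth.Agent.H61.Koszul.mem_map_iff (e0 A)
      (MvPolynomial.C : A →+* MvPolynomial PEmpty.{u + 1} A) e0_C _ x).mpr h2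
    rw [Ideal.map_span] at h3
    refine Ideal.span_mono ?_ h3
    rintro _ ⟨a, ⟨i, rfl⟩, rfl⟩
    exact ⟨i, rfl⟩

/-- the presentation of `B` over `A` with no variables and relations `f` -/
def P1 : Algebra.Presentation A B PEmpty.{u + 1} (Fin n) :=
  { G0 hs with
    relation := fun i => MvPolynomial.C (f i)
    span_range_relation_eq_ker := hspan hs f hf }

lemma rel_P1 (i : Fin n) : rel (P1 hs f hf) i = (MvPolynomial.C (f i) : MvPolynomial PEmpty.{u + 1} A) := rfl

lemma halg_P1 (x : (P1 hs f hf).toExtension.Ring) :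
    algebraMap (P1 hs f hf).toExtension.Ring B x = algebraMap A B (e0 A x) := halg hs x


theorem isWeaklyRegular_of_T2 [IsLocalRing A] [IsNoetherianRing A] [Nontrivial B]
    (hfm : ∀ i, f i ∈ IsLocalRing.maximalIdeal A)
    (hmin : ∀ c : Fin n → A, ∑ i, c i * f i = 0 → ∀ i, c i ∈ IsLocalRing.maximalIdeal A)
    (hT2 : Subsingleton (T2 (P1 hs f hf) (L2 (P1 hs f hf)))) :
    RingTheory.Sequence.IsWeaklyRegular A (List.ofFn f) := by
  classical
  haveI : IsLocalRing B := IsLocalRing.of_surjective' (algebraMap A B) hs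
  haveI : IsLocalHom (algebraMap A B) := IsLocalHom.of_surjective _ hs
  have hRloc : IsLocalRing (MvPolynomial PEmpty.{u + 1} A) := (e0 A).symm.isLocalRing
  have hRnoeth : IsNoetherianRing (MvPolynomial PEmpty.{u + 1} A) :=
    isNoetherianRing_of_ringEquiv A (e0 A).symm
  haveI : IsLocalRing (P1 hs f hf).toExtension.Ring := hRloc
  haveI : IsNoetherianRing (P1 hs f hf).toExtension.Ring := hRnoeth
  -- coefficients of relations lie in the maximal ideal
  have hcoef : ∀ q ∈ relKer (P1 hs f hf), ∀ i,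
      algebraMap (P1 hs f hf).toExtension.Ring B (q i) ∈ IsLocalRing.maximalIdeal B := by
    intro q hq i
    rw [halg_P1]
    refine _root_.map_nonunit (algebraMap A B) _ (hmin (fun i => e0 A (q i)) ?_ i)
    have h0 : jmap (P1 hs f hf) q = 0 := hq
    rw [jmap_eq, ev_apply] at h0
    let c : Fin n → MvPolynomial PEmpty.{u + 1} A := fun i => q i
    have h0' : (∑ i : Fin n, c i * MvPolynomial.C (f i)) = 0 := h0
    have h1 := congrArg (e0 A) h0'
    rw [map_sum, map_zero] at h1
    rw [← h1]
    refine Finset.sum_congr rfl fun i _ => ?_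
    rw [map_mul, e0_C]
  have hgm : ∀ i, rel (P1 hs f hf) i ∈ IsLocalRing.maximalIdeal (P1 hs f hf).toExtension.Ring := by
    intro i
    rw [IsLocalRing.mem_maximalIdeal, mem_nonunits_iff]
    intro hu
    have hu' : IsUnit (e0 A (MvPolynomial.C (f i))) := hu.map (e0 A)
    rw [e0_C] at hu'
    exact mem_nonunits_iff.mp ((IsLocalRing.mem_maximalIdeal _).mp (hfm i)) hu'
  have hregR := isWeaklyRegular_rel_of_T2 (P1 hs f hf) hgm hcoef hT2
  -- transfer to `A`
  have hlist : List.ofFn (rel (P1 hs f hf)) =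
      (List.ofFn f).map (algebraMap A (MvPolynomial PEmpty.{u + 1} A)) := by
    rw [List.map_ofFn]
    congr 1
  have hregR' : RingTheory.Sequence.IsWeaklyRegular (MvPolynomial PEmpty.{u + 1} A)
      ((List.ofFn f).map (algebraMap A (MvPolynomial PEmpty.{u + 1} A))) := by
    rw [← hlist]; exact hregR
  have h3 : RingTheory.Sequence.IsWeaklyRegular (MvPolynomial PEmpty.{u + 1} A) (List.ofFn f) :=
    (RingTheory.Sequence.isWeaklyRegular_map_algebraMap_iff (MvPolynomial PEmpty.{u + 1} A)
      (MvPolynomial PEmpty.{u + 1} A) (List.ofFn f)).mp hregR'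
  exact ((MvPolynomial.isEmptyAlgEquiv A PEmpty.{u + 1}).toLinearEquiv.isWeaklyRegular_congr
    (List.ofFn f)).mp h3

end Pres

end Groth.Agent.H28.CotCI
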