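import Groth.Prelude.Def_CotT
import Mathlib.Algebra.Module.SnakeLemma
import Mathlib.Algebra.Module.Projective
import Mathlib.Tactic.Abel

/-!
# The nine-term exact sequence of the cotangent functors `T⁰, T¹, T²` in the coefficient module
-/

set_option autoImplicit false
universe u w m
open Function

namespace Groth.Agent.H28.CotTSeq

section Gen

variable {B : Type*} [CommRing B] {M' M M'' : Type*} [AddCommGroup M'] [Module B M']
  [AddCommGroup M] [Module B M] [AddCommGroup M''] [Module B M'']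
  {f : M' →ₗ[B] M} {g : M →ₗ[B] M''}

theorem exists_factor (hf : Injective f) (hfg : Exact f g) {L : Type*} [AddCommGroup L]
    [Module B L] (χ : L →ₗ[B] M) (h : g ∘ₗ χ = 0) : ∃ χ' : L →ₗ[B] M', f ∘ₗ χ' = χ := by
  have hr : ∀ x, χ x ∈ LinearMap.range f := fun x => by
    rw [← hfg.linearMap_ker_eq, LinearMap.mem_ker]
    exact LinearMap.congr_fun h x
  refine ⟨(LinearEquiv.ofInjective f hf).symm.toLinearMap ∘ₗ
    LinearMap.codRestrict (LinearMap.range f) χ hr, ?_⟩
  ext x
  exact congrArg Subtype.val ((LinearEquiv.ofInjective f hf).apply_symm_apply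
    (LinearMap.codRestrict (LinearMap.range f) χ hr x))

theorem comp_inj (hf : Injective f) {L : Type*} [AddCommGroup L] [Module B L]
    {a b : L →ₗ[B] M'} (h : f ∘ₗ a = f ∘ₗ b) : a = b := by
  ext x
  exact hf (LinearMap.congr_fun h x)

/-- Postcomposition. -/
noncomputable def post (L : Type*) [AddCommGroup L] [Module B L] {N N' : Type*} [AddCommGroup N]
    [Module B N] [AddCommGroup N'] [Module B N'] (g : N →ₗ[B] N') :
    (L →ₗ[B] N) →ₗ[B] (L →ₗ[B] N') := LinearMap.llcomp B L N N' g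

theorem exact_post (hf : Injective f) (hfg : Exact f g) (L : Type*) [AddCommGroup L]
    [Module B L] : Exact (post L f) (post L g) := by
  intro φ
  constructor
  · intro h
    obtain ⟨χ', hχ'⟩ := exists_factor hf hfg φ h
    exact ⟨χ', hχ'⟩
  · rintro ⟨φ', rfl⟩
    change g ∘ₗ (f ∘ₗ φ') = 0
    rw [← LinearMap.comp_assoc, hfg.linearMap_comp_eq_zero, LinearMap.zero_comp]

theorem post_injective (hf : Injective f) (L : Type*) [AddCommGroup L] [Module B L] :
    Injective (post L f) := fun _ _ h => comp_inj hf h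

theorem post_surjective (hg : Surjective g) (L : Type*) [AddCommGroup L] [Module B L]
    [Module.Projective B L] : Surjective (post L g) := fun ψ'' => by
  obtain ⟨ψ, hψ⟩ := Module.projective_lifting_property g ψ'' hg
  exact ⟨ψ, hψ⟩

end Gen

section Main

open CotT

variable {A B : Type u} [CommRing A] [CommRing B] [Algebra A B] {ι σ : Type w}
  (P : Algebra.Presentation A B ι σ)
  {M' M M'' : Type m} [AddCommGroup M'] [Module B M'] [AddCommGroup M] [Module B M]
  [AddCommGroup M''] [Module B M'']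
  (f : M' →ₗ[B] M) (g : M →ₗ[B] M'')

theorem projL0 : Module.Projective B (L0 P) := Module.Projective.of_basis P.cotangentSpaceBasis

theorem projL1 : Module.Projective B (L1 P) := Module.Projective.of_basis (L1basis P)

theorem cocycle_comp {N : Type m} [AddCommGroup N] [Module B N] (c : cocycles1 P N) :
    (c : L1 P →ₗ[B] N) ∘ₗ d2 P = 0 := by
  have := c.2
  rw [LinearMap.mem_ker, d2Star_apply] at this
  exact this

theorem t0_comp {N : Type m} [AddCommGroup N] [Module B N] (φ : T0 P N) :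
    (φ : L0 P →ₗ[B] N) ∘ₗ d1 P = 0 := by
  have := φ.2
  rw [LinearMap.mem_ker, d1Star_apply] at this
  exact this

theorem T0map_injective (hf : Injective f) : Injective (T0map P f) := by
  intro a b h
  apply Subtype.ext
  have h' : f ∘ₗ (a : L0 P →ₗ[B] M') = f ∘ₗ (b : L0 P →ₗ[B] M') := congrArg Subtype.val h
  exact comp_inj hf h'

theorem exact_T0 (hf : Injective f) (hfg : Exact f g) : Exact (T0map P f) (T0map P g) := by
  intro φ
  constructor
  · intro h
    have h0 : g ∘ₗ (φ : L0 P →ₗ[B] M) = 0 := congrArg Subtype.val h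
    obtain ⟨χ', hχ'⟩ := exists_factor hf hfg _ h0
    have hmem : χ' ∈ LinearMap.ker (d1Star P M') := by
      rw [LinearMap.mem_ker, d1Star_apply]
      apply comp_inj hf
      rw [← LinearMap.comp_assoc, hχ', LinearMap.comp_zero]
      exact t0_comp P φ
    exact ⟨⟨χ', hmem⟩, Subtype.ext hχ'⟩
  · rintro ⟨φ', rfl⟩
    apply Subtype.ext
    change g ∘ₗ (f ∘ₗ (φ' : L0 P →ₗ[B] M')) = 0
    rw [← LinearMap.comp_assoc, hfg.linearMap_comp_eq_zero, LinearMap.zero_comp]

theorem exact_cocycles (hf : Injective f) (hfg : Exact f g) :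
    Exact (cocycles1Map P f) (cocycles1Map P g) := by
  intro c
  constructor
  · intro h
    have h0 : g ∘ₗ (c : L1 P →ₗ[B] M) = 0 := congrArg Subtype.val h
    obtain ⟨c', hc'⟩ := exists_factor hf hfg _ h0
    have hmem : c' ∈ cocycles1 P M' := by
      rw [LinearMap.mem_ker, d2Star_apply]
      apply comp_inj hf
      rw [← LinearMap.comp_assoc, hc', LinearMap.comp_zero]
      exact cocycle_comp P c
    exact ⟨⟨c', hmem⟩, Subtype.ext hc'⟩
  · rintro ⟨c', rfl⟩
    apply Subtype.ext
    change g ∘ₗ (f ∘ₗ (c' : L1 P →ₗ[B] M')) = 0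
    rw [← LinearMap.comp_assoc, hfg.linearMap_comp_eq_zero, LinearMap.zero_comp]

theorem cocycles1Map_injective (hf : Injective f) : Injective (cocycles1Map P f) := by
  intro a b h
  apply Subtype.ext
  have h' : f ∘ₗ (a : L1 P →ₗ[B] M') = f ∘ₗ (b : L1 P →ₗ[B] M') := congrArg Subtype.val h
  exact comp_inj hf h'

/-- The key step for exactness in degree one: a `1`-cochain whose image is a coboundary differs
from the image of a `1`-cochain by a coboundary. -/
theorem key1 (hf : Injective f) (hg : Surjective g) (hfg : Exact f g) (c : L1 P →ₗ[B] M)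
    (ψ'' : L0 P →ₗ[B] M'') (h : ψ'' ∘ₗ d1 P = g ∘ₗ c) :
    ∃ (c' : L1 P →ₗ[B] M') (ψ : L0 P →ₗ[B] M), f ∘ₗ c' = c - ψ ∘ₗ d1 P := by
  haveI := projL0 P
  obtain ⟨ψ, hψ⟩ := Module.projective_lifting_property g ψ'' hg
  have h0 : g ∘ₗ (c - ψ ∘ₗ d1 P) = 0 := by
    rw [LinearMap.comp_sub, ← LinearMap.comp_assoc, hψ, h, sub_self]
  obtain ⟨c', hc'⟩ := exists_factor hf hfg _ h0
  exact ⟨c', ψ, hc'⟩

theorem exact_T1 (hf : Injective f) (hg : Surjective g) (hfg : Exact f g) :
    Exact (T1map P f) (T1map P g) := by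
  intro y
  constructor
  · intro h
    obtain ⟨c, rfl⟩ := Submodule.Quotient.mk_surjective _ y
    have h' : cocycles1Map P g c ∈ coboundaries1 P M'' :=
      (Submodule.Quotient.mk_eq_zero _).1 h
    obtain ⟨ψ'', hψ''⟩ := LinearMap.mem_range.1 (Submodule.mem_comap.1 h')
    have e1 : ψ'' ∘ₗ d1 P = g ∘ₗ (c : L1 P →ₗ[B] M) := hψ''
    obtain ⟨c', ψ, hc'⟩ := key1 P f g hf hg hfg _ ψ'' e1
    have hmem : c' ∈ cocycles1 P M' := by
      rw [LinearMap.mem_ker, d2Star_apply]
      apply comp_inj hf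
      rw [← LinearMap.comp_assoc, hc', LinearMap.comp_zero, LinearMap.sub_comp,
        LinearMap.comp_assoc, d1_comp_d2, LinearMap.comp_zero, sub_zero]
      exact cocycle_comp P c
    refine ⟨Submodule.Quotient.mk ⟨c', hmem⟩, ?_⟩
    change (Submodule.Quotient.mk (cocycles1Map P f ⟨c', hmem⟩) : T1 P M) =
      Submodule.Quotient.mk c
    rw [Submodule.Quotient.eq]
    refine Submodule.mem_comap.2 (LinearMap.mem_range.2 ⟨-ψ, ?_⟩)
    change (-ψ) ∘ₗ d1 P = f ∘ₗ c' - (c : L1 P →ₗ[B] M)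
    rw [hc', LinearMap.neg_comp]
    abel
  · rintro ⟨y', rfl⟩
    obtain ⟨c', rfl⟩ := Submodule.Quotient.mk_surjective _ y'
    change (Submodule.Quotient.mk (cocycles1Map P g (cocycles1Map P f c')) : T1 P M'') = 0
    have h0 : cocycles1Map P g (cocycles1Map P f c') = 0 := by
      apply Subtype.ext
      change g ∘ₗ (f ∘ₗ (c' : L1 P →ₗ[B] M')) = 0
      rw [← LinearMap.comp_assoc, hfg.linearMap_comp_eq_zero, LinearMap.zero_comp]
    rw [h0]
    exact Submodule.Quotient.mk_zero _

theorem exact_T2 (hf : Injective f) (hg : Surjective g) (hfg : Exact f g) :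
    Exact (T2map P f) (T2map P g) := by
  haveI := projL1 P
  intro y
  constructor
  · intro h
    obtain ⟨e, rfl⟩ := Submodule.Quotient.mk_surjective _ y
    have h' : g ∘ₗ e ∈ LinearMap.range (d2Star P M'') :=
      (Submodule.Quotient.mk_eq_zero _).1 h
    obtain ⟨φ'', hφ''⟩ := LinearMap.mem_range.1 h'
    have e1 : φ'' ∘ₗ d2 P = g ∘ₗ e := hφ''
    obtain ⟨φ, hφ⟩ := Module.projective_lifting_property g φ'' hg
    have h0 : g ∘ₗ (e - φ ∘ₗ d2 P) = 0 := by
      rw [LinearMap.comp_sub, ← LinearMap.comp_assoc, hφ, e1, sub_self]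
    obtain ⟨e', he'⟩ := exists_factor hf hfg _ h0
    refine ⟨Submodule.Quotient.mk e', ?_⟩
    change (Submodule.Quotient.mk (f ∘ₗ e') : T2 P M) = Submodule.Quotient.mk e
    rw [Submodule.Quotient.eq]
    refine LinearMap.mem_range.2 ⟨-φ, ?_⟩
    change (-φ) ∘ₗ d2 P = f ∘ₗ e' - e
    rw [he', LinearMap.neg_comp]
    abel
  · rintro ⟨y', rfl⟩
    obtain ⟨e', rfl⟩ := Submodule.Quotient.mk_surjective _ y'
    change (Submodule.Quotient.mk (g ∘ₗ (f ∘ₗ e')) : T2 P M'') = 0
    rw [← LinearMap.comp_assoc, hfg.linearMap_comp_eq_zero, LinearMap.zero_comp]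
    exact Submodule.Quotient.mk_zero _

/-! ### The first connecting map -/

/-- `d₁^*` with values in the cocycles. -/
noncomputable def i0 (N : Type m) [AddCommGroup N] [Module B N] :
    (L0 P →ₗ[B] N) →ₗ[B] cocycles1 P N :=
  LinearMap.codRestrict (cocycles1 P N) (d1Star P N) (fun φ => by
    rw [LinearMap.mem_ker, ← LinearMap.comp_apply, d2Star_comp_d1Star, LinearMap.zero_apply])

theorem exact_ker_i0 (N : Type m) [AddCommGroup N] [Module B N] :
    Exact (LinearMap.ker (d1Star P N)).subtype (i0 P N) := by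
  intro φ
  constructor
  · intro h
    have h' : d1Star P N φ = 0 := congrArg Subtype.val h
    exact ⟨⟨φ, LinearMap.mem_ker.2 h'⟩, rfl⟩
  · rintro ⟨φ', rfl⟩
    apply Subtype.ext
    exact LinearMap.mem_ker.1 φ'.2

theorem exact_i0_mkQ (N : Type m) [AddCommGroup N] [Module B N] :
    Exact (i0 P N) (coboundaries1 P N).mkQ := by
  intro c
  constructor
  · intro h
    have h' : c ∈ coboundaries1 P N := (Submodule.Quotient.mk_eq_zero _).1 h
    obtain ⟨ψ, hψ⟩ := LinearMap.mem_range.1 (Submodule.mem_comap.1 h')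
    exact ⟨ψ, Subtype.ext hψ⟩
  · rintro ⟨ψ, rfl⟩
    exact (Submodule.Quotient.mk_eq_zero _).2
      (Submodule.mem_comap.2 (LinearMap.mem_range.2 ⟨ψ, rfl⟩))

/-! ### The second connecting map -/

/-- `1`-cochains modulo coboundaries. -/
abbrev Q1 (N : Type m) [AddCommGroup N] [Module B N] : Type _ :=
  (L1 P →ₗ[B] N) ⧸ LinearMap.range (d1Star P N)

noncomputable def postQ {N N' : Type m} [AddCommGroup N] [Module B N] [AddCommGroup N']
    [Module B N'] (g : N →ₗ[B] N') : Q1 P N →ₗ[B] Q1 P N' :=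
  Submodule.mapQ _ _ (post (L1 P) g) (by
    rintro _ ⟨ψ, rfl⟩
    exact Submodule.mem_comap.2 (LinearMap.mem_range.2 ⟨g ∘ₗ ψ, rfl⟩))

noncomputable def i1 (N : Type m) [AddCommGroup N] [Module B N] :
    Q1 P N →ₗ[B] (L2 P →ₗ[B] N) :=
  Submodule.liftQ _ (d2Star P N) (LinearMap.range_le_ker_iff.2 (d2Star_comp_d1Star P N))

/-- The inclusion of `T¹` into the `1`-cochains modulo coboundaries. -/
noncomputable def incl (N : Type m) [AddCommGroup N] [Module B N] : T1 P N →ₗ[B] Q1 P N :=
  Submodule.mapQ (coboundaries1 P N) (LinearMap.range (d1Star P N)) (cocycles1 P N).subtype le_rfl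

theorem incl_injective (N : Type m) [AddCommGroup N] [Module B N] : Injective (incl P N) := by
  rw [injective_iff_map_eq_zero]
  intro z hz
  obtain ⟨c, rfl⟩ := Submodule.Quotient.mk_surjective _ z
  have h' : (c : L1 P →ₗ[B] N) ∈ LinearMap.range (d1Star P N) :=
    (Submodule.Quotient.mk_eq_zero _).1 hz
  exact (Submodule.Quotient.mk_eq_zero _).2 (Submodule.mem_comap.2 h')

theorem exact_incl_i1 (N : Type m) [AddCommGroup N] [Module B N] :
    Exact (incl P N) (i1 P N) := by
  intro y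
  obtain ⟨c, rfl⟩ := Submodule.Quotient.mk_surjective _ y
  constructor
  · intro h
    have h' : d2Star P N c = 0 := h
    exact ⟨Submodule.Quotient.mk ⟨c, LinearMap.mem_ker.2 h'⟩, rfl⟩
  · rintro ⟨z, hz⟩
    obtain ⟨c', rfl⟩ := Submodule.Quotient.mk_surjective _ z
    rw [← hz]
    exact LinearMap.mem_ker.1 c'.2

theorem exact_i1_mkQ (N : Type m) [AddCommGroup N] [Module B N] :
    Exact (i1 P N) (LinearMap.range (d2Star P N)).mkQ := by
  intro e
  constructor
  · intro h
    have h' : e ∈ LinearMap.range (d2Star P N) := (Submodule.Quotient.mk_eq_zero _).1 h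
    obtain ⟨c, hc⟩ := LinearMap.mem_range.1 h'
    exact ⟨Submodule.Quotient.mk c, hc⟩
  · rintro ⟨y, rfl⟩
    obtain ⟨c, rfl⟩ := Submodule.Quotient.mk_surjective _ y
    exact (Submodule.Quotient.mk_eq_zero _).2 (LinearMap.mem_range.2 ⟨c, rfl⟩)

theorem exact_postQ (hf : Injective f) (hg : Surjective g) (hfg : Exact f g) :
    Exact (postQ P f) (postQ P g) := by
  intro y
  constructor
  · intro h
    obtain ⟨c, rfl⟩ := Submodule.Quotient.mk_surjective _ y
    have h' : g ∘ₗ c ∈ LinearMap.range (d1Star P M'') :=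
      (Submodule.Quotient.mk_eq_zero _).1 h
    obtain ⟨ψ'', hψ''⟩ := LinearMap.mem_range.1 h'
    have e1 : ψ'' ∘ₗ d1 P = g ∘ₗ c := hψ''
    obtain ⟨c', ψ, hc'⟩ := key1 P f g hf hg hfg c ψ'' e1
    refine ⟨Submodule.Quotient.mk c', ?_⟩
    change (Submodule.Quotient.mk (f ∘ₗ c') : Q1 P M) = Submodule.Quotient.mk c
    rw [Submodule.Quotient.eq]
    refine LinearMap.mem_range.2 ⟨-ψ, ?_⟩
    change (-ψ) ∘ₗ d1 P = f ∘ₗ c' - c
    rw [hc', LinearMap.neg_comp]
    abel
  · rintro ⟨y', rfl⟩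
    obtain ⟨c', rfl⟩ := Submodule.Quotient.mk_surjective _ y'
    change (Submodule.Quotient.mk (g ∘ₗ (f ∘ₗ c')) : Q1 P M'') = 0
    rw [← LinearMap.comp_assoc, hfg.linearMap_comp_eq_zero, LinearMap.zero_comp]
    exact Submodule.Quotient.mk_zero _

theorem postQ_surjective (hg : Surjective g) : Surjective (postQ P g) := by
  haveI := projL1 P
  intro y
  obtain ⟨c'', rfl⟩ := Submodule.Quotient.mk_surjective _ y
  obtain ⟨c, hc⟩ := Module.projective_lifting_property g c'' hg
  refine ⟨Submodule.Quotient.mk c, ?_⟩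
  change (Submodule.Quotient.mk (g ∘ₗ c) : Q1 P M'') = Submodule.Quotient.mk c''
  rw [hc]

theorem nine_term (hf : Injective f) (hg : Surjective g) (hfg : Exact f g) :
    Injective (T0map P f) ∧ Exact (T0map P f) (T0map P g) ∧
      Exact (T1map P f) (T1map P g) ∧ Exact (T2map P f) (T2map P g) ∧
      ∃ (δ₀ : T0 P M'' →ₗ[B] T1 P M') (δ₁ : T1 P M'' →ₗ[B] T2 P M'),
        Exact (T0map P g) δ₀ ∧ Exact δ₀ (T1map P f) ∧
        Exact (T1map P g) δ₁ ∧ Exact δ₁ (T2map P f) := by
  haveI := projL0 P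
  refine ⟨T0map_injective P f hf, exact_T0 P f g hf hfg, exact_T1 P f g hf hg hfg,
    exact_T2 P f g hf hg hfg, ?_⟩
  -- data of the first snake
  have hA := exact_post hf hfg (L0 P)
  have hB := exact_cocycles P f g hf hfg
  have c1 : (cocycles1Map P f) ∘ₗ (i0 P M') = (i0 P M) ∘ₗ (post (L0 P) f) := rfl
  have c2 : (cocycles1Map P g) ∘ₗ (i0 P M) = (i0 P M'') ∘ₗ (post (L0 P) g) := rfl
  have sA : Surjective (post (L0 P) g) := post_surjective hg (L0 P)
  have iB : Injective (cocycles1Map P f) := cocycles1Map_injective P f hf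
  -- data of the second snake
  have hC := exact_postQ P f g hf hg hfg
  have hD := exact_post hf hfg (L2 P)
  have d1' : (post (L2 P) f) ∘ₗ (i1 P M') = (i1 P M) ∘ₗ (postQ P f) :=
    Submodule.linearMap_qext _ rfl
  have d2' : (post (L2 P) g) ∘ₗ (i1 P M) = (i1 P M'') ∘ₗ (postQ P g) :=
    Submodule.linearMap_qext _ rfl
  have sC : Surjective (postQ P g) := postQ_surjective P g hg
  have iD : Injective (post (L2 P) f) := post_injective hf (L2 P)
  refine ⟨SnakeLemma.δ' (i0 P M') (i0 P M) (i0 P M'') (post (L0 P) f) (post (L0 P) g) hA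
      (cocycles1Map P f) (cocycles1Map P g) hB c1 c2
      (LinearMap.ker (d1Star P M'')).subtype (exact_ker_i0 P M'')
      (coboundaries1 P M').mkQ (exact_i0_mkQ P M') sA iB,
    SnakeLemma.δ' (i1 P M') (i1 P M) (i1 P M'') (postQ P f) (postQ P g) hC
      (post (L2 P) f) (post (L2 P) g) hD d1' d2'
      (incl P M'') (exact_incl_i1 P M'')
      (LinearMap.range (d2Star P M')).mkQ (exact_i1_mkQ P M') sC iD, ?_, ?_, ?_, ?_⟩
  · exact SnakeLemma.exact_δ'_right (i0 P M') (i0 P M) (i0 P M'') (post (L0 P) f)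
      (post (L0 P) g) hA (cocycles1Map P f) (cocycles1Map P g) hB c1 c2
      (LinearMap.ker (d1Star P M)).subtype (exact_ker_i0 P M)
      (LinearMap.ker (d1Star P M'')).subtype (exact_ker_i0 P M'')
      (coboundaries1 P M').mkQ (exact_i0_mkQ P M') sA iB (T0map P g) rfl
      (Submodule.injective_subtype _)
  · exact SnakeLemma.exact_δ'_left (i0 P M') (i0 P M) (i0 P M'') (post (L0 P) f)
      (post (L0 P) g) hA (cocycles1Map P f) (cocycles1Map P g) hB c1 c2
      (LinearMap.ker (d1Star P M'')).subtype (exact_ker_i0 P M'')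
      (coboundaries1 P M').mkQ (exact_i0_mkQ P M')
      (coboundaries1 P M).mkQ (exact_i0_mkQ P M) sA iB (T1map P f) rfl
      (Submodule.mkQ_surjective _)
  · exact SnakeLemma.exact_δ'_right (i1 P M') (i1 P M) (i1 P M'') (postQ P f) (postQ P g) hC
      (post (L2 P) f) (post (L2 P) g) hD d1' d2'
      (incl P M) (exact_incl_i1 P M) (incl P M'') (exact_incl_i1 P M'')
      (LinearMap.range (d2Star P M')).mkQ (exact_i1_mkQ P M') sC iD (T1map P g)
      (Submodule.linearMap_qext _ rfl) (incl_injective P M'')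
  · exact SnakeLemma.exact_δ'_left (i1 P M') (i1 P M) (i1 P M'') (postQ P f) (postQ P g) hC
      (post (L2 P) f) (post (L2 P) g) hD d1' d2'
      (incl P M'') (exact_incl_i1 P M'')
      (LinearMap.range (d2Star P M')).mkQ (exact_i1_mkQ P M')
      (LinearMap.range (d2Star P M)).mkQ (exact_i1_mkQ P M) sC iD (T2map P f) rfl
      (Submodule.mkQ_surjective _)

end Main

end Groth.Agent.H28.CotTSeq
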