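import Groth.Agent.H99.DRank
import Mathlib

/-!
# The Euler–Poincaré principle for bounded complexes of finite-dimensional vector spaces
(helper28 library)
-/

set_option maxHeartbeats 400000
set_option autoImplicit false
universe u
open CategoryTheory CategoryTheory.Limits

namespace Groth.Agent.H28.EulerPoincare

theorem support_finite_of_vanish (f : ℤ → ℤ) (a b : ℤ) (h : ∀ i, i < a ∨ b < i → f i = 0) :
    (Function.support f).Finite := by
  refine (Finset.Icc a b).finite_toSet.subset (fun i hi => ?_)
  rw [Finset.coe_Icc, Set.mem_Icc]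
  by_contra hcon
  rw [not_and_or, not_le, not_le] at hcon
  exact hi (h i hcon)

theorem finsum_telescope (t : ℤ → ℤ) (ht : (Function.support t).Finite) :
    ∑ᶠ i : ℤ, (t i - t (i - 1)) = 0 := by
  have h2 : (Function.support (fun i : ℤ => t (i - 1))).Finite := by
    have : Function.support (fun i : ℤ => t (i - 1)) = (fun i => i + 1) '' Function.support t := by
      ext i
      simp only [Function.mem_support, Set.mem_image]
      constructor
      · intro hi
        exact ⟨i - 1, hi, by ring⟩
      · rintro ⟨j, hj, rfl⟩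
        simpa using hj
    rw [this]
    exact ht.image _
  rw [finsum_sub_distrib ht h2]
  have h3 : ∑ᶠ i : ℤ, t (i - 1) = ∑ᶠ i : ℤ, t i :=
    finsum_comp_equiv (Equiv.subRight (1 : ℤ)) (f := t)
  rw [h3, sub_self]

variable {R : Type u} [Field R]

theorem key (D : CochainComplex (ModuleCat.{u} R) ℤ) (i : ℤ) [Module.Finite R (D.X i)] :
    (Module.finrank R (D.homology i) : ℤ)
      + Module.finrank R (LinearMap.range (D.d (i - 1) i).hom)
      + Module.finrank R (LinearMap.range (D.d i (i + 1)).hom) = Module.finrank R (D.X i) := by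
  have e1 : D.homology i ≅ (D.sc' (i - 1) i (i + 1)).homology :=
    ShortComplex.homologyMapIso (D.isoSc' (i - 1) i (i + 1) (by simp) (by simp))
  have e2 := (e1 ≪≫ (D.sc' (i - 1) i (i + 1)).moduleCatHomologyIso).toLinearEquiv.finrank_eq
  rw [e2]
  have h3 := Groth.Agent.H99.DRank.finrank_homology_formula R ((D.d (i - 1) i).hom)
    ((D.d i (i + 1)).hom) (fun x => (D.sc' (i - 1) i (i + 1)).moduleCat_zero_apply x)
  exact_mod_cast h3

theorem euler_poincare_field (D : CochainComplex (ModuleCat.{u} R) ℤ) (a b : ℤ)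
    (hD : ∀ i, i < a ∨ b < i → IsZero (D.X i)) (hfin : ∀ i, Module.Finite R (D.X i)) :
    ∑ᶠ i : ℤ, ((i.negOnePow : ℤ) * (Module.finrank R (D.homology i) : ℤ)) =
      ∑ᶠ i : ℤ, ((i.negOnePow : ℤ) * (Module.finrank R (D.X i) : ℤ)) := by
  have hsub : ∀ i, i < a ∨ b < i → Subsingleton (D.X i) := fun i hi =>
    ModuleCat.subsingleton_of_isZero (hD i hi)
  let r : ℤ → ℤ := fun i => (Module.finrank R (LinearMap.range (D.d i (i + 1)).hom) : ℤ)
  let t : ℤ → ℤ := fun i => (i.negOnePow : ℤ) * r i
  have hr : ∀ i, i < a ∨ b < i → r i = 0 := by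
    intro i hi
    have := hsub i hi
    have h1 : LinearMap.range (D.d i (i + 1)).hom = ⊥ := by
      rw [LinearMap.range_eq_bot]
      ext x
      rw [Subsingleton.elim x 0, map_zero]
      rfl
    simp only [r]
    rw [h1, finrank_bot]
    rfl
  have hc : ∀ i, i < a ∨ b < i → (Module.finrank R (D.X i) : ℤ) = 0 := by
    intro i hi
    have := hsub i hi
    rw [Module.finrank_zero_of_subsingleton]
    rfl
  have hh : ∀ i, i < a ∨ b < i → (Module.finrank R (D.homology i) : ℤ) = 0 := by
    intro i hi
    have hz : IsZero (D.homology i) := ShortComplex.isZero_homology_of_isZero_X₂ _ (hD i hi)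
    have := ModuleCat.subsingleton_of_isZero hz
    rw [Module.finrank_zero_of_subsingleton]
    rfl
  have hkey : ∀ i, (i.negOnePow : ℤ) * (Module.finrank R (D.X i) : ℤ) -
      (i.negOnePow : ℤ) * (Module.finrank R (D.homology i) : ℤ) = t i - t (i - 1) := by
    intro i
    have := hfin i
    have hk := key D i
    have e : (i - 1 + 1) = i := by ring
    have hr' : r (i - 1) = (Module.finrank R (LinearMap.range (D.d (i - 1) i).hom) : ℤ) := by
      simp only [r]
      rw [e]
    simp only [t]
    rw [hr', Int.negOnePow_sub, Int.negOnePow_one]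
    simp only [r]
    have hu : ((i.negOnePow * (-1 : ℤˣ) : ℤˣ) : ℤ) = - (i.negOnePow : ℤ) := by simp
    rw [hu, ← hk]
    ring
  have hs1 : (Function.support fun i : ℤ => (i.negOnePow : ℤ) *
      (Module.finrank R (D.X i) : ℤ)).Finite :=
    support_finite_of_vanish _ a b (fun i hi => by rw [hc i hi, mul_zero])
  have hs2 : (Function.support fun i : ℤ => (i.negOnePow : ℤ) *
      (Module.finrank R (D.homology i) : ℤ)).Finite :=
    support_finite_of_vanish _ a b (fun i hi => by rw [hh i hi, mul_zero])
  have hs3 : (Function.support t).Finite :=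
    support_finite_of_vanish _ a b (fun i hi => by simp only [t]; rw [hr i hi, mul_zero])
  have h1 := finsum_sub_distrib hs1 hs2
  rw [finsum_congr hkey, finsum_telescope t hs3] at h1
  exact (sub_eq_zero.1 h1.symm).symm

theorem euler_poincare {S : Type u} [Ring S] (hS : IsField S)
    (D : CochainComplex (ModuleCat.{u} S) ℤ) (a b : ℤ)
    (hD : ∀ i, i < a ∨ b < i → IsZero (D.X i)) (hfin : ∀ i, Module.Finite S (D.X i)) :
    ∑ᶠ i : ℤ, ((i.negOnePow : ℤ) * (Module.finrank S (D.homology i) : ℤ)) =
      ∑ᶠ i : ℤ, ((i.negOnePow : ℤ) * (Module.finrank S (D.X i) : ℤ)) := by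
  letI := hS.toField
  exact euler_poincare_field D a b hD hfin

end Groth.Agent.H28.EulerPoincare
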