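import Mathlib
import Groth.Agent.H28.QCohDescent
import Groth.Agent.H8.PullbackSections
import Groth.Agent.H8.PullbackFinType
import Groth.Agent.H8.CohAffine
import Groth.Agent.H8.CohKerCoker

/-!
# fpqc descent of finite type for quasi-coherent modules (helper28)

* `finite_of_forall_finite_tensor`: ring level — a finite family of flat `A`-algebras `B k`, jointly
  surjective on spectra; `N` is a finite `A`-module as soon as all `B k ⊗ N` are finite.
* `isFiniteType_of_pullback`: `f` flat surjective quasi-compact, `P` quasi-coherent with `f^* P` of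
  finite type ⟹ `P` of finite type.
-/

set_option autoImplicit false
set_option maxHeartbeats 400000
set_option linter.style.haveILetI false
universe u
open CategoryTheory CategoryTheory.Limits AlgebraicGeometry TopologicalSpace Opposite
open AlgebraicGeometry.Scheme.Modules TensorProduct

namespace Groth.Agent.H28.FinTypeDescent

/-- Ring-level descent of finiteness along a finite jointly faithfully flat family. -/
theorem finite_of_forall_finite_tensor {A : Type u} [CommRing A] {I : Type*} [Finite I]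
    (B : I → Type u) [∀ k, CommRing (B k)] [∀ k, Algebra A (B k)] [∀ k, Module.Flat A (B k)]
    (hsurj : ∀ p : Ideal A, p.IsPrime →
      ∃ k, ∃ q : Ideal (B k), q.IsPrime ∧ q.comap (algebraMap A (B k)) = p)
    (N : Type u) [AddCommGroup N] [Module A N]
    (h : ∀ k, Module.Finite (B k) (B k ⊗[A] N)) : Module.Finite A N := by
  classical
  have key : ∀ k, ∃ N' : Submodule A N, Module.Finite A N' ∧
      Function.Surjective (N'.subtype.lTensor (B k)) := by
    intro k
    obtain ⟨s, hs⟩ := (h k).fg_top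
    obtain ⟨N', hfin, hsub⟩ :=
      TensorProduct.exists_finite_submodule_right_of_setFinite (s : Set (B k ⊗[A] N))
        s.finite_toSet
    refine ⟨N', hfin, ?_⟩
    have hr : LinearMap.range (N'.subtype.baseChange (B k)) = ⊤ := by
      rw [eq_top_iff, ← hs, Submodule.span_le]
      intro x hx
      obtain ⟨y, hy⟩ := hsub hx
      exact ⟨y, hy⟩
    intro x
    obtain ⟨y, hy⟩ := (LinearMap.range_eq_top.1 hr) x
    exact ⟨y, hy⟩
  choose N' hfin hsur using key
  let N₀ : Submodule A N := ⨆ k, N' k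
  have hN₀ : N₀.FG := Submodule.fg_iSup _ (fun k => Module.Finite.iff_fg.1 (hfin k))
  suffices hN : N₀ = ⊤ by
    rw [Module.finite_def, ← hN]
    exact hN₀
  by_contra hne
  obtain ⟨n, hn⟩ : ∃ n : N, n ∉ N₀ := by
    by_contra hcon
    push Not at hcon
    exact hne (eq_top_iff.2 (fun x _ => hcon x))
  let J : Ideal A := N₀.colon ({n} : Set N)
  have hJmem : ∀ a : A, a ∈ J ↔ a • n ∈ N₀ := fun a => Submodule.mem_colon_singleton
  have hJ : J ≠ ⊤ := by
    intro hJ
    apply hn
    have h1 : (1 : A) ∈ J := hJ ▸ Submodule.mem_top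
    simpa using (hJmem 1).1 h1
  obtain ⟨m, hm, hJm⟩ := Ideal.exists_le_maximal J hJ
  obtain ⟨k, q, hq, hqm⟩ := hsurj m hm.isPrime
  -- `B k ⊗ (N ⧸ N₀)` is trivial
  have hzero : ∀ z : B k ⊗[A] (N ⧸ N₀), z = 0 := by
    intro z
    obtain ⟨x, rfl⟩ := LinearMap.lTensor_surjective (B k) (Submodule.mkQ_surjective N₀) z
    obtain ⟨y, rfl⟩ := hsur k x
    rw [← LinearMap.comp_apply, ← LinearMap.lTensor_comp]
    have : N₀.mkQ ∘ₗ (N' k).subtype = 0 := by
      ext y
      simp only [LinearMap.comp_apply, Submodule.subtype_apply, Submodule.mkQ_apply,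
        LinearMap.zero_apply, Submodule.Quotient.mk_eq_zero]
      exact (le_iSup N' k) y.2
    rw [this, LinearMap.lTensor_zero, LinearMap.zero_apply]
  -- injective map `A ⧸ J → N ⧸ N₀`
  let g₀ : A →ₗ[A] N ⧸ N₀ := LinearMap.toSpanSingleton A (N ⧸ N₀) (N₀.mkQ n)
  have hg₀ : J ≤ LinearMap.ker g₀ := by
    intro a ha
    rw [LinearMap.mem_ker]
    show a • N₀.mkQ n = 0
    rw [← _root_.map_smul, Submodule.mkQ_apply, Submodule.Quotient.mk_eq_zero]
    exact (hJmem a).1 ha
  let g : (A ⧸ J) →ₗ[A] N ⧸ N₀ := Submodule.liftQ J g₀ hg₀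
  have hg : Function.Injective g := by
    rw [← LinearMap.ker_eq_bot, Submodule.ker_liftQ, eq_bot_iff]
    rintro _ ⟨a, ha, rfl⟩
    rw [Submodule.mem_bot, Submodule.mkQ_apply, Submodule.Quotient.mk_eq_zero]
    have : a • N₀.mkQ n = 0 := LinearMap.mem_ker.1 ha
    rw [← _root_.map_smul, Submodule.mkQ_apply, Submodule.Quotient.mk_eq_zero] at this
    exact (hJmem a).2 this
  have hinj : Function.Injective (g.lTensor (B k)) :=
    Module.Flat.lTensor_preserves_injective_linearMap g hg
  have hsub : Subsingleton (B k ⊗[A] (A ⧸ J)) :=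
    ⟨fun x y => hinj ((hzero _).trans (hzero _).symm)⟩
  have hsub2 : Subsingleton (B k ⧸ (J • (⊤ : Submodule A (B k)))) :=
    (TensorProduct.tensorQuotEquivQuotSMul (B k) J).symm.toEquiv.subsingleton
  have htop : J • (⊤ : Submodule A (B k)) = ⊤ := Submodule.Quotient.subsingleton_iff.1 hsub2
  have hle : J • (⊤ : Submodule A (B k)) ≤ q.restrictScalars A := by
    rw [Submodule.smul_le]
    intro a ha b _
    show a • b ∈ q
    rw [Algebra.smul_def]
    refine q.mul_mem_right _ ?_
    have : a ∈ m := hJm ha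
    rw [← hqm] at this
    exact this
  have h1 : (1 : B k) ∈ q := hle (by rw [htop]; exact Submodule.mem_top)
  exact hq.ne_top ((Ideal.eq_top_iff_one q).2 h1)


open Groth.Agent.H8 in
/-- Descent of finite type for quasi-coherent modules along a flat surjective quasi-compact
morphism. -/
theorem isFiniteType_of_pullback {X' X : Scheme.{u}} (f : X' ⟶ X) [Flat f] [Surjective f]
    [QuasiCompact f] (P : X.Modules) [P.IsQuasicoherent]
    (h : SheafOfModules.IsFiniteType (R := X'.ringCatSheaf) ((Scheme.Modules.pullback f).obj P)) :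
    SheafOfModules.IsFiniteType (R := X.ringCatSheaf) P := by
  haveI := h
  haveI : ((Scheme.Modules.pullback f).obj P).IsQuasicoherent :=
    Groth.Agent.H8.isQuasicoherent_pullback f P
  apply Groth.Agent.H8.isFiniteType_of_forall_affine_finite
  intro U
  have hW : IsCompact (X := X') (f ⁻¹ᵁ U.1) := f.isCompact_preimage U.2.isCompact
  obtain ⟨I, hI, e⟩ := isCompact_iff_finite_and_eq_biUnion_affineOpens.mp hW
  haveI := hI.to_subtype
  have hle : ∀ k : I, (k.1 : X'.Opens) ≤ f ⁻¹ᵁ U.1 := fun k => by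
    rw [e]
    exact le_iSup₂ (f := fun (i : X'.affineOpens) (_ : i ∈ I) => (i : X'.Opens)) k.1 k.2
  letI : ∀ k : I, Algebra Γ(X, U.1) Γ(X', k.1.1) := fun k =>
    (f.appLE U.1 k.1.1 (hle k)).hom.toAlgebra
  haveI : ∀ k : I, Module.Flat Γ(X, U.1) Γ(X', k.1.1) := fun k =>
    f.flat_appLE U.2 k.1.2 (hle k)
  refine finite_of_forall_finite_tensor (fun k : I => Γ(X', k.1.1)) ?_ Γ(P, U.1) ?_
  · intro p hp
    let pt : ↥(Spec Γ(X, U.1)) := ⟨p, hp⟩
    obtain ⟨x', hx'⟩ := f.surjective (U.2.fromSpec pt)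
    have hx'W : x' ∈ f ⁻¹ᵁ U.1 := by
      show f x' ∈ (U.1 : Set X)
      rw [hx', ← U.2.range_fromSpec]; exact ⟨pt, rfl⟩
    rw [e] at hx'W
    simp only [Opens.mem_iSup] at hx'W
    obtain ⟨i, hi, hx'i⟩ := hx'W
    obtain ⟨q, hq⟩ : ∃ q : ↥(Spec Γ(X', i.1)), i.2.fromSpec q = x' := by
      have : x' ∈ Set.range i.2.fromSpec := by rw [i.2.range_fromSpec]; exact hx'i
      exact this
    refine ⟨⟨i, hi⟩, q.asIdeal, q.2, ?_⟩
    have h1 := IsAffineOpen.SpecMap_appLE_fromSpec f U.2 i.2 (hle ⟨i, hi⟩)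
    have h2 : U.2.fromSpec (Spec.map (f.appLE U.1 i.1 (hle ⟨i, hi⟩)) q) = U.2.fromSpec pt := by
      rw [← Scheme.Hom.comp_apply, h1, Scheme.Hom.comp_apply, hq, hx']
    have h3 := U.2.fromSpec.isOpenEmbedding.injective h2
    exact congrArg PrimeSpectrum.asIdeal h3
  · intro k
    haveI : Module.Finite Γ(X', k.1.1) Γ((Scheme.Modules.pullback f).obj P, k.1.1) :=
      Groth.Agent.H8.finite_sections_of_isAffineOpen _ k.1.2
    exact Module.Finite.equiv (Groth.Agent.H8.sectionsPullbackEquiv f P U.2 k.1.2 (hle k))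

end Groth.Agent.H28.FinTypeDescent
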