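import Mathlib
import Groth.Agent.H6.AcycUnit
import Groth.Agent.S0028
import Groth.Agent.S11319
import Groth.Prelude.Def_DDual2

/-!
# `R(Spec φ)_*` on `D(S) → D_QCoh(Spec S)` is restriction of scalars (helper28)

* `tildePushIso φ : tilde ⋙ (Spec φ)_* ≅ restrictScalars φ ⋙ tilde` on modules.
* `fAcyc_pushforward_of_isAffineHom` : quasi-coherent modules are acyclic for `g_*`, `g` affine.
* `nonempty_Rpush_tildeD_iso` : `R(Spec φ)_* (tildeD M) ≅ tildeD (restrictD φ M)` for `M ∈ D(S)`.
* `nonempty_inD_pushforward_iso_Rpush` : `(g_* N)[0] ≅ Rg_* (N[0])` for `g` affine, `N` qcoh.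
-/

set_option autoImplicit false
set_option maxHeartbeats 400000
set_option linter.style.haveILetI false
universe u
open CategoryTheory CategoryTheory.Limits AlgebraicGeometry TopologicalSpace Opposite
attribute [local instance] HasDerivedCategory.standard

namespace Groth.Agent.H28.TildePush

section Mod

variable {R S : CommRingCat.{u}} (φ : R ⟶ S)

/-- Global sections of a pushforward along `Spec φ` : restriction of scalars. -/
noncomputable def pushΓIso :
    Scheme.Modules.pushforward (Spec.map φ) ⋙ moduleSpecΓFunctor (R := R) ≅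
      moduleSpecΓFunctor (R := S) ⋙ ModuleCat.restrictScalars φ.hom :=
  (Functor.associator _ _ _).symm ≪≫
    Functor.isoWhiskerRight (pushforwardCompModulesSpecToSheafIso φ)
      (TopCat.Sheaf.forget _ _ ⋙ (evaluation _ _).obj (op ⊤)) ≪≫
    NatIso.ofComponents (fun M => Iso.refl _) (fun f => by
      dsimp only [Iso.refl_hom]
      exact (Category.comp_id _).trans (Category.id_comp _).symm)

/-- `Γ ∘ g_* ∘ tilde ≅ restriction of scalars`. -/
noncomputable def tildePushΓIso :
    (tilde.functor S ⋙ Scheme.Modules.pushforward (Spec.map φ)) ⋙ moduleSpecΓFunctor (R := R) ≅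
      ModuleCat.restrictScalars φ.hom :=
  Functor.associator _ _ _ ≪≫ Functor.isoWhiskerLeft _ (pushΓIso φ) ≪≫
    (Functor.associator _ _ _).symm ≪≫
    Functor.isoWhiskerRight (tilde.toTildeΓNatIso (R := S)).symm _ ≪≫ Functor.leftUnitor _

instance isIso_fromTildeΓ_tildePush (M : ModuleCat.{u} S) :
    IsIso (((tilde.functor S ⋙ Scheme.Modules.pushforward (Spec.map φ)).obj M).fromTildeΓ) :=
  isIso_fromTildeΓ_pushforward φ (tilde M)

/-- `(Spec φ)_* (M~) ≅ (M_R)~`, naturally in the `S`-module `M`. -/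
noncomputable def tildePushIso :
    tilde.functor S ⋙ Scheme.Modules.pushforward (Spec.map φ) ≅
      ModuleCat.restrictScalars φ.hom ⋙ tilde.functor R :=
  haveI : IsIso (Functor.whiskerLeft (tilde.functor S ⋙ Scheme.Modules.pushforward (Spec.map φ))
      (Scheme.Modules.fromTildeΓNatTrans (R := R))) := by
    apply (config := { allowSynthFailures := true }) NatIso.isIso_of_isIso_app
    intro M
    exact isIso_fromTildeΓ_tildePush φ M
  (Functor.rightUnitor _).symm ≪≫
    (asIso (Functor.whiskerLeft (tilde.functor S ⋙ Scheme.Modules.pushforward (Spec.map φ))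
      (Scheme.Modules.fromTildeΓNatTrans (R := R)))).symm ≪≫
    (Functor.associator _ _ _).symm ≪≫
    Functor.isoWhiskerRight (tildePushΓIso φ) (tilde.functor R)

end Mod

section Acyc

open Groth.Agent.H33

/-- Quasi-coherent modules are acyclic for the direct image along an affine morphism. -/
theorem fAcyc_pushforward_of_isAffineHom {X Y : Scheme.{u}} (g : X ⟶ Y) [IsAffineHom g]
    (N : X.Modules) [N.IsQuasicoherent] :
    UnbDer.FAcyc (Scheme.Modules.pushforward g) N := by
  intro i hi
  haveI : Coh.IsQCoh N := ‹N.IsQuasicoherent›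
  obtain ⟨e⟩ := Groth.Agent.S11319.result g N i
  exact Groth.Agent.H30.RpushQcoh.isZero_of_isZero_toAb _
    ((Groth.Agent.S0028.result g N i hi).of_iso e)

end Acyc

section Derived

open Groth.Agent.H33 Groth.Agent.H31.RpushRestrict

variable {R S : CommRingCat.{u}} (φ : R ⟶ S)
  [PreservesFiniteLimits (tilde.functor R)] [PreservesFiniteLimits (tilde.functor S)]
  [DCoh.HasRpush (Spec.map φ)]

/-- `R(Spec φ)_* (M~) ≅ (M_R)~` for `M ∈ D(S)`. -/
theorem nonempty_Rpush_tildeD_iso (M : DerivedCategory (ModuleCat.{u} S)) :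
    Nonempty ((DCoh.Rpush (Spec.map φ)).obj ((DCoh.tildeD S).obj M) ≅
      (DCoh.tildeD R).obj ((DRing.restrictD φ.hom).obj M)) := by
  let K := DerivedCategory.Q.objPreimage M
  have eK : DerivedCategory.Q.obj K ≅ M := DerivedCategory.Q.objObjPreimageIso M
  let TK := ((tilde.functor S).mapHomologicalComplex (ComplexShape.up ℤ)).obj K
  have hq : ∀ n : ℤ, Coh.IsQCoh (TK.X n) := fun n =>
    (inferInstance : ((tilde.functor S).obj (K.X n)).IsQuasicoherent)
  have hac : ∀ n : ℤ, UnbDer.FAcyc (Scheme.Modules.pushforward (Spec.map φ)) (TK.X n) := fun n =>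
    haveI : (TK.X n).IsQuasicoherent := hq n
    fAcyc_pushforward_of_isAffineHom _ _
  haveI := Groth.Agent.H6.AcycUnit.isIso_uC_of_qcqs (Spec.map φ) TK hq hac
  have e1 : (DCoh.tildeD S).obj M ≅ DerivedCategory.Q.obj TK :=
    (DCoh.tildeD S).mapIso eK.symm ≪≫ ((tilde.functor S).mapDerivedCategoryFactors.app K)
  have e2 : (DCoh.Rpush (Spec.map φ)).obj (DerivedCategory.Q.obj TK) ≅
      DerivedCategory.Q.obj (((Scheme.Modules.pushforward (Spec.map φ)).mapHomologicalComplex
        (ComplexShape.up ℤ)).obj TK) := (asIso ((uC (Spec.map φ)).app TK)).symm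
  have e3 : ((Scheme.Modules.pushforward (Spec.map φ)).mapHomologicalComplex
        (ComplexShape.up ℤ)).obj TK ≅
      ((tilde.functor R).mapHomologicalComplex (ComplexShape.up ℤ)).obj
        (((ModuleCat.restrictScalars φ.hom).mapHomologicalComplex (ComplexShape.up ℤ)).obj K) :=
    (NatIso.mapHomologicalComplex (tildePushIso φ) (ComplexShape.up ℤ)).app K
  have e4 : DerivedCategory.Q.obj (((tilde.functor R).mapHomologicalComplex
        (ComplexShape.up ℤ)).obj
        (((ModuleCat.restrictScalars φ.hom).mapHomologicalComplex (ComplexShape.up ℤ)).obj K)) ≅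
      (DCoh.tildeD R).obj ((DRing.restrictD φ.hom).obj M) :=
    ((tilde.functor R).mapDerivedCategoryFactors.app _).symm ≪≫
      (DCoh.tildeD R).mapIso
        (((ModuleCat.restrictScalars φ.hom).mapDerivedCategoryFactors.app K).symm ≪≫
          (DRing.restrictD φ.hom).mapIso eK)
  exact ⟨(DCoh.Rpush (Spec.map φ)).mapIso e1 ≪≫ e2 ≪≫ DerivedCategory.Q.mapIso e3 ≪≫ e4⟩

end Derived

section Single

open Groth.Agent.H33 Groth.Agent.H31.RpushRestrict

/-- `(g_* N)[0] ≅ Rg_* (N[0])` for `g` affine and `N` quasi-coherent. -/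
theorem nonempty_inD_pushforward_iso_Rpush {X Y : Scheme.{u}} (g : X ⟶ Y) [IsAffineHom g]
    [DCoh.HasRpush g] (N : X.Modules) [N.IsQuasicoherent] :
    Nonempty (DCoh.inD Y ((Scheme.Modules.pushforward g).obj N) ≅
      (DCoh.Rpush g).obj (DCoh.inD X N)) := by
  let F : CochainComplex X.Modules ℤ :=
    (HomologicalComplex.single X.Modules (ComplexShape.up ℤ) 0).obj N
  have hq : ∀ n : ℤ, Coh.IsQCoh (F.X n) := fun n => by
    by_cases hn : n = 0
    · subst hn
      exact Groth.Agent.H22.QCohLimits.isQuasicoherent_of_iso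
        (HomologicalComplex.singleObjXSelf (ComplexShape.up ℤ) 0 N).symm
    · exact Groth.Agent.H30.QcohFive.isQuasicoherent_of_isZero
        (HomologicalComplex.isZero_single_obj_X (ComplexShape.up ℤ) 0 N n hn) N
  have hac : ∀ n : ℤ, UnbDer.FAcyc (Scheme.Modules.pushforward g) (F.X n) := fun n =>
    haveI : (F.X n).IsQuasicoherent := hq n
    fAcyc_pushforward_of_isAffineHom _ _
  haveI := Groth.Agent.H6.AcycUnit.isIso_uC_of_qcqs g F hq hac
  have e1 : ∀ (Z : Scheme.{u}) (P : Z.Modules), DCoh.inD Z P ≅ DerivedCategory.Q.obj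
      ((HomologicalComplex.single Z.Modules (ComplexShape.up ℤ) 0).obj P) := fun Z P =>
    (DerivedCategory.singleFunctorIsoCompQ Z.Modules 0).app P
  have e2 : ((Scheme.Modules.pushforward g).mapHomologicalComplex (ComplexShape.up ℤ)).obj F ≅
      (HomologicalComplex.single Y.Modules (ComplexShape.up ℤ) 0).obj
        ((Scheme.Modules.pushforward g).obj N) :=
    (HomologicalComplex.singleMapHomologicalComplex (Scheme.Modules.pushforward g)
      (ComplexShape.up ℤ) 0).app N
  exact ⟨e1 Y _ ≪≫ DerivedCategory.Q.mapIso e2.symm ≪≫ asIso ((uC g).app F) ≪≫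
    (DCoh.Rpush g).mapIso (e1 X N).symm⟩

end Single

end Groth.Agent.H28.TildePush
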