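import Groth.Agent.H28.RpushBC
import Groth.Agent.H28.TildePush
import Groth.Agent.H28.PCDescentSch
import Groth.Agent.H56.RestrictPC
import Groth.Agent.S2066

/-!
# Pseudo-coherence and `Rf_*` for `f` finite with `f_* O_X` pseudo-coherent (helper28)

Charts `Spec Γ(X, f⁻¹V) ⟶ Spec Γ(Y, V)` of an affine morphism, and the scheme-level translation
of `Groth.Agent.H56.isPseudoCoherent_restrictD` / `isPseudoCoherent_of_restrictD`.
-/

set_option backward.isDefEq.respectTransparency false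
set_option autoImplicit false
set_option maxHeartbeats 400000
set_option linter.style.haveILetI false
universe u
open CategoryTheory CategoryTheory.Limits AlgebraicGeometry TopologicalSpace Opposite
attribute [local instance] HasDerivedCategory.standard

namespace Groth.Agent.H28.FinitePC

open Groth.Agent.H31 Groth.Agent.H31.Stalk Groth.Agent.H28.LpullLoc
open Groth.Agent.H90.SPerf Groth.Agent.H90.TPC Groth.Agent.H6.LpullQCoh
open Groth.Agent.H28.PCDescentSch Groth.Agent.H28.RpushBC Groth.Agent.H28.TildePush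

section Chart

variable {X Y : Scheme.{u}} (f : X ⟶ Y) [IsAffineHom f] {V : Y.Opens} (hV : IsAffineOpen V)

lemma comm : Spec.map (f.app V) ≫ hV.fromSpec = (hV.preimage f).fromSpec ≫ f := by
  rw [Scheme.Hom.app_eq_appLE]
  exact IsAffineOpen.SpecMap_appLE_fromSpec f hV (hV.preimage f) le_rfl

lemma range_eq : f ⁻¹ᵁ hV.fromSpec.opensRange = (hV.preimage f).fromSpec.opensRange := by
  rw [hV.opensRange_fromSpec, (hV.preimage f).opensRange_fromSpec]

/-- `(Rf_* E)|_{Spec Γ(Y,V)} ≅ R(Spec f^♯)_* (E|_{Spec Γ(X,f⁻¹V)})`. -/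
theorem nonempty_restrict_Rpush_iso [DCoh.HasRpush f] [DCoh.HasRpush (Spec.map (f.app V))]
    (E : DCoh.D X) :
    Nonempty ((DCoh.restrictD hV.fromSpec).obj ((DCoh.Rpush f).obj E) ≅
      (DCoh.Rpush (Spec.map (f.app V))).obj ((DCoh.restrictD (hV.preimage f).fromSpec).obj E)) :=
  ⟨(restrictRpushIsoGen f (Spec.map (f.app V)) (hV.preimage f).fromSpec hV.fromSpec
    (pushRestrictIsoGen f (Spec.map (f.app V)) (hV.preimage f).fromSpec hV.fromSpec
      (comm f hV) (range_eq f hV))).app E⟩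

end Chart

section Affine

variable {R S : CommRingCat.{u}} (φ : R ⟶ S) [Algebra R S] (hφ : algebraMap R S = φ.hom)
  [DCoh.HasRpush (Spec.map φ)]

include hφ in
/-- Affine case: for `Spec S ⟶ Spec R` with `S` a pseudo-coherent `R`-module, `F ∈ D_QCoh(Spec S)`
is `m`-pseudo-coherent iff its derived direct image is. -/
theorem affine_iff (hB : DRing.IsPseudoCoherentModule' R S)
    (F : DCoh.D (Spec S)) (hF : DCoh.IsQCohD F) (m : ℤ) :
    DCoh.IsPseudoCoherentD m F ↔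
      DCoh.IsPseudoCoherentD m ((DCoh.Rpush (Spec.map φ)).obj F) := by
  have instR : PreservesFiniteLimits (tilde.functor R) := (Groth.Agent.S9498.key R).1
  have instS : PreservesFiniteLimits (tilde.functor S) := (Groth.Agent.S9498.key S).1
  obtain ⟨M, ⟨eM⟩⟩ := ((Groth.Agent.S0997.result S).2.2 F).1 hF
  obtain ⟨e⟩ := nonempty_Rpush_tildeD_iso φ M
  rw [← hφ] at e
  constructor
  · intro h
    have h1 : DCoh.IsPseudoCoherentD m ((DCoh.tildeD S).obj M) := isPC_of_iso eM.symm h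
    have h2 := (isPC_tildeD_iff S M m).1 h1
    have h3 := Groth.Agent.H56.isPseudoCoherent_restrictD hB M m h2
    have h4 := (isPC_tildeD_iff R _ m).2 h3
    exact isPC_of_iso (e.symm ≪≫ (DCoh.Rpush (Spec.map φ)).mapIso eM) h4
  · intro h
    have h4 : DCoh.IsPseudoCoherentD m ((DCoh.tildeD R).obj
        ((DRing.restrictD (algebraMap R S)).obj M)) :=
      isPC_of_iso ((DCoh.Rpush (Spec.map φ)).mapIso eM.symm ≪≫ e) h
    have h3 := (isPC_tildeD_iff R _ m).1 h4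
    have h2 := Groth.Agent.H56.isPseudoCoherent_of_restrictD hB M m h3
    exact isPC_of_iso eM ((isPC_tildeD_iff S M m).2 h2)

end Affine

section HB

variable {X Y : Scheme.{u}} (f : X ⟶ Y) [IsAffineHom f] {V : Y.Opens} (hV : IsAffineOpen V)

include hV in
/-- If `f_* O_X` is pseudo-coherent then `Γ(X, f⁻¹V)` is a pseudo-coherent `Γ(Y, V)`-module. -/
theorem isPseudoCoherentModule'_of_hO [Algebra Γ(Y, V) Γ(X, f ⁻¹ᵁ V)]
    (hφ : algebraMap Γ(Y, V) Γ(X, f ⁻¹ᵁ V) = (f.app V).hom)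
    (hO : ∀ m : ℤ, DCoh.IsPseudoCoherentD m
      (DCoh.inD Y ((Scheme.Modules.pushforward f).obj (Coh.structureModule X)))) :
    DRing.IsPseudoCoherentModule' Γ(Y, V) Γ(X, f ⁻¹ᵁ V) := by
  have instR : PreservesFiniteLimits (tilde.functor Γ(Y, V)) :=
    (Groth.Agent.S9498.key Γ(Y, V)).1
  haveI : DCoh.HasLpull hV.fromSpec := hasLpull _
  let eS : ModuleCat.of Γ(Y, V) Γ(X, f ⁻¹ᵁ V) ≅
      (ModuleCat.restrictScalars (f.app V).hom).obj (ModuleCat.of Γ(X, f ⁻¹ᵁ V) Γ(X, f ⁻¹ᵁ V)) :=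
    @LinearEquiv.toModuleIso Γ(Y, V) _ Γ(X, f ⁻¹ᵁ V) Γ(X, f ⁻¹ᵁ V) _ _ Algebra.toModule
      (Module.compHom Γ(X, f ⁻¹ᵁ V) (f.app V).hom)
      (@LinearEquiv.mk Γ(Y, V) Γ(Y, V) _ _ (RingHom.id _) (RingHom.id _) _ _
        Γ(X, f ⁻¹ᵁ V) Γ(X, f ⁻¹ᵁ V) _ _ Algebra.toModule
        (Module.compHom Γ(X, f ⁻¹ᵁ V) (f.app V).hom)
        (@LinearMap.mk Γ(Y, V) Γ(Y, V) _ _ (RingHom.id _) Γ(X, f ⁻¹ᵁ V) Γ(X, f ⁻¹ᵁ V) _ _
          Algebra.toModule (Module.compHom Γ(X, f ⁻¹ᵁ V) (f.app V).hom)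
          ⟨fun b => b, fun _ _ => rfl⟩ (fun a b => by
            show a • b = (f.app V).hom a * b
            rw [Algebra.smul_def, hφ]))
        (fun b => b) (fun _ => rfl) (fun _ => rfl))
  let i1 : (Scheme.Modules.restrictFunctor hV.fromSpec).obj
        ((Scheme.Modules.pushforward f).obj (Coh.structureModule X)) ≅
      (tilde.functor Γ(Y, V)).obj (ModuleCat.of Γ(Y, V) Γ(X, f ⁻¹ᵁ V)) :=
    (pushRestrictIsoGen f (Spec.map (f.app V)) (hV.preimage f).fromSpec hV.fromSpec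
      (comm f hV) (range_eq f hV)).app (Coh.structureModule X) ≪≫
    (Scheme.Modules.pushforward (Spec.map (f.app V))).mapIso
      (Scheme.Modules.restrictUnitIso (hV.preimage f).fromSpec) ≪≫
    (tildePushIso (f.app V)).app (ModuleCat.of Γ(X, f ⁻¹ᵁ V) Γ(X, f ⁻¹ᵁ V)) ≪≫
    (tilde.functor Γ(Y, V)).mapIso eS.symm
  let i2 : (DCoh.restrictD hV.fromSpec).obj
        (DCoh.inD Y ((Scheme.Modules.pushforward f).obj (Coh.structureModule X))) ≅
      (DCoh.tildeD Γ(Y, V)).obj (Dual.inD Γ(Y, V) Γ(X, f ⁻¹ᵁ V)) :=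
    ((Scheme.Modules.restrictFunctor hV.fromSpec).mapDerivedCategorySingleFunctor 0).app _ ≪≫
      (DerivedCategory.singleFunctor _ 0).mapIso i1 ≪≫
      (((tilde.functor Γ(Y, V)).mapDerivedCategorySingleFunctor 0).app
        (ModuleCat.of Γ(Y, V) Γ(X, f ⁻¹ᵁ V))).symm
  refine ((Groth.Agent.S2066.result (Dual.inD Γ(Y, V) Γ(X, f ⁻¹ᵁ V))).1).1 (fun m => ?_)
  have h1 : DCoh.IsPseudoCoherentD m ((DCoh.restrictD hV.fromSpec).obj
      (DCoh.inD Y ((Scheme.Modules.pushforward f).obj (Coh.structureModule X)))) :=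
    isPC_of_iso (nonempty_Lpull_iso_restrictD hV.fromSpec _).some
      (isPseudoCoherentD_Lpull hV.fromSpec m _ (hO m))
  exact (isPC_tildeD_iff Γ(Y, V) _ m).1 (isPC_of_iso i2 h1)

end HB

end Groth.Agent.H28.FinitePC
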