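import Groth.Agent.H28.PerfLocal

/-!
# Global sections on a one-point scheme (helper28 library)

* `Γf Z : Z.Modules ⥤ ModuleCat (Coh.Γtop Z)` : global sections.
* On a scheme with at most one point, `Γf Z` preserves epimorphisms, hence homology.
-/

set_option maxHeartbeats 400000
set_option autoImplicit false
universe u
open CategoryTheory CategoryTheory.Limits AlgebraicGeometry TopologicalSpace Opposite

namespace Groth.Agent.H28.GammaPt

open Groth.Agent.H31.Stalk

variable (Z : Scheme.{u})

/-- The global sections functor. -/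
noncomputable def Γf : Z.Modules ⥤ ModuleCat.{u} (Coh.Γtop Z) :=
  SheafOfModules.evaluation Z.ringCatSheaf (op ⊤)

instance : (Γf Z).Additive :=
  inferInstanceAs (SheafOfModules.forget Z.ringCatSheaf ⋙
    PresheafOfModules.evaluation Z.ringCatSheaf.obj (op ⊤)).Additive

noncomputable instance : PreservesFiniteLimits (Γf Z) :=
  inferInstanceAs (PreservesFiniteLimits (SheafOfModules.evaluation Z.ringCatSheaf (op ⊤)))

variable {Z}

theorem eq_top_of_mem [Subsingleton Z] {U : Z.Opens} {z : Z} (hz : z ∈ U) : U = ⊤ := by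
  ext y
  constructor
  · intro _; trivial
  · intro _; rwa [Subsingleton.elim y z]

theorem epi_stalk_map {M N : Z.Modules} (φ : M ⟶ N) [hφ : Epi φ] (z : Z) :
    Epi ((DerSch.stalkFunctor Z z).map φ) := by
  have h : Epi ((stk (shX Z) z).map φ) := by
    haveI : PreservesFiniteColimits (stk (shX Z) z) := stk_preservesFiniteColimits (shX Z) z
    haveI : PreservesColimitsOfShape WalkingSpan (stk (shX Z) z) := inferInstance
    haveI : (stk (shX Z) z).PreservesEpimorphisms :=
      preservesEpimorphisms_of_preservesColimitsOfShape _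
    exact @Functor.map_epi _ _ _ _ (stk (shX Z) z) _ _ _ φ hφ
  exact ((MorphismProperty.epimorphisms _).arrow_mk_iso_iff
    (Arrow.isoOfNatIso (stalkFunctorIso Z z) (Arrow.mk φ))).2 h

theorem Γf_map_surjective [Subsingleton Z] {M N : Z.Modules} (φ : M ⟶ N) [Epi φ] (z : Z) :
    Function.Surjective ((Γf Z).map φ) := by
  intro t
  have hsurj := (ModuleCat.epi_iff_surjective _).1 (epi_stalk_map φ z)
  obtain ⟨mz, hmz⟩ := hsurj (N.presheaf.germ ⊤ z trivial t)
  obtain ⟨U, hzU, m, rfl⟩ := TopCat.Presheaf.exists_germ_eq M.presheaf (x := z) mz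
  obtain rfl := eq_top_of_mem hzU
  rw [DerSch.stalkFunctor_map_germ] at hmz
  obtain ⟨W, hzW, iU, iV, heq⟩ := TopCat.Presheaf.germ_eq N.presheaf z _ _ _ _ hmz
  obtain rfl := eq_top_of_mem hzW
  have h1 : iU = 𝟙 _ := Subsingleton.elim _ _
  have h2 : iV = 𝟙 _ := Subsingleton.elim _ _
  rw [h1, h2] at heq
  refine ⟨m, ?_⟩
  simp at heq
  exact heq

instance Γf_preservesEpimorphisms [Subsingleton Z] [Nonempty Z] :
    (Γf Z).PreservesEpimorphisms where
  preserves φ _ := (ModuleCat.epi_iff_surjective _).2
    (Γf_map_surjective φ (Classical.arbitrary Z))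

theorem Γf_preservesHomology [Subsingleton Z] [Nonempty Z] : (Γf Z).PreservesHomology :=
  Functor.preservesHomology_of_preservesEpis_and_kernels (Γf Z)

/-- Global sections commute with homology on a one-point scheme. -/
noncomputable def ΓfHomologyIso [Subsingleton Z] [Nonempty Z] (C : CochainComplex Z.Modules ℤ)
    (i : ℤ) :
    (((Γf Z).mapHomologicalComplex (ComplexShape.up ℤ)).obj C).homology i ≅
      (Γf Z).obj (C.homology i) :=
  haveI := Γf_preservesHomology (Z := Z)
  (C.sc i).mapHomologyIso (Γf Z)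

end Groth.Agent.H28.GammaPt
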