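import Groth.Agent.H28.K0Derived

/-!
# Dévissage induction for bounded objects of `D(A)` with cohomology in `B`
-/

set_option autoImplicit false
set_option maxHeartbeats 400000
universe w v u
open CategoryTheory CategoryTheory.Limits CategoryTheory.Pretriangulated
open scoped ZeroObject

namespace Groth.Agent.H28.K0D

variable {A : Type u} [Category.{v} A] [Abelian A] [HasDerivedCategory.{w} A]
variable (B : ObjectProperty A)

theorem PB_induction_aux (hB : Good B) (P : ObjectProperty (DerivedCategory A))
    (hiso : ∀ {E E' : DerivedCategory A}, (E ≅ E') → P E → P E')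
    (hsingle : ∀ (M : A) (a : ℤ), B M → P ((DerivedCategory.singleFunctor A a).obj M))
    (htri : ∀ T ∈ distTriang (DerivedCategory A), P T.obj₁ → P T.obj₃ → P T.obj₂) :
    ∀ (n : ℕ) (E : DerivedCategory A) (a : ℤ), PB B E → E.IsGE a → E.IsLE (a + n) → P E := by
  intro n
  induction n with
  | zero =>
    intro E a hE hGE hLE
    have hLE' : E.IsLE a := by simpa using hLE
    have := hGE
    have := hLE'
    obtain ⟨M, ⟨e⟩⟩ := DerivedCategory.exists_iso_singleFunctor_obj_of_isGE_of_isLE E a
    have hM : B M := hB.iso ((DerivedCategory.homologyFunctor A a).mapIso e ≪≫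
      (DerivedCategory.singleFunctorCompHomologyFunctorIso A a).app M) (hE.1 a)
    exact hiso e.symm (hsingle M a hM)
  | succ n ih =>
    intro E a hE hGE hLE
    have hLE' : E.IsLE (a + n + 1) := by
      have h : a + ((n + 1 : ℕ) : ℤ) = a + n + 1 := by push_cast; ring
      rw [← h]
      exact hLE
    have := hGE
    have := hLE'
    obtain ⟨X, Y, hX, hY, f, g, h, hT⟩ :=
      DerivedCategory.TStructure.t.exists_triangle E (a + n) (a + n + 1) rfl
    haveI hXle : X.IsLE (a + n) := ⟨hX⟩
    haveI hYge : Y.IsGE (a + n + 1) := ⟨hY⟩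
    have i1 : ∀ i : ℤ, i ≤ a + n → IsIso ((DerivedCategory.homologyFunctor A i).map f) :=
      fun i hi => isIso_H_mor₁ (Triangle.mk f g h) hT (a + n) hYge i hi
    have i2 : ∀ i : ℤ, a + n < i → IsIso ((DerivedCategory.homologyFunctor A i).map g) :=
      fun i hi => isIso_H_mor₂ (Triangle.mk f g h) hT (a + n) hXle i hi
    have hXge : X.IsGE a := by
      rw [DerivedCategory.isGE_iff]
      intro i hi
      have := i1 i (by lia)
      exact IsZero.of_iso (E.isZero_of_isGE a i hi)
        (asIso ((DerivedCategory.homologyFunctor A i).map f))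
    have hYle : Y.IsLE (a + n + 1) := by
      rw [DerivedCategory.isLE_iff]
      intro i hi
      have := i2 i (by lia)
      exact IsZero.of_iso (E.isZero_of_isLE (a + n + 1) i hi)
        (asIso ((DerivedCategory.homologyFunctor A i).map g)).symm
    have hXP : PB B X := by
      refine ⟨fun i => ?_, a, a + n, hXge, hXle⟩
      by_cases hi : i ≤ a + n
      · haveI := i1 i hi
        exact hB.iso (asIso ((DerivedCategory.homologyFunctor A i).map f)).symm (hE.1 i)
      · exact hB.zero (X.isZero_of_isLE (a + n) i (by lia))
    have hYP : PB B Y := by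
      refine ⟨fun i => ?_, a + n + 1, a + n + 1, hYge, hYle⟩
      by_cases hi : a + n < i
      · haveI := i2 i hi
        exact hB.iso (asIso ((DerivedCategory.homologyFunctor A i).map g)) (hE.1 i)
      · exact hB.zero (Y.isZero_of_isGE (a + n + 1) i (by lia))
    have hYle0 : Y.IsLE (a + n + 1 + ((0 : ℕ) : ℤ)) := by simpa using hYle
    have hPY : P Y := by
      have := hYge
      have := hYle
      obtain ⟨M, ⟨e⟩⟩ :=
        DerivedCategory.exists_iso_singleFunctor_obj_of_isGE_of_isLE Y (a + n + 1)
      have hM : B M := hB.iso ((DerivedCategory.homologyFunctor A (a + n + 1)).mapIso e ≪≫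
        (DerivedCategory.singleFunctorCompHomologyFunctorIso A (a + n + 1)).app M)
        (hYP.1 (a + n + 1))
      exact hiso e.symm (hsingle M (a + n + 1) hM)
    exact htri (Triangle.mk f g h) hT (ih X a hXP hXge hXle) hPY

/-- Dévissage: a property of objects of `D(A)` that is iso-invariant, holds for `M[-a]` with `M ∈ B`,
and passes to the middle vertex of distinguished triangles holds for all bounded objects with
cohomology in `B`. -/
theorem PB_induction (hB : Good B) (P : ObjectProperty (DerivedCategory A))
    (hiso : ∀ {E E' : DerivedCategory A}, (E ≅ E') → P E → P E')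
    (hsingle : ∀ (M : A) (a : ℤ), B M → P ((DerivedCategory.singleFunctor A a).obj M))
    (htri : ∀ T ∈ distTriang (DerivedCategory A), P T.obj₁ → P T.obj₃ → P T.obj₂)
    (E : DerivedCategory A) (hE : PB B E) : P E := by
  obtain ⟨a, b, ha, hb⟩ := hE.2
  have hle : E.IsLE (a + ((b - a).toNat : ℤ)) := by
    have := hb
    exact DerivedCategory.TStructure.t.isLE_of_le E b _
      (by have := Int.self_le_toNat (b - a); lia)
  exact PB_induction_aux B hB P hiso hsingle htri (b - a).toNat E a hE ha hle

end Groth.Agent.H28.K0D
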