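import Groth.Prelude.Def_KZero
import Groth.Prelude.Def_DRing2
import Groth.Prelude.Def_Koszul
import Groth.Prelude.Def_LCI2
import Groth.Agent.H28.K0Derived
import Groth.Agent.H56.PerfectCx
import Groth.Agent.H56.DerCat
import Groth.Agent.S6291
import Groth.Agent.S6292
import Groth.Agent.S15821
import Mathlib.RingTheory.Support
import Mathlib.RingTheory.SimpleModule.Basic
import Mathlib.RingTheory.FiniteLength
import Mathlib.Algebra.Homology.ShortComplex.ModuleCat

/-!
# K₀ of perfect complexes supported at the closed point of a regular local ring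

Finite length modules over a Noetherian local ring whose maximal ideal is generated by a regular
sequence: they are perfect, their classes are multiples of the class of the residue field, and the
Koszul complex is a resolution of the residue field.
-/

set_option autoImplicit false
universe u
open CategoryTheory CategoryTheory.Limits Pretriangulated
open scoped ZeroObject
attribute [local instance] HasDerivedCategory.standard

namespace Groth.Agent.H28.K0Kos

open Groth.Agent.H28.K0D Groth.Agent.H56 DerivedCategory

variable (R : Type u) [CommRing R]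

/-- finite length modules -/
def FL : ObjectProperty (ModuleCat.{u} R) := fun M => IsFiniteLength R M

theorem good_FL : Good (FL R) where
  iso := fun {X Y} e h => LinearEquiv.isFiniteLength e.toLinearEquiv h
  zero := fun {X} h => by
    haveI := ModuleCat.subsingleton_of_isZero h
    exact IsFiniteLength.of_subsingleton
  ker := fun {X Y} f hX _ => by
    have hinj : Function.Injective (kernel.ι f).hom :=
      (ModuleCat.mono_iff_injective _).1 inferInstance
    exact IsFiniteLength.of_injective hX hinj

theorem support_subset_of_FL [IsLocalRing R] (M : Type u) [AddCommGroup M] [Module R M]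
    (hM : IsFiniteLength R M) : Module.support R M ⊆ {IsLocalRing.closedPoint R} := by
  obtain ⟨n, hn⟩ := Groth.Agent.S6291.result M hM
  intro p hp
  have hann : Module.annihilator R M ≤ p.asIdeal := Module.annihilator_le_of_mem_support hp
  have hle : IsLocalRing.maximalIdeal R ^ n ≤ Module.annihilator R M := by
    intro a ha
    rw [Module.mem_annihilator]
    intro z
    have h1 : a • z ∈ IsLocalRing.maximalIdeal R ^ n • (⊤ : Submodule R M) :=
      Submodule.smul_mem_smul ha trivial
    rw [hn] at h1
    exact (Submodule.mem_bot R).1 h1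
  haveI := p.2
  have h1 : IsLocalRing.maximalIdeal R ≤ p.asIdeal :=
    Ideal.IsPrime.le_of_pow_le (hle.trans hann)
  have h2 : IsLocalRing.maximalIdeal R = p.asIdeal :=
    (IsLocalRing.maximalIdeal.isMaximal R).eq_of_le p.2.ne_top h1
  rw [Set.mem_singleton_iff]
  exact PrimeSpectrum.ext h2.symm

theorem FL_of_finite_support [IsNoetherianRing R] [IsLocalRing R] (M : Type u) [AddCommGroup M]
    [Module R M] [Module.Finite R M]
    (h : Module.support R M ⊆ {IsLocalRing.closedPoint R}) : IsFiniteLength R M := by
  have hrad : IsLocalRing.maximalIdeal R ≤ (Module.annihilator R M).radical := by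
    rw [Ideal.radical_eq_sInf]
    refine le_sInf ?_
    rintro p ⟨hp1, hp2⟩
    have hmem : (⟨p, hp2⟩ : PrimeSpectrum R) ∈ Module.support R M := by
      rw [Module.mem_support_iff_of_finite]
      exact hp1
    have h3 := h hmem
    rw [Set.mem_singleton_iff] at h3
    have h4 : p = IsLocalRing.maximalIdeal R := congrArg PrimeSpectrum.asIdeal h3
    rw [h4]
  obtain ⟨k, hk⟩ := Ideal.exists_pow_le_of_le_radical_of_fg hrad (IsNoetherian.noetherian _)
  refine Groth.Agent.S6292.result (IsLocalRing.maximalIdeal R) (IsNoetherian.noetherian _) M k ?_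
  rw [eq_bot_iff, Submodule.smul_le]
  intro r hr z _
  rw [Submodule.mem_bot]
  exact Module.mem_annihilator.1 (hk hr) z

theorem FL_quot_max [IsNoetherianRing R] [IsLocalRing R] :
    IsFiniteLength R (R ⧸ IsLocalRing.maximalIdeal R) := by
  refine Groth.Agent.S6292.result (IsLocalRing.maximalIdeal R) (IsNoetherian.noetherian _) _ 1 ?_
  rw [eq_bot_iff, Submodule.smul_le]
  intro r hr z _
  rw [Submodule.mem_bot]
  rw [pow_one] at hr
  obtain ⟨y, rfl⟩ := Ideal.Quotient.mk_surjective z
  rw [Algebra.smul_def, Ideal.Quotient.algebraMap_eq, ← map_mul, Ideal.Quotient.eq_zero_iff_mem]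
  exact Ideal.mul_mem_right y _ hr

/-- the residue field as a module -/
abbrev kk [IsLocalRing R] : ModuleCat.{u} R := ModuleCat.of R (R ⧸ IsLocalRing.maximalIdeal R)

/-- the short exact sequence `0 → N → M → M/N → 0` -/
noncomputable def sesOf {M : Type u} [AddCommGroup M] [Module R M] (N : Submodule R M) :
    ShortComplex (ModuleCat.{u} R) :=
  ShortComplex.mk (ModuleCat.ofHom N.subtype) (ModuleCat.ofHom N.mkQ) (by ext x; simp)

theorem sesOf_shortExact {M : Type u} [AddCommGroup M] [Module R M] (N : Submodule R M) :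
    (sesOf R N).ShortExact :=
  ModuleCat.shortComplex_shortExact (sesOf R N)
    (LinearMap.exact_subtype_mkQ N) N.injective_subtype N.mkQ_surjective

theorem clSub_mem_closure [IsNoetherianRing R] [IsLocalRing R] :
    ∀ (M : Type u) [AddCommGroup M] [Module R M], IsFiniteLength R M →
      KZero.clSub (FL R) (ModuleCat.of R M) ∈
        AddSubgroup.closure {KZero.clSub (FL R) (kk R)} := by
  intro M _ _ hM
  induction hM with
  | @of_subsingleton M _ _ _ =>
    rw [clSub_isZero (FL R) (good_FL R) (Z := ModuleCat.of R M)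
      (ModuleCat.isZero_of_subsingleton _)]
    exact zero_mem _
  | @of_simple_quotient M _ _ N hs hN ih =>
    have hM : IsFiniteLength R M := IsFiniteLength.of_simple_quotient hN
    have hQ : IsFiniteLength R (M ⧸ N) := IsFiniteLength.of_surjective hM N.mkQ_surjective
    have hrel := clSub_rel (FL R) (sesOf R N) (sesOf_shortExact R N) hN hM hQ
    obtain ⟨I, hI, ⟨e⟩⟩ := isSimpleModule_iff_quot_maximal.1 hs
    have hIm : I = IsLocalRing.maximalIdeal R := IsLocalRing.eq_maximalIdeal hI
    subst hIm
    have hiso : KZero.clSub (FL R) (ModuleCat.of R (M ⧸ N)) = KZero.clSub (FL R) (kk R) :=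
      clSub_iso (FL R) (good_FL R) e.toModuleIso hQ
    change KZero.clSub (FL R) (ModuleCat.of R M) = KZero.clSub (FL R) (ModuleCat.of R N) +
      KZero.clSub (FL R) (ModuleCat.of R (M ⧸ N)) at hrel
    rw [hrel, hiso]
    exact add_mem ih (AddSubgroup.subset_closure rfl)

theorem perfect_of_FL [IsNoetherianRing R] [IsLocalRing R]
    (hk : DRing.IsPerfect R ((singleFunctor (ModuleCat.{u} R) 0).obj (kk R))) :
    ∀ (M : Type u) [AddCommGroup M] [Module R M], IsFiniteLength R M →
      DRing.IsPerfect R ((singleFunctor (ModuleCat.{u} R) 0).obj (ModuleCat.of R M)) := by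
  intro M _ _ hM
  induction hM with
  | of_subsingleton =>
    exact isPerfect_of_isZero (Functor.map_isZero _ (ModuleCat.isZero_of_subsingleton _))
  | @of_simple_quotient M _ _ N hs hN ih =>
    have hT := (sesOf_shortExact R N).singleTriangle_distinguished
    obtain ⟨I, hI, ⟨e⟩⟩ := isSimpleModule_iff_quot_maximal.1 hs
    have hIm : I = IsLocalRing.maximalIdeal R := IsLocalRing.eq_maximalIdeal hI
    subst hIm
    have h3 : DRing.IsPerfect R
        ((singleFunctor (ModuleCat.{u} R) 0).obj (ModuleCat.of R (M ⧸ N))) :=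
      isPerfect_of_iso ((singleFunctor (ModuleCat.{u} R) 0).mapIso e.toModuleIso.symm) hk
    exact isPerfect_obj₂ (sesOf_shortExact R N).singleTriangle hT ih h3

theorem koszul_perfect (l : List R) :
    DRing.VanishesOutside (Koszul.koszul R l) (-(l.length : ℤ)) 0 ∧
      DRing.TermwiseFiniteProjective (Koszul.koszul R l) := by
  induction l with
  | nil =>
    constructor
    · intro i hi
      have hi0 : i ≠ 0 := by
        rcases hi with hi | hi
        · simp only [List.length_nil, Nat.cast_zero, neg_zero] at hi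
          omega
        · omega
      exact HomologicalComplex.isZero_single_obj_X (ComplexShape.up ℤ) 0 (ModuleCat.of R R) i hi0
    · intro i
      by_cases hi0 : i = 0
      · subst hi0
        have e : (Koszul.koszul R []).X 0 ≅ ModuleCat.of R R :=
          HomologicalComplex.singleObjXSelf (ComplexShape.up ℤ) 0 (ModuleCat.of R R)
        exact ⟨Module.Finite.equiv e.symm.toLinearEquiv,
          Module.Projective.of_equiv e.symm.toLinearEquiv⟩
      · exact moduleFinite_projective_of_isZero _
          (HomologicalComplex.isZero_single_obj_X (ComplexShape.up ℤ) 0 (ModuleCat.of R R) i hi0)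
  | cons f l ih =>
    obtain ⟨h1, h2⟩ := ih
    obtain ⟨hv, hp⟩ := isPerfect_mappingCone (f • 𝟙 (Koszul.koszul R l)) _ _ _ _ h1 h2 h1 h2
    refine ⟨fun i hi => hv i ?_, hp⟩
    simp only [List.length_cons, Nat.cast_add, Nat.cast_one] at hi
    rcases hi with hi | hi
    · left
      rw [lt_min_iff]
      constructor <;> omega
    · right
      rw [max_lt_iff]
      constructor <;> omega

theorem koszul_iso [IsLocalRing R] (fs : List R) (hreg : RingTheory.Sequence.IsRegular R fs)
    (hgen : Ideal.ofList fs = IsLocalRing.maximalIdeal R) :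
    Nonempty (DRing.toD (Koszul.koszul R fs) ≅
      (singleFunctor (ModuleCat.{u} R) 0).obj (kk R)) := by
  obtain ⟨hK, ⟨e0⟩⟩ := Groth.Agent.S15821.result R fs hreg.toIsWeaklyRegular
  have hz : ∀ i : ℤ, i ≠ 0 → IsZero ((homologyFunctor (ModuleCat.{u} R) i).obj
      (DRing.toD (Koszul.koszul R fs))) := fun i hi =>
    IsZero.of_iso (hK i hi)
      ((homologyFunctorFactors (ModuleCat.{u} R) i).app (Koszul.koszul R fs))
  have : (DRing.toD (Koszul.koszul R fs)).IsGE 0 :=
    (isGE_iff _ 0).2 (fun i hi => hz i (by omega))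
  have : (DRing.toD (Koszul.koszul R fs)).IsLE 0 :=
    (isLE_iff _ 0).2 (fun i hi => hz i (by omega))
  obtain ⟨e⟩ := nonempty_iso_single (DRing.toD (Koszul.koszul R fs)) 0
  have e1 : (homologyFunctor (ModuleCat.{u} R) 0).obj (DRing.toD (Koszul.koszul R fs)) ≅ kk R :=
    (homologyFunctorFactors (ModuleCat.{u} R) 0).app (Koszul.koszul R fs) ≪≫ e0 ≪≫
      (Submodule.quotEquivOfEq _ _ hgen).toModuleIso
  exact ⟨e ≪≫ (singleFunctor (ModuleCat.{u} R) 0).mapIso e1⟩

theorem prop_iff [IsNoetherianRing R] [IsLocalRing R]
    (hk : DRing.IsPerfect R ((singleFunctor (ModuleCat.{u} R) 0).obj (kk R)))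
    (K : Dual.D R) :
    (DRing.IsPerfect R K ∧
        ∀ i : ℤ, Module.support R (Dual.HD R K i) ⊆ {IsLocalRing.closedPoint R}) ↔
      ((∀ i : ℤ, FL R ((homologyFunctor (ModuleCat.{u} R) i).obj K)) ∧
        ∃ a b : ℤ, K.IsGE a ∧ K.IsLE b) := by
  constructor
  · rintro ⟨hperf, hsupp⟩
    obtain ⟨E, a, b, hv, hp, ⟨e⟩⟩ := hperf
    have hH : ∀ i, (homologyFunctor (ModuleCat.{u} R) i).obj K ≅ E.homology i := fun i =>
      (homologyFunctor (ModuleCat.{u} R) i).mapIso e.symm ≪≫
        (homologyFunctorFactors (ModuleCat.{u} R) i).app E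
    refine ⟨fun i => ?_, a, b, ?_, ?_⟩
    · haveI : Module.Finite R (E.X i) := (hp i).1
      haveI : Module.Finite R (E.cycles i) :=
        Module.Finite.of_injective (E.iCycles i).hom
          ((ModuleCat.mono_iff_injective _).1 inferInstance)
      haveI : Module.Finite R (E.homology i) :=
        Module.Finite.of_surjective (E.homologyπ i).hom
          ((ModuleCat.epi_iff_surjective _).1 inferInstance)
      haveI : Module.Finite R ((homologyFunctor (ModuleCat.{u} R) i).obj K) :=
        Module.Finite.equiv (hH i).symm.toLinearEquiv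
      exact FL_of_finite_support R _ (hsupp i)
    · rw [isGE_iff]
      intro i hi
      exact IsZero.of_iso
        (ShortComplex.isZero_homology_of_isZero_X₂ (E.sc i) (hv i (Or.inl hi))) (hH i)
    · rw [isLE_iff]
      intro i hi
      exact IsZero.of_iso
        (ShortComplex.isZero_homology_of_isZero_X₂ (E.sc i) (hv i (Or.inr hi))) (hH i)
  · rintro ⟨hfl, a, b, ha, hb⟩
    refine ⟨?_, fun i => support_subset_of_FL R _ (hfl i)⟩
    have := ha
    have := hb
    refine isPerfect_of_bounded_perfect_homology (b - a + 1).toNat K a b ?_ ?_ ?_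
    · have := Int.self_le_toNat (b - a + 1)
      omega
    · rintro i (hi | hi)
      · exact isZero_of_isGE K a i hi
      · exact isZero_of_isLE K b i hi
    · intro i
      exact perfect_of_FL R hk _ (hfl i)

theorem closure_kk_eq_top [IsNoetherianRing R] [IsLocalRing R] :
    AddSubgroup.closure {KZero.clSub (FL R) (kk R)} = ⊤ := by
  rw [eq_top_iff]
  rintro x -
  obtain ⟨z, rfl⟩ := QuotientAddGroup.mk_surjective x
  induction z using FreeAbelianGroup.induction_on with
  | zero => exact zero_mem _
  | of M =>
    have h : KZero.clSub (FL R) M.1 ∈ AddSubgroup.closure {KZero.clSub (FL R) (kk R)} :=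
      clSub_mem_closure R M.1 M.2
    rw [clSub_eq (FL R) M.2] at h
    exact h
  | neg M ih =>
    rw [QuotientAddGroup.mk_neg]
    exact neg_mem ih
  | add x y hx hy =>
    rw [QuotientAddGroup.mk_add]
    exact add_mem hx hy

theorem main [IsNoetherianRing R] [IsLocalRing R] (fs : List R)
    (hreg : RingTheory.Sequence.IsRegular R fs)
    (hgen : Ideal.ofList fs = IsLocalRing.maximalIdeal R)
    (P' : ObjectProperty (Dual.D R))
    (hP' : P' = fun K : Dual.D R => DRing.IsPerfect R K ∧
            ∀ i : ℤ, Module.support R (Dual.HD R K i) ⊆ {IsLocalRing.closedPoint R}) :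
    AddSubgroup.closure {KZero.clTr P' (DRing.toD (Koszul.koszul R fs))} = ⊤ := by
  obtain ⟨e⟩ := koszul_iso R fs hreg hgen
  have hKosPerf : DRing.IsPerfect R (DRing.toD (Koszul.koszul R fs)) :=
    ⟨_, _, _, (koszul_perfect R fs).1, (koszul_perfect R fs).2, ⟨Iso.refl _⟩⟩
  have hk := isPerfect_of_iso e hKosPerf
  have hiff : ∀ K : Dual.D R, P' K ↔
      ((∀ i : ℤ, FL R ((homologyFunctor (ModuleCat.{u} R) i).obj K)) ∧
        ∃ a b : ℤ, K.IsGE a ∧ K.IsLE b) := by
    intro K
    rw [hP']
    exact prop_iff R hk K
  obtain ⟨φ, hφ⟩ := main' (FL R) (good_FL R) P' hiff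
  have hkFL : FL R (kk R) := FL_quot_max R
  have h2 : P' ((singleFunctor (ModuleCat.{u} R) 0).obj (kk R)) :=
    (hiff _).2 (PB_single (FL R) (good_FL R) hkFL)
  have h1 : P' (DRing.toD (Koszul.koszul R fs)) :=
    (hiff _).2 (PB_iso (FL R) (good_FL R) e.symm (PB_single (FL R) (good_FL R) hkFL))
  have h0 : P' (0 : Dual.D R) := (hiff _).2 (PB_zero (FL R) (good_FL R))
  have hcl := clTr_iso P' e h1 h2 h0
  rw [hcl, ← hφ (kk R) hkFL]
  have h := congrArg (AddSubgroup.map (φ : KZero.K0sub (FL R) →+ KZero.K0tr P'))
    (closure_kk_eq_top R)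
  rw [AddMonoidHom.map_closure, Set.image_singleton,
    AddSubgroup.map_top_of_surjective _ φ.surjective] at h
  exact h

end Groth.Agent.H28.K0Kos
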