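import Groth.Prelude.Def_PCoh
import Groth.Agent.H28.Perfect
import Mathlib.Algebra.Homology.HomologicalComplexBiprod
import Mathlib.Algebra.Homology.Embedding.CochainComplex
import Mathlib.Algebra.Homology.DerivedCategory.Basic

/-!
# Helper library (helper28): liftable classes are quasi-liftable and quasi-stable; biproducts and
truncations of strictly perfect complexes
-/

set_option autoImplicit false
universe w v u

open CategoryTheory CategoryTheory.Limits HomologicalComplex

namespace Groth.Agent.H28.PerfB

variable {C : Type u} [Category.{v} C] [Abelian C]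

section gen

variable {ι : Type*} {c : ComplexShape ι} (K : HomologicalComplex C c)

lemma epi_toCycles' (i j : ι) (hij : c.Rel i j) (h : IsZero (K.homology j)) :
    Epi (K.toCycles i j) :=
  Preadditive.epi_of_isZero_cokernel' _ (K.homologyIsCokernel i j (c.prev_eq' hij)) h

lemma iCycles_toCycles' (i j : ι) : K.iCycles i ≫ K.toCycles i j = 0 := by
  rw [← cancel_mono (K.iCycles j), Category.assoc, K.toCycles_i, K.iCycles_d, zero_comp]

/-- `cycles i` is the kernel of `toCycles i j` when `i → j`. -/
noncomputable def cyclesIsoKernelToCycles' (i j : ι) (hij : c.Rel i j) :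
    K.cycles i ≅ kernel (K.toCycles i j) where
  hom := kernel.lift _ (K.iCycles i) (iCycles_toCycles' K i j)
  inv := K.liftCycles (kernel.ι _) j (c.next_eq' hij) (by
    rw [← K.toCycles_i i j, ← Category.assoc, kernel.condition, zero_comp])
  hom_inv_id := by
    rw [← cancel_mono (K.iCycles i), Category.assoc, K.liftCycles_i, kernel.lift_ι,
      Category.id_comp]
  inv_hom_id := by
    rw [← cancel_mono (kernel.ι _), Category.assoc, kernel.lift_ι, K.liftCycles_i,
      Category.id_comp]

end gen

/-- A liftable class is quasi-liftable. -/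
lemma hql_of_hlift (P : ObjectProperty C)
    (hlift : ∀ (E F : C) (u : E ⟶ F), Epi u → P F → IsSplitEpi u) : PCoh.IsQuasiLiftable P := by
  intro E F u hu hF
  obtain ⟨⟨s, hs⟩⟩ := (hlift E F u hu hF).exists_splitEpi
  refine ⟨F, s, hF, ?_⟩
  rw [hs]
  infer_instance

/-- A class stable under kernels of epimorphisms is quasi-stable under kernels. -/
lemma hqs_of_hst (P : ObjectProperty C) [P.IsClosedUnderIsomorphisms] [P.ContainsZero]
    (hst : ∀ (E F : C) (u : E ⟶ F), Epi u → P E → P F → P (kernel u)) :
    PCoh.IsQuasiStableUnderKernels P := by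
  intro K hex hbd hP
  obtain ⟨N, hN⟩ := hbd
  have hcyc : ∀ (k : ℕ) (i : ℕ), i + k = N + 1 → 1 ≤ i → P (K.cycles i) := by
    intro k
    induction k with
    | zero =>
      intro i hi _
      have hz : IsZero (K.X i) := hN i (by lia)
      exact P.prop_of_isZero (IsZero.of_mono (K.iCycles i) hz)
    | succ k ih =>
      intro i hi h1
      have h2 : P (K.cycles (i + 1)) := ih (i + 1) (by lia) (by lia)
      have hrel : (ComplexShape.up ℕ).Rel i (i + 1) := rfl
      have hepi : Epi (K.toCycles i (i + 1)) :=
        epi_toCycles' K i (i + 1) hrel ((K.exactAt_iff_isZero_homology _).1 (hex (i + 1)))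
      exact P.prop_of_iso (cyclesIsoKernelToCycles' K i (i + 1) hrel).symm
        (hst _ _ _ hepi (hP i h1) h2)
  have hc1 : P (K.cycles 1) := hcyc N 1 (by lia) le_rfl
  have hrel : (ComplexShape.up ℕ).Rel 0 1 := rfl
  have hepi : Epi (K.toCycles 0 1) :=
    epi_toCycles' K 0 1 hrel ((K.exactAt_iff_isZero_homology _).1 (hex 1))
  have hf0 : (K.sc 0).f = 0 := by
    apply K.shape
    intro h
    exact Nat.succ_ne_zero _ h
  have hm : Mono (K.sc 0).g := (hex 0).mono_g hf0
  have hnext : (ComplexShape.up ℕ).next 0 = 1 := (ComplexShape.up ℕ).next_eq' hrel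
  have hm' : Mono (K.d 0 1) := by
    have : Mono (K.d 0 ((ComplexShape.up ℕ).next 0)) := hm
    rwa [hnext] at this
  have h4 : Mono (K.toCycles 0 1 ≫ K.iCycles 1) := by rw [K.toCycles_i]; exact hm'
  have h5 : Mono (K.toCycles 0 1) := mono_of_mono _ (K.iCycles 1)
  have hiso : IsIso (K.toCycles 0 1) := isIso_of_mono_of_epi _
  have hX0 : P (K.X 0) := P.prop_of_iso (asIso (K.toCycles 0 1)).symm hc1
  exact ⟨K.X 0, 𝟙 _, hX0, inferInstance⟩

lemma isZero_biprod {A B : C} (hA : IsZero A) (hB : IsZero B) : IsZero (A ⊞ B) :=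
  (IsZero.iff_id_eq_zero _).2 (by
    apply biprod.hom_ext
    · exact hA.eq_of_tgt _ _
    · exact hB.eq_of_tgt _ _)

section derived

variable [HasDerivedCategory.{w} C]

/-- `Q` of a biproduct of complexes is a biproduct. -/
noncomputable def qBiprodIso {X Y : CochainComplex C ℤ} {A B : DerivedCategory C}
    [HasBinaryBiproduct A B] (eX : DerivedCategory.Q.obj X ≅ A)
    (eY : DerivedCategory.Q.obj Y ≅ B) :
    DerivedCategory.Q.obj (X ⊞ Y) ≅ A ⊞ B where
  hom := biprod.lift (DerivedCategory.Q.map biprod.fst ≫ eX.hom)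
    (DerivedCategory.Q.map biprod.snd ≫ eY.hom)
  inv := biprod.desc (eX.inv ≫ DerivedCategory.Q.map biprod.inl)
    (eY.inv ≫ DerivedCategory.Q.map biprod.inr)
  hom_inv_id := by
    rw [biprod.lift_desc]
    simp only [Category.assoc, Iso.hom_inv_id_assoc]
    rw [← Functor.map_comp, ← Functor.map_comp, ← Functor.map_add, biprod.total,
      CategoryTheory.Functor.map_id]
  inv_hom_id := by
    apply biprod.hom_ext'
    · rw [biprod.inl_desc_assoc, Category.comp_id]
      apply biprod.hom_ext
      · simp only [Category.assoc, biprod.lift_fst]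
        rw [← Functor.map_comp_assoc, biprod.inl_fst, CategoryTheory.Functor.map_id,
          Category.id_comp, Iso.inv_hom_id, biprod.inl_fst]
      · simp only [Category.assoc, biprod.lift_snd]
        rw [← Functor.map_comp_assoc, biprod.inl_snd, Functor.map_zero, zero_comp, comp_zero,
          biprod.inl_snd]
    · rw [biprod.inr_desc_assoc, Category.comp_id]
      apply biprod.hom_ext
      · simp only [Category.assoc, biprod.lift_fst]
        rw [← Functor.map_comp_assoc, biprod.inr_fst, Functor.map_zero, zero_comp, comp_zero,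
          biprod.inr_fst]
      · simp only [Category.assoc, biprod.lift_snd]
        rw [← Functor.map_comp_assoc, biprod.inr_snd, CategoryTheory.Functor.map_id,
          Category.id_comp, Iso.inv_hom_id, biprod.inr_snd]

/-- Homology of a retract (in the derived category) of a complex vanishes where the terms of the
complex vanish. -/
lemma isZero_homology_of_retract (E₀ E : CochainComplex C ℤ) {A B : DerivedCategory C}
    (s : B ⟶ A) (r : A ⟶ B) (hsr : s ≫ r = 𝟙 B) (e₀ : DerivedCategory.Q.obj E₀ ≅ A)
    (e : DerivedCategory.Q.obj E ≅ B) (i : ℤ) (h : IsZero (E₀.X i)) :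
    IsZero (E.homology i) := by
  have h1 : IsZero (E₀.homology i) :=
    (E₀.exactAt_iff_isZero_homology i).1 (ShortComplex.exact_of_isZero_X₂ _ h)
  have h2 : IsZero ((DerivedCategory.homologyFunctor C i).obj A) :=
    IsZero.of_iso h1 ((DerivedCategory.homologyFunctor C i).mapIso e₀.symm ≪≫
      (DerivedCategory.homologyFunctorFactors C i).app E₀)
  have h3 : IsZero ((DerivedCategory.homologyFunctor C i).obj B) :=
    (IsZero.iff_id_eq_zero _).2 (by
      rw [← CategoryTheory.Functor.map_id, ← hsr, Functor.map_comp,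
        h2.eq_of_tgt ((DerivedCategory.homologyFunctor C i).map s) 0, zero_comp])
  exact IsZero.of_iso h3 (((DerivedCategory.homologyFunctorFactors C i).app E).symm ≪≫
    (DerivedCategory.homologyFunctor C i).mapIso e)

/-- Canonical truncation of a strictly `a`-pseudo-coherent complex with homology in `[a, b]`. -/
lemma exists_trunc (P : ObjectProperty C) [P.IsClosedUnderIsomorphisms] [P.ContainsZero]
    (hst : ∀ (E F : C) (u : E ⟶ F), Epi u → P E → P F → P (kernel u))
    (a b : ℤ) (hab : a ≤ b) (E : CochainComplex C ℤ) (hE : PCoh.IsStrictPC P a E)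
    (hlo : ∀ i : ℤ, i < a → IsZero (E.homology i))
    (hhi : ∀ i : ℤ, b < i → IsZero (E.homology i)) :
    ∃ T : CochainComplex C ℤ, (∀ i : ℤ, a < i → P (T.X i)) ∧
      (∀ i : ℤ, i < a ∨ b < i → IsZero (T.X i)) ∧
      Nonempty (DerivedCategory.Q.obj T ≅ DerivedCategory.Q.obj E) := by
  obtain ⟨⟨c, hc⟩, hPE⟩ := hE
  have hle : E.IsLE b := (E.isLE_iff b).2
    (fun i hi => (E.exactAt_iff_isZero_homology i).2 (hhi i hi))
  have hq1 : QuasiIso (E.ιTruncLE b) := inferInstance
  have hKge : (E.truncLE b).IsGE a := ((E.truncLE b).isGE_iff a).2 (fun i hi =>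
    ((E.truncLE b).exactAt_iff_isZero_homology i).2
      (IsZero.of_iso (hlo i hi) (isoOfQuasiIsoAt (E.ιTruncLE b) i)))
  have hq2 : QuasiIso ((E.truncLE b).πTruncGE a) := inferInstance
  have hKX : ∀ i : ℤ, a ≤ i → P ((E.truncLE b).X i) := by
    intro i hi
    rcases lt_trichotomy i b with h | h | h
    · exact P.prop_of_iso (E.truncLEXIso b i h).symm (hPE i hi)
    · subst h
      obtain ⟨k, hk⟩ := Int.le.dest (le_max_right c i)
      exact P.prop_of_iso (E.truncLEXIsoCycles i).symm
        (Groth.Agent.H28.Perf.prop_cycles E P hst i (max c i) (fun j hj => hPE j (by lia))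
          (fun j hj => hc j (lt_of_le_of_lt (le_max_left c i) hj)) hhi k i hk le_rfl)
    · exact P.prop_of_isZero ((E.truncLE b).isZero_of_isStrictlyLE b i h)
  refine ⟨(E.truncLE b).truncGE a, ?_, ?_,
    ⟨(asIso (DerivedCategory.Q.map ((E.truncLE b).πTruncGE a))).symm ≪≫
      asIso (DerivedCategory.Q.map (E.ιTruncLE b))⟩⟩
  · intro i hi
    exact P.prop_of_iso ((E.truncLE b).truncGEXIso a i hi).symm (hKX i hi.le)
  · intro i hi
    rcases hi with h | h
    · exact ((E.truncLE b).truncGE a).isZero_of_isStrictlyGE a i h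
    · exact IsZero.of_iso ((E.truncLE b).isZero_of_isStrictlyLE b i h)
        ((E.truncLE b).truncGEXIso a i (by lia))

end derived

end Groth.Agent.H28.PerfB
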