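import Groth.Prelude.Def_KZero
import Groth.Prelude.Def_DRing2
import Groth.Agent.H28.K0Derived
import Groth.Agent.H28.PerfBiprod
import Groth.Agent.H56.PerfectCx
import Groth.Agent.H56.CyclesProj
import Groth.Agent.H56.StupidInd
import Groth.Agent.H56.ConeLift

/-!
# `K₀` of a ring versus `K₀` of its perfect complexes
-/

set_option autoImplicit false
universe u
open CategoryTheory CategoryTheory.Limits CategoryTheory.Pretriangulated
open scoped ZeroObject
attribute [local instance] HasDerivedCategory.standard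

namespace Groth.Agent.H28.K0Perf

open DRing DerivedCategory Groth.Agent.H28.K0D Groth.Agent.H56

/-- finite projective modules -/
abbrev FP (R : Type u) [CommRing R] : ObjectProperty (ModuleCat.{u} R) :=
  fun M => Module.Finite R M ∧ Module.Projective R M

/-- perfect objects -/
abbrev PP (R : Type u) [CommRing R] : ObjectProperty (Dual.D R) := fun K => IsPerfect R K

variable {R : Type u} [CommRing R]

theorem fp_iso {M N : ModuleCat.{u} R} (e : M ≅ N) (h : FP R M) : FP R N := by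
  haveI := h.1
  haveI := h.2
  exact ⟨Module.Finite.equiv e.toLinearEquiv, Module.Projective.of_equiv e.toLinearEquiv⟩

theorem fp_zero {Z : ModuleCat.{u} R} (hZ : IsZero Z) : FP R Z :=
  moduleFinite_projective_of_isZero Z hZ

theorem fp_biprod {X Y : ModuleCat.{u} R} (hX : FP R X) (hY : FP R Y) : FP R (X ⊞ Y) := by
  haveI := hX.1
  haveI := hX.2
  haveI := hY.1
  haveI := hY.2
  have e : (X ⊞ Y : ModuleCat.{u} R) ≃ₗ[R] (X × Y) := (ModuleCat.biprodIsoProd X Y).toLinearEquiv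
  exact ⟨Module.Finite.equiv e.symm, Module.Projective.of_equiv e.symm⟩

theorem clSub_zero' {Z : ModuleCat.{u} R} (hZ : IsZero Z) : KZero.clSub (FP R) Z = 0 := by
  have hS : (ShortComplex.mk (𝟙 Z) (𝟙 Z) (hZ.eq_of_src _ _)).ShortExact :=
    ShortComplex.ShortExact.mk' (ShortComplex.exact_of_isZero_X₂ _ hZ)
      (inferInstanceAs (Mono (𝟙 Z))) (inferInstanceAs (Epi (𝟙 Z)))
  have h := clSub_rel (FP R) _ hS (fp_zero hZ) (fp_zero hZ) (fp_zero hZ)
  change KZero.clSub (FP R) Z = KZero.clSub (FP R) Z + KZero.clSub (FP R) Z at h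
  have h' := congrArg (fun t => t - KZero.clSub (FP R) Z) h
  simp only [sub_self, add_sub_cancel_right] at h'
  exact h'.symm

theorem clSub_iso' {X Y : ModuleCat.{u} R} (e : X ≅ Y) (hX : FP R X) :
    KZero.clSub (FP R) X = KZero.clSub (FP R) Y := by
  have hS : (ShortComplex.mk e.hom (0 : Y ⟶ (0 : ModuleCat.{u} R)) comp_zero).ShortExact :=
    ShortComplex.ShortExact.mk'
      ((ShortComplex.exact_iff_epi _ rfl).2 (inferInstanceAs (Epi e.hom)))
      (inferInstanceAs (Mono e.hom)) (inferInstanceAs (Epi (0 : Y ⟶ (0 : ModuleCat.{u} R))))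
  have h := clSub_rel (FP R) _ hS hX (fp_iso e hX) (fp_zero (isZero_zero _))
  change KZero.clSub (FP R) Y = KZero.clSub (FP R) X + KZero.clSub (FP R) (0 : ModuleCat.{u} R) at h
  rw [clSub_zero' (isZero_zero _), add_zero] at h
  exact h.symm

theorem clSub_biprod {X Y : ModuleCat.{u} R} (hX : FP R X) (hY : FP R Y) :
    KZero.clSub (FP R) (X ⊞ Y) = KZero.clSub (FP R) X + KZero.clSub (FP R) Y :=
  clSub_rel (FP R) _ (ShortComplex.Splitting.ofHasBinaryBiproduct X Y).shortExact hX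
    (fp_biprod hX hY) hY

/-! ### The Euler characteristic of a bounded complex of finite projective modules -/

noncomputable def eterm (E : Cx R) (i : ℤ) : KZero.K0sub (FP R) :=
  sgn i • KZero.clSub (FP R) (E.X i)

noncomputable def eul (E : Cx R) : KZero.K0sub (FP R) := ∑ᶠ i : ℤ, eterm E i

theorem eterm_eq_zero (E : Cx R) (i : ℤ) (h : IsZero (E.X i)) : eterm E i = 0 := by
  unfold eterm
  rw [clSub_zero' h, smul_zero]

theorem support_eterm_subset (E : Cx R) (a b : ℤ) (hv : VanishesOutside E a b) :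
    Function.support (eterm E) ⊆ ↑(Finset.Icc a b) := by
  intro i hi
  rw [Finset.coe_Icc, Set.mem_Icc]
  by_contra hc
  rw [not_and_or, not_le, not_le] at hc
  exact hi (eterm_eq_zero E i (hv i hc))

theorem support_eterm (E : Cx R) (a b : ℤ) (hv : VanishesOutside E a b) :
    (Function.support (eterm E)).Finite :=
  (Finset.finite_toSet _).subset (support_eterm_subset E a b hv)

theorem support_shift {M : Type*} [Zero M] (F : ℤ → M) (h : (Function.support F).Finite) :
    (Function.support (fun i => F (i + 1))).Finite := by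
  have : Function.support (fun i => F (i + 1)) =
      (fun i : ℤ => i + 1) ⁻¹' (Function.support F) := rfl
  rw [this]
  exact h.preimage (add_left_injective (1 : ℤ)).injOn

theorem eul_acyclic (E : Cx R) (a b : ℤ) (hv : VanishesOutside E a b)
    (hfp : TermwiseFiniteProjective E) (hex : ∀ i, E.ExactAt i) : eul E = 0 := by
  have hcyc : ∀ i : ℤ, FP R (E.cycles i) := fun i =>
    finite_projective_cycles E b (fun j hj => hv j (Or.inr hj)) hfp i (fun j _ => hex j)
      (b - i + 1).toNat i le_rfl (by omega)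
  have hrel : ∀ i : ℤ, KZero.clSub (FP R) (E.X i) =
      KZero.clSub (FP R) (E.cycles i) + KZero.clSub (FP R) (E.cycles (i + 1)) := by
    intro i
    have w : E.iCycles i ≫ E.toCycles i (i + 1) = 0 := PerfB.iCycles_toCycles' E i (i + 1)
    have hepi : Epi (E.toCycles i (i + 1)) :=
      epi_toCycles_of_exactAt E i (i + 1) rfl (hex (i + 1))
    have hS₁ : (ShortComplex.mk (E.iCycles i) (E.toCycles i (i + 1)) w).Exact :=
      ShortComplex.exact_of_f_is_kernel _ (KernelFork.IsLimit.ofι' _ _ (fun {T} k hk => by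
        have hkd : k ≫ E.d i (i + 1) = 0 := by
          rw [← E.toCycles_i i (i + 1), ← Category.assoc, hk, zero_comp]
        exact ⟨E.liftCycles k (i + 1) (by simp) hkd, E.liftCycles_i _ _ _ _⟩))
    have hSE := ShortComplex.ShortExact.mk' hS₁ (inferInstanceAs (Mono (E.iCycles i))) hepi
    exact clSub_rel (FP R) _ hSE (hcyc i) (hfp i) (hcyc (i + 1))
  have key : ∀ i, eterm E i = (0 : KZero.K0sub (FP R)) + 0 +
      (-(sgn (i + 1) • KZero.clSub (FP R) (E.cycles (i + 1))) -
        -(sgn i • KZero.clSub (FP R) (E.cycles i))) := by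
    intro i
    unfold eterm
    rw [hrel i, sgn_succ, smul_add, neg_smul]
    abel
  have hF : (Function.support
      (fun i => -(sgn i • KZero.clSub (FP R) (E.cycles i)))).Finite :=
    (Set.finite_Icc a b).subset (fun i hi => by
      rw [Set.mem_Icc]
      by_contra hc
      rw [not_and_or, not_le, not_le] at hc
      apply hi
      have hz : IsZero (E.cycles i) := IsZero.of_mono (E.iCycles i) (hv i hc)
      change -(sgn i • KZero.clSub (FP R) (E.cycles i)) = 0
      rw [clSub_zero' hz, smul_zero, neg_zero])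
  have h0 : (Function.support (fun _ : ℤ => (0 : KZero.K0sub (FP R)))).Finite :=
    Set.finite_empty.subset (fun i hi => (hi rfl).elim)
  have h := finsum_tele (fun _ => 0) (eterm E) (fun _ => 0)
    (fun i => -(sgn i • KZero.clSub (FP R) (E.cycles i))) h0 h0 hF key
  unfold eul
  rw [h, finsum_zero, add_zero]

theorem eul_cone {E₁ E₂ : Cx R} (φ : E₁ ⟶ E₂) (a₁ b₁ a₂ b₂ : ℤ)
    (v₁ : VanishesOutside E₁ a₁ b₁) (p₁ : TermwiseFiniteProjective E₁)
    (v₂ : VanishesOutside E₂ a₂ b₂) (p₂ : TermwiseFiniteProjective E₂) :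
    eul (CochainComplex.mappingCone φ) = eul E₂ - eul E₁ := by
  have eX : ∀ i : ℤ, (CochainComplex.mappingCone φ).X i ≅ E₁.X (i + 1) ⊞ E₂.X i := fun i =>
    HomologicalComplex.homotopyCofiber.XIsoBiprod φ i (i + 1) rfl
  obtain ⟨hv, hp⟩ := isPerfect_mappingCone φ a₁ b₁ a₂ b₂ v₁ p₁ v₂ p₂
  have h1 : ∀ i, eterm (CochainComplex.mappingCone φ) i = eterm E₂ i - eterm E₁ (i + 1) := by
    intro i
    unfold eterm
    rw [clSub_iso' (eX i) (hp i), clSub_biprod (p₁ (i + 1)) (p₂ i), sgn_succ, smul_add, neg_smul]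
    abel
  have hs₁ := support_shift _ (support_eterm E₁ a₁ b₁ v₁)
  have hshift : ∑ᶠ i : ℤ, eterm E₁ (i + 1) = ∑ᶠ i : ℤ, eterm E₁ i :=
    finsum_comp_equiv (Equiv.addRight (1 : ℤ)) (f := eterm E₁)
  unfold eul
  rw [finsum_congr h1, finsum_sub_distrib (support_eterm E₂ a₂ b₂ v₂) hs₁, hshift]

theorem isKProjective_of_fp (E : Cx R) (a b : ℤ) (v : VanishesOutside E a b)
    (p : TermwiseFiniteProjective E) : E.IsKProjective := by
  haveI : E.IsStrictlyLE b := by
    rw [CochainComplex.isStrictlyLE_iff]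
    intro i hi
    exact v i (Or.inr hi)
  haveI : ∀ n, Projective (E.X n) := fun n => (IsProjective.iff_projective _).mp (p n).2
  exact CochainComplex.isKProjective_of_projective E b

theorem eul_eq_of_iso {E₁ E₂ : Cx R} (a₁ b₁ a₂ b₂ : ℤ)
    (v₁ : VanishesOutside E₁ a₁ b₁) (p₁ : TermwiseFiniteProjective E₁)
    (v₂ : VanishesOutside E₂ a₂ b₂) (p₂ : TermwiseFiniteProjective E₂)
    (e : toD E₁ ≅ toD E₂) : eul E₁ = eul E₂ := by
  haveI := isKProjective_of_fp E₁ a₁ b₁ v₁ p₁
  obtain ⟨φ, hφ⟩ := exists_chainMap_of_isKProjective E₁ E₂ e.hom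
  have hT := DerivedCategory.mappingCone_triangle_distinguished φ
  have hiso : IsIso (Q.mapTriangle.obj (CochainComplex.mappingCone.triangle φ)).mor₁ := by
    change IsIso (Q.map φ)
    rw [hφ]
    infer_instance
  have hz : IsZero (Q.obj (CochainComplex.mappingCone φ)) :=
    (Triangle.isZero₃_iff_isIso₁ _ hT).2 hiso
  have hex : ∀ i, (CochainComplex.mappingCone φ).ExactAt i := fun i => by
    rw [HomologicalComplex.exactAt_iff_isZero_homology]
    exact IsZero.of_iso ((homologyFunctor _ i).map_isZero hz)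
      ((homologyFunctorFactors _ i).app _).symm
  obtain ⟨hv, hp⟩ := isPerfect_mappingCone φ a₁ b₁ a₂ b₂ v₁ p₁ v₂ p₂
  have h0 := eul_acyclic _ _ _ hv hp hex
  rw [eul_cone φ a₁ b₁ a₂ b₂ v₁ p₁ v₂ p₂, sub_eq_zero] at h0
  exact h0.symm

open Classical in
/-- The Euler characteristic of a perfect object, via a chosen representative. -/
noncomputable def chiP (K : Dual.D R) : KZero.K0sub (FP R) :=
  if h : IsPerfect R K then eul h.choose else 0

theorem chiP_eq (K : Dual.D R) (E : Cx R) (a b : ℤ) (hv : VanishesOutside E a b)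
    (hp : TermwiseFiniteProjective E) (e : toD E ≅ K) : chiP K = eul E := by
  have h : IsPerfect R K := ⟨E, a, b, hv, hp, ⟨e⟩⟩
  unfold chiP
  rw [dif_pos h]
  obtain ⟨a', b', hv', hp', ⟨e'⟩⟩ := h.choose_spec
  exact eul_eq_of_iso a' b' a b hv' hp' hv hp (e' ≪≫ e.symm)

theorem chiP_additive (T : Triangle (Dual.D R)) (hT : T ∈ distTriang (Dual.D R))
    (h₁ : IsPerfect R T.obj₁) (h₂ : IsPerfect R T.obj₂) :
    chiP T.obj₂ = chiP T.obj₁ + chiP T.obj₃ := by
  obtain ⟨E₁, a₁, b₁, v₁, p₁, ⟨e₁⟩⟩ := h₁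
  obtain ⟨E₂, a₂, b₂, v₂, p₂, ⟨e₂⟩⟩ := h₂
  haveI := isKProjective_of_fp E₁ a₁ b₁ v₁ p₁
  obtain ⟨φ, hφ⟩ := exists_chainMap_of_isKProjective E₁ E₂ (e₁.hom ≫ T.mor₁ ≫ e₂.inv)
  obtain ⟨e₃⟩ := nonempty_obj₃_iso_mappingCone T hT e₁.symm e₂.symm φ hφ
  obtain ⟨hv, hp⟩ := isPerfect_mappingCone φ a₁ b₁ a₂ b₂ v₁ p₁ v₂ p₂
  rw [chiP_eq T.obj₁ E₁ a₁ b₁ v₁ p₁ e₁, chiP_eq T.obj₂ E₂ a₂ b₂ v₂ p₂ e₂,
    chiP_eq T.obj₃ _ _ _ hv hp e₃.symm, eul_cone φ a₁ b₁ a₂ b₂ v₁ p₁ v₂ p₂]
  abel

noncomputable def psiP : KZero.K0tr (PP R) →+ KZero.K0sub (FP R) :=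
  QuotientAddGroup.lift (KZero.relTr (PP R))
    (FreeAbelianGroup.lift (fun K : Subtype (PP R) => chiP K.1))
    (by
      unfold KZero.relTr
      rw [AddSubgroup.closure_le]
      rintro x ⟨T, h₁, h₂, h₃, hT, rfl⟩
      rw [SetLike.mem_coe, AddMonoidHom.mem_ker, map_sub, map_sub,
        FreeAbelianGroup.lift_apply_of, FreeAbelianGroup.lift_apply_of,
        FreeAbelianGroup.lift_apply_of]
      dsimp only
      rw [chiP_additive T hT h₁ h₂]
      abel)

/-- The complex with `M` in degree `0`. -/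
noncomputable abbrev sCx (M : ModuleCat.{u} R) : Cx R :=
  (HomologicalComplex.single (ModuleCat.{u} R) (ComplexShape.up ℤ) 0).obj M

theorem sCx_vanishes (M : ModuleCat.{u} R) : VanishesOutside (sCx M) 0 0 := by
  intro i hi
  exact HomologicalComplex.isZero_single_obj_X (ComplexShape.up ℤ) 0 M i (by omega)

theorem sCx_fp {M : ModuleCat.{u} R} (hM : FP R M) : TermwiseFiniteProjective (sCx M) := by
  intro i
  by_cases hi : i = 0
  · subst hi
    exact fp_iso (HomologicalComplex.singleObjXSelf (ComplexShape.up ℤ) 0 M).symm hM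
  · exact fp_zero (HomologicalComplex.isZero_single_obj_X (ComplexShape.up ℤ) 0 M i hi)

noncomputable def sCxIso (M : ModuleCat.{u} R) :
    toD (sCx M) ≅ (singleFunctor (ModuleCat.{u} R) 0).obj M :=
  ((singleFunctorIsoCompQ (ModuleCat.{u} R) 0).app M).symm

theorem perf_single {M : ModuleCat.{u} R} (hM : FP R M) :
    IsPerfect R ((singleFunctor (ModuleCat.{u} R) 0).obj M) :=
  ⟨sCx M, 0, 0, sCx_vanishes M, sCx_fp hM, ⟨sCxIso M⟩⟩

theorem eul_sCx {M : ModuleCat.{u} R} (hM : FP R M) : eul (sCx M) = KZero.clSub (FP R) M := by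
  have h0 : ∀ i : ℤ, i ≠ 0 → eterm (sCx M) i = 0 := fun i hi =>
    eterm_eq_zero _ i (HomologicalComplex.isZero_single_obj_X (ComplexShape.up ℤ) 0 M i hi)
  unfold eul
  rw [finsum_eq_single _ 0 h0]
  unfold eterm
  rw [sgn_zero, one_smul]
  exact clSub_iso' (HomologicalComplex.singleObjXSelf (ComplexShape.up ℤ) 0 M) (sCx_fp hM 0)

noncomputable def phiP : KZero.K0sub (FP R) →+ KZero.K0tr (PP R) :=
  QuotientAddGroup.lift (KZero.relSub (FP R))
    (FreeAbelianGroup.lift (fun M : Subtype (FP R) =>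
      KZero.clTr (PP R) ((singleFunctor (ModuleCat.{u} R) 0).obj M.1)))
    (by
      unfold KZero.relSub
      rw [AddSubgroup.closure_le]
      rintro x ⟨S, h₁, h₂, h₃, hS, rfl⟩
      rw [SetLike.mem_coe, AddMonoidHom.mem_ker, map_sub, map_sub,
        FreeAbelianGroup.lift_apply_of, FreeAbelianGroup.lift_apply_of,
        FreeAbelianGroup.lift_apply_of]
      dsimp only
      have hrel : KZero.clTr (PP R) ((singleFunctor (ModuleCat.{u} R) 0).obj S.X₂) =
          KZero.clTr (PP R) ((singleFunctor (ModuleCat.{u} R) 0).obj S.X₁) +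
          KZero.clTr (PP R) ((singleFunctor (ModuleCat.{u} R) 0).obj S.X₃) :=
        clTr_rel (PP R) _ hS.singleTriangle_distinguished (perf_single h₁)
          (perf_single h₂) (perf_single h₃)
      rw [hrel]
      abel)

theorem phiP_clSub {M : ModuleCat.{u} R} (hM : FP R M) :
    phiP (KZero.clSub (FP R) M) =
      KZero.clTr (PP R) ((singleFunctor (ModuleCat.{u} R) 0).obj M) := by
  rw [clSub_eq (FP R) hM]
  unfold phiP
  rw [QuotientAddGroup.lift_mk, FreeAbelianGroup.lift_apply_of]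

theorem psiP_clTr {K : Dual.D R} (hK : IsPerfect R K) :
    psiP (KZero.clTr (PP R) K) = chiP K := by
  rw [clTr_eq (PP R) hK]
  unfold psiP
  rw [QuotientAddGroup.lift_mk, FreeAbelianGroup.lift_apply_of]

theorem psiP_phiP (x : KZero.K0sub (FP R)) : psiP (phiP x) = x := by
  obtain ⟨z, rfl⟩ := QuotientAddGroup.mk_surjective x
  induction z using FreeAbelianGroup.induction_on with
  | zero => rw [QuotientAddGroup.mk_zero, map_zero, map_zero]
  | of M =>
    have h1 : (QuotientAddGroup.mk (FreeAbelianGroup.of M) : KZero.K0sub (FP R)) =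
        KZero.clSub (FP R) M.1 := (clSub_eq (FP R) M.2).symm
    rw [h1, phiP_clSub M.2, psiP_clTr (perf_single M.2),
      chiP_eq _ (sCx M.1) 0 0 (sCx_vanishes M.1) (sCx_fp M.2) (sCxIso M.1), eul_sCx M.2]
  | neg M ih => rw [QuotientAddGroup.mk_neg, map_neg, map_neg, ih]
  | add x y hx hy => rw [QuotientAddGroup.mk_add, map_add, map_add, hx, hy]

theorem perf_zero : IsPerfect R (0 : Dual.D R) := isPerfect_of_isZero (isZero_zero _)

theorem shift_memP (E : Dual.D R) (hE : IsPerfect R E)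
    (G : AddSubgroup (KZero.K0tr (PP R))) (hG : KZero.clTr (PP R) E ∈ G) (k : ℤ) :
    KZero.clTr (PP R) (E⟦k⟧) ∈ G := by
  have h0 : PP R (0 : Dual.D R) := perf_zero
  induction k using Int.induction_on with
  | zero =>
    have e1 : KZero.clTr (PP R) (E⟦(0 : ℤ)⟧) = KZero.clTr (PP R) E :=
      clTr_iso (PP R) ((shiftFunctorZero (Dual.D R) ℤ).app E) (isPerfect_shift hE 0) hE h0
    rw [e1]
    exact hG
  | succ k ih =>
    have hk : PP R (E⟦(k : ℤ)⟧) := isPerfect_shift hE (k : ℤ)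
    have hk1 : PP R ((E⟦(k : ℤ)⟧)⟦(1 : ℤ)⟧) := isPerfect_shift hk 1
    have e1 : KZero.clTr (PP R) (E⟦(k : ℤ) + 1⟧) =
        KZero.clTr (PP R) ((E⟦(k : ℤ)⟧)⟦(1 : ℤ)⟧) :=
      clTr_iso (PP R)
        ((shiftFunctorAdd' (Dual.D R) (k : ℤ) 1 ((k : ℤ) + 1) rfl).app E)
        (isPerfect_shift hE _) hk1 h0
    rw [e1, clTr_shift_one (PP R) _ hk hk1 h0]
    exact G.neg_mem ih
  | pred k ih =>
    have hk : PP R (E⟦-(k : ℤ) - 1⟧) := isPerfect_shift hE _
    have hk1 : PP R ((E⟦-(k : ℤ) - 1⟧)⟦(1 : ℤ)⟧) := isPerfect_shift hk 1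
    have e1 : KZero.clTr (PP R) (E⟦-(k : ℤ)⟧) =
        KZero.clTr (PP R) ((E⟦-(k : ℤ) - 1⟧)⟦(1 : ℤ)⟧) :=
      clTr_iso (PP R)
        ((shiftFunctorAdd' (Dual.D R) (-(k : ℤ) - 1) 1 (-(k : ℤ)) (by ring)).app E)
        (isPerfect_shift hE _) hk1 h0
    rw [clTr_shift_one (PP R) _ hk hk1 h0] at e1
    have e2 : KZero.clTr (PP R) (E⟦-(k : ℤ) - 1⟧) = - KZero.clTr (PP R) (E⟦-(k : ℤ)⟧) := by
      rw [e1, neg_neg]
    rw [e2]
    exact G.neg_mem ih

/-- The property used in the induction on stupid truncations. -/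
def P0 : ObjectProperty (Dual.D R) := fun K =>
  IsPerfect R K ∧ KZero.clTr (PP R) K ∈ (phiP (R := R)).range

instance : (P0 (R := R)).IsClosedUnderIsomorphisms where
  of_iso e h := by
    have hY := isPerfect_of_iso e h.1
    refine ⟨hY, ?_⟩
    rw [← clTr_iso (PP R) e h.1 hY perf_zero]
    exact h.2

theorem mem_range_of_perfect (K : Dual.D R) (hK : IsPerfect R K) :
    KZero.clTr (PP R) K ∈ (phiP (R := R)).range := by
  obtain ⟨E, a, b, hv, hp, ⟨e⟩⟩ := hK
  have hzero : ∀ Z : Dual.D R, IsZero Z → P0 Z := by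
    intro Z hZ
    have hZp := isPerfect_of_isZero (R := R) hZ
    refine ⟨hZp, ?_⟩
    rw [clTr_iso (PP R) (hZ.iso (isZero_zero _)) hZp perf_zero perf_zero,
      clTr_zero (PP R) perf_zero]
    exact zero_mem _
  have hext : ∀ T : Triangle (Dual.D R), T ∈ distTriang _ → P0 T.obj₁ → P0 T.obj₃ →
      P0 T.obj₂ := by
    intro T hT h₁ h₃
    have h₂ := isPerfect_obj₂ T hT h₁.1 h₃.1
    refine ⟨h₂, ?_⟩
    rw [clTr_rel (PP R) T hT h₁.1 h₂ h₃.1]
    exact add_mem h₁.2 h₃.2
  have hterm : ∀ i, P0 ((singleFunctor (ModuleCat.{u} R) i).obj (E.X i)) := by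
    intro i
    have hs := perf_single (hp i)
    have hsi := isPerfect_single (E.X i) i hs
    refine ⟨hsi, ?_⟩
    have e' : ((singleFunctor (ModuleCat.{u} R) 0).obj (E.X i))⟦-i⟧ ≅
        (singleFunctor (ModuleCat.{u} R) i).obj (E.X i) :=
      ((singleFunctors (ModuleCat.{u} R)).shiftIso (-i) i 0 (by omega)).app (E.X i)
    rw [← clTr_iso (PP R) e' (isPerfect_shift hs (-i)) hsi perf_zero]
    exact shift_memP _ hs _
      (AddMonoidHom.mem_range.2 ⟨KZero.clSub (FP R) (E.X i), phiP_clSub (hp i)⟩) (-i)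
  have hQ : P0 (Q.obj E) :=
    prop_Q_obj_of_bounded P0 hzero hext (b - a + 1).toNat E a b (by omega) hv hterm
  have hKp : IsPerfect R K := ⟨E, a, b, hv, hp, ⟨e⟩⟩
  rw [← clTr_iso (PP R) e hQ.1 hKp perf_zero]
  exact hQ.2

theorem main (R : Type u) [CommRing R] :
    ∃ φ : KZero.K0sub (FP R) ≃+ KZero.K0tr (PP R),
      (∀ (M : Type u) [AddCommGroup M] [Module R M], Module.Finite R M → Module.Projective R M →
        φ (KZero.clSub (FP R) (ModuleCat.of R M)) = KZero.clTr (PP R) (Dual.inD R M)) ∧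
      ∀ (E : Cx R) (a b : ℤ), VanishesOutside E a b → TermwiseFiniteProjective E →
        φ.symm (KZero.clTr (PP R) (toD E)) =
          (Finset.Icc a b).sum (fun i => (i.negOnePow : ℤ) • KZero.clSub (FP R) (E.X i)) := by
  have hinj : Function.Injective (phiP (R := R)) :=
    Function.LeftInverse.injective psiP_phiP
  have hsurj : Function.Surjective (phiP (R := R)) := by
    intro y
    obtain ⟨z, rfl⟩ := QuotientAddGroup.mk_surjective y
    induction z using FreeAbelianGroup.induction_on with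
    | zero => exact ⟨0, by rw [map_zero, QuotientAddGroup.mk_zero]⟩
    | of K =>
      have hm := mem_range_of_perfect K.1 K.2
      rw [clTr_eq (PP R) K.2] at hm
      exact AddMonoidHom.mem_range.1 hm
    | neg K ih =>
      obtain ⟨x, hx⟩ := ih
      exact ⟨-x, by rw [map_neg, hx, QuotientAddGroup.mk_neg]⟩
    | add x y hx hy =>
      obtain ⟨x', hx'⟩ := hx
      obtain ⟨y', hy'⟩ := hy
      exact ⟨x' + y', by rw [map_add, hx', hy', QuotientAddGroup.mk_add]⟩
  refine ⟨AddEquiv.ofBijective phiP ⟨hinj, hsurj⟩, ?_, ?_⟩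
  · intro M _ _ hfin hproj
    exact phiP_clSub (M := ModuleCat.of R M) ⟨hfin, hproj⟩
  · intro E a b hv hp
    have hK : IsPerfect R (toD E) := ⟨E, a, b, hv, hp, ⟨Iso.refl _⟩⟩
    have h1 : psiP (phiP ((AddEquiv.ofBijective phiP ⟨hinj, hsurj⟩).symm
        (KZero.clTr (PP R) (toD E)))) =
        (AddEquiv.ofBijective phiP ⟨hinj, hsurj⟩).symm (KZero.clTr (PP R) (toD E)) :=
      psiP_phiP _
    have h2 : phiP ((AddEquiv.ofBijective (phiP (R := R)) ⟨hinj, hsurj⟩).symm
        (KZero.clTr (PP R) (toD E))) = KZero.clTr (PP R) (toD E) :=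
      (AddEquiv.ofBijective phiP ⟨hinj, hsurj⟩).apply_symm_apply _
    rw [h2, psiP_clTr hK, chiP_eq _ E a b hv hp (Iso.refl _)] at h1
    rw [← h1]
    unfold eul
    rw [finsum_eq_finsetSum_of_support_subset _ (support_eterm_subset E a b hv)]
    rfl

end Groth.Agent.H28.K0Perf
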