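import Groth.Prelude.Def_KZero2
import Mathlib.CategoryTheory.Triangulated.Pretriangulated
import Mathlib.CategoryTheory.Adjunction.Limits
import Mathlib.Tactic.Ring
import Mathlib.Tactic.Abel

set_option autoImplicit false
universe v u
open CategoryTheory CategoryTheory.Limits CategoryTheory.Pretriangulated
open ZeroObject

namespace Groth.Agent.H28

variable {C : Type u} [Category.{v} C] [Preadditive C] [HasZeroObject C]
    [HasShift C ℤ] [∀ n : ℤ, (shiftFunctor C n).Additive] [Pretriangulated C]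

theorem clTri_rel (T : Triangle C) (hT : T ∈ distinguishedTriangles) :
    KZero.clTri T.obj₂ = KZero.clTri T.obj₁ + KZero.clTri T.obj₃ := by
  have hmem : FreeAbelianGroup.of (⟨T.obj₂, trivial⟩ : Subtype (⊤ : ObjectProperty C)) -
      FreeAbelianGroup.of ⟨T.obj₁, trivial⟩ - FreeAbelianGroup.of ⟨T.obj₃, trivial⟩ ∈
      KZero.relTr (⊤ : ObjectProperty C) :=
    AddSubgroup.subset_closure ⟨T, trivial, trivial, trivial, hT, rfl⟩
  have h0 := (QuotientAddGroup.eq_zero_iff _).2 hmem
  rw [QuotientAddGroup.mk_sub, QuotientAddGroup.mk_sub] at h0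
  unfold KZero.clTri
  rw [sub_sub, sub_eq_zero] at h0
  exact h0

theorem clTri_zero : KZero.clTri (0 : C) = 0 := by
  have h := clTri_rel _ (contractible_distinguished (0 : C))
  simpa using h

theorem clTri_of_iso {X Y : C} (e : X ≅ Y) : KZero.clTri X = KZero.clTri Y := by
  have hT : Triangle.mk e.hom (0 : Y ⟶ 0) 0 ∈ distTriang C := by
    rw [Triangle.distinguished_iff_of_isZero₃ _ (isZero_zero C)]
    change IsIso e.hom
    infer_instance
  have h := clTri_rel _ hT
  change KZero.clTri Y = KZero.clTri X + KZero.clTri (0 : C) at h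
  rw [clTri_zero, add_zero] at h
  exact h.symm

theorem clTri_shift_one (X : C) : KZero.clTri (X⟦(1 : ℤ)⟧) = - KZero.clTri X := by
  have h := clTri_rel _ (contractible_distinguished₂ X)
  change KZero.clTri (0 : C) = KZero.clTri X + KZero.clTri (X⟦(1 : ℤ)⟧) at h
  rw [clTri_zero] at h
  exact (neg_eq_of_add_eq_zero_right h.symm).symm

theorem clTri_biprod (X Y : C) : KZero.clTri (X ⊞ Y) = KZero.clTri X + KZero.clTri Y := by
  have h := clTri_rel _ (binaryBiproductTriangle_distinguished X Y)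
  simpa using h

theorem clTri_shift_sign (k : ℤ) :
    ∃ ε : ℤ, ε * ε = 1 ∧ ∀ X : C, KZero.clTri (X⟦k⟧) = ε • KZero.clTri X := by
  induction k using Int.induction_on with
  | zero =>
    refine ⟨1, by simp, fun X => ?_⟩
    rw [one_smul]
    exact clTri_of_iso ((shiftFunctorZero C ℤ).app X)
  | succ k ih =>
    obtain ⟨ε, hε, h⟩ := ih
    refine ⟨-ε, by simp [hε], fun X => ?_⟩
    rw [clTri_of_iso ((shiftFunctorAdd' C (k : ℤ) 1 ((k : ℤ) + 1) rfl).app X)]
    dsimp
    rw [clTri_shift_one, h, neg_smul]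
  | pred k ih =>
    obtain ⟨ε, hε, h⟩ := ih
    refine ⟨-ε, by simp [hε], fun X => ?_⟩
    have e := clTri_of_iso ((shiftFunctorAdd' C (-(k : ℤ) - 1) 1 (-(k : ℤ)) (by ring)).app X)
    dsimp at e
    rw [clTri_shift_one, h] at e
    rw [neg_smul, e, neg_neg]

theorem clTri_shift_double (k : ℤ) (X : C) : KZero.clTri (X⟦2 * k⟧) = KZero.clTri X := by
  obtain ⟨ε, hε, h⟩ := clTri_shift_sign (C := C) k
  rw [clTri_of_iso ((shiftFunctorAdd' C k k (2 * k) (by ring)).app X)]
  dsimp
  rw [h, h, smul_smul, hε, one_smul]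

end Groth.Agent.H28
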