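import Groth.Agent.H8.LocFree
import Groth.Agent.H8.LocFreeSections
import Groth.Agent.H8.LocFreeNearFinite
import Groth.Agent.H22.QCohH1
import Groth.Agent.H22.QCohLimits
import Groth.Agent.H22.QCohAbelian
import Groth.Agent.H90.SPerf

/-!
# Kernels of epimorphisms of finite locally free modules; cycles of complexes with finite locally free
cohomology (helper28 library)
-/

set_option autoImplicit false
set_option maxHeartbeats 400000
universe u
open CategoryTheory CategoryTheory.Limits AlgebraicGeometry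

namespace Groth.Agent.H28.LFC

variable {Z : Scheme.{u}}

/-- The kernel in a short exact sequence of finite locally free modules is finite locally free. -/
theorem isFinLocFree_of_shortExact (S : ShortComplex Z.Modules) (hS : S.ShortExact)
    (h₂ : FlatMod.IsFinLocFree S.X₂) (h₃ : FlatMod.IsFinLocFree S.X₃) :
    FlatMod.IsFinLocFree S.X₁ := by
  haveI q2 : S.X₂.IsQuasicoherent := Groth.Agent.H8.isQuasicoherent_of_isFinLocFree _ h₂
  haveI q3 : S.X₃.IsQuasicoherent := Groth.Agent.H8.isQuasicoherent_of_isFinLocFree _ h₃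
  haveI := hS.mono_f
  haveI := hS.epi_g
  have e1 : kernel S.g ≅ S.X₁ :=
    IsLimit.conePointUniqueUpToIso (limit.isLimit _) hS.exact.fIsKernel
  haveI qk : (kernel S.g).IsQuasicoherent := Groth.Agent.H22.QCohLimits.isQuasicoherent_kernel S.g
  haveI q1 : S.X₁.IsQuasicoherent := Groth.Agent.H22.QCohLimits.isQuasicoherent_of_iso e1
  refine Groth.Agent.H8.isFinLocFree_of_projective_sections S.X₁ (fun x => ?_)
  obtain ⟨W, hW, hxW, -⟩ :=
    exists_isAffineOpen_mem_and_subset (x := x) (U := (⊤ : Z.Opens)) trivial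
  refine ⟨W, hW, hxW, ?_⟩
  obtain ⟨fp2, pr2⟩ :=
    Groth.Agent.H8.finitePresentation_projective_sections_of_isFinLocFree S.X₂ h₂ hW
  obtain ⟨fp3, pr3⟩ :=
    Groth.Agent.H8.finitePresentation_projective_sections_of_isFinLocFree S.X₃ h₃ hW
  have hsurj : Function.Surjective (Groth.Agent.H8.appₗ S.g W) :=
    Groth.Agent.H22.QCohH1.app_surjective S hS hW
  have hinj : Function.Injective (Groth.Agent.H8.appₗ S.f W) :=
    Groth.Agent.H8.appₗ_injective_of_mono S.f W
  have hex : Function.Exact (Groth.Agent.H8.appₗ S.f W) (Groth.Agent.H8.appₗ S.g W) :=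
    Groth.Agent.H8.appₗ_exact S hS.exact W
  obtain ⟨s, hs⟩ := Module.projective_lifting_property (Groth.Agent.H8.appₗ S.g W)
    LinearMap.id hsurj
  obtain ⟨e, he1, -⟩ := (hex.splitSurjectiveEquiv hinj) ⟨s, hs⟩
  have hr : (LinearMap.fst _ _ _ ∘ₗ e.toLinearMap) ∘ₗ Groth.Agent.H8.appₗ S.f W =
      LinearMap.id := by
    rw [LinearMap.comp_assoc, he1]
    ext y
    simp
  haveI : Module.Finite Γ(Z, W) Γ(S.X₂, W) := inferInstance
  constructor
  · refine Module.Finite.of_surjective (LinearMap.fst _ _ _ ∘ₗ e.toLinearMap) ?_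
    intro y
    exact ⟨Groth.Agent.H8.appₗ S.f W y, LinearMap.congr_fun hr y⟩
  · exact Module.Projective.of_split _ _ hr

/-- If the higher cycles and the higher cohomology are finite locally free, so are the cycles one
step below. -/
theorem isFinLocFree_cycles_step (P : CochainComplex Z.Modules ℤ) (k : ℤ)
    (hX : FlatMod.IsFinLocFree (P.X k)) (hZ : FlatMod.IsFinLocFree (P.cycles (k + 1)))
    (hH : FlatMod.IsFinLocFree (P.homology (k + 1))) : FlatMod.IsFinLocFree (P.cycles k) := by
  let π := P.homologyπ (k + 1)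
  haveI : Epi π := inferInstanceAs (Epi (P.homologyπ (k + 1)))
  -- first sequence: 0 → B → Z^{k+1} → H^{k+1} → 0
  let S₁ : ShortComplex Z.Modules := ShortComplex.mk (kernel.ι π) π (kernel.condition π)
  have hS₁ : S₁.ShortExact :=
    { exact := ShortComplex.exact_of_f_is_kernel S₁ (kernelIsKernel π)
      mono_f := inferInstanceAs (Mono (kernel.ι π))
      epi_g := inferInstanceAs (Epi π) }
  have hB : FlatMod.IsFinLocFree (kernel π) := isFinLocFree_of_shortExact S₁ hS₁ hZ hH
  -- the map X^k → B
  let T : ShortComplex Z.Modules :=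
    ShortComplex.mk (P.toCycles k (k + 1)) π (P.toCycles_comp_homologyπ k (k + 1))
  have hT : T.Exact :=
    ShortComplex.exact_of_g_is_cokernel T (P.homologyIsCokernel k (k + 1) (by simp))
  let l : P.X k ⟶ kernel π := kernel.lift π (P.toCycles k (k + 1)) (P.toCycles_comp_homologyπ k (k + 1))
  haveI hl : Epi l := T.exact_iff_epi_kernel_lift.1 hT
  have hfac : l ≫ kernel.ι π ≫ P.iCycles (k + 1) = P.d k (k + 1) := by
    rw [kernel.lift_ι_assoc, P.toCycles_i]
  have w : P.iCycles k ≫ l = 0 := by
    rw [← cancel_mono (kernel.ι π ≫ P.iCycles (k + 1)), Category.assoc, hfac, P.iCycles_d, zero_comp]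
  -- second sequence: 0 → Z^k → X^k → B → 0
  let S₂ : ShortComplex Z.Modules := ShortComplex.mk (P.iCycles k) l w
  have hker : IsLimit (KernelFork.ofι (P.iCycles k) w) :=
    isKernelOfComp (f := l) (kernel.ι π ≫ P.iCycles (k + 1)) (P.d k (k + 1))
      (P.cyclesIsKernel k (k + 1) (by simp)) w hfac
  have hS₂ : S₂.ShortExact :=
    { exact := ShortComplex.exact_of_f_is_kernel S₂ hker
      mono_f := inferInstanceAs (Mono (P.iCycles k))
      epi_g := hl }
  exact isFinLocFree_of_shortExact S₂ hS₂ hX hB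

/-- Cycles of a bounded above complex of finite locally free modules with finite locally free
cohomology above degree `j`. -/
theorem isFinLocFree_cycles (P : CochainComplex Z.Modules ℤ) (b j : ℤ)
    (hX : ∀ n, FlatMod.IsFinLocFree (P.X n)) (hb : ∀ n, b < n → IsZero (P.X n))
    (hH : ∀ k, j < k → FlatMod.IsFinLocFree (P.homology k)) :
    ∀ (d : ℕ) (k : ℤ), j ≤ k → b ≤ k + d → FlatMod.IsFinLocFree (P.cycles k) := by
  intro d
  induction d with
  | zero =>
    intro k _ hbk
    have h0 : P.d k (k + 1) = 0 := (hb (k + 1) (by omega)).eq_of_tgt _ _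
    have := P.isIso_iCycles k (k + 1) (by simp) h0
    exact Groth.Agent.H8.isFinLocFree_of_iso (asIso (P.iCycles k)).symm (hX k)
  | succ d ih =>
    intro k hjk hbk
    exact isFinLocFree_cycles_step P k (hX k)
      (ih (k + 1) (by omega) (by push_cast at hbk ⊢; omega)) (hH (k + 1) (by omega))

end Groth.Agent.H28.LFC
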