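import Groth.Agent.H28.BettiPC
import Groth.Agent.H90.QCohHom
import Groth.Agent.H90.MQI

/-!
# The open locus where a perfect object is a free module of rank `r` in degree `i` (part 1)

* `GoodAt E i r x`, `locus E i r`.
* `LpullSingleFreeIso`, `restrictDSingleFreeIso`.
* `exists_iso_of_forall_goodAt` : if `f` maps into the locus then `Lf^* E ≅ V[-i]` with `V` finite
  locally free of rank `r`.
-/

set_option maxHeartbeats 400000
set_option autoImplicit false
universe u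
open CategoryTheory CategoryTheory.Limits AlgebraicGeometry TopologicalSpace Opposite
attribute [local instance] HasDerivedCategory.standard

namespace Groth.Agent.H28.OpenLocus

open Groth.Agent.H28.LpullLoc Groth.Agent.H31.Stalk Groth.Agent.H90.SPerf

variable {X : Scheme.{u}}

/-- The module `O^r` in degree `i`, as an object of the derived category. -/
noncomputable abbrev sFree (Z : Scheme.{u}) (i : ℤ) (r : ℕ) : DCoh.D Z :=
  (DerivedCategory.singleFunctor Z.Modules i).obj (FlatMod.freeMod Z r)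

/-- Near `x`, `E` is isomorphic to `O^r[-i]`. -/
def GoodAt (E : DCoh.D X) (i : ℤ) (r : ℕ) (x : X) : Prop :=
  ∃ W : X.Opens, x ∈ W ∧ Nonempty ((DCoh.restrictD W.ι).obj E ≅ sFree (W : Scheme.{u}) i r)

theorem isOpen_goodAt (E : DCoh.D X) (i : ℤ) (r : ℕ) : IsOpen {x : X | GoodAt E i r x} := by
  rw [isOpen_iff_forall_mem_open]
  rintro x ⟨W, hxW, hW⟩
  exact ⟨W, fun y hy => ⟨W, hy, hW⟩, W.2, hxW⟩

/-- The open locus. -/
def locus (E : DCoh.D X) (i : ℤ) (r : ℕ) : X.Opens := ⟨{x : X | GoodAt E i r x}, isOpen_goodAt E i r⟩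

theorem isStrictlyPerfect_single {Z : Scheme.{u}} (M : Z.Modules) (hM : FlatMod.IsFinLocFree M)
    (i : ℤ) :
    DCoh.IsStrictlyPerfect ((HomologicalComplex.single Z.Modules (ComplexShape.up ℤ) i).obj M) := by
  refine ⟨⟨i, i, fun n hn => ?_⟩, fun n => ?_⟩
  · exact HomologicalComplex.isZero_single_obj_X _ _ _ _ (by omega)
  · by_cases hn : n = i
    · subst hn
      exact Groth.Agent.H8.isFinLocFree_of_iso
        (HomologicalComplex.singleObjXSelf (ComplexShape.up ℤ) n M).symm hM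
    · exact isFinLocFree_of_isZero (HomologicalComplex.isZero_single_obj_X _ _ _ _ hn)

theorem isFinLocFree_freeMod (Z : Scheme.{u}) (k : ℕ) : FlatMod.IsFinLocFree (FlatMod.freeMod Z k) :=
  fun _ => ⟨⊤, k, trivial, ⟨Groth.Agent.H8.restrictFreeIso _ k⟩⟩

/-- `Lh^* (O^r[-i]) ≅ O^r[-i]`. -/
theorem LpullSingleFreeIso {Z' Z : Scheme.{u}} (h : Z' ⟶ Z) [DCoh.HasLpull h] (i : ℤ) (r : ℕ) :
    Nonempty ((DCoh.Lpull h).obj (sFree Z i r) ≅ sFree Z' i r) := by
  let S := (HomologicalComplex.single Z.Modules (ComplexShape.up ℤ) i).obj (FlatMod.freeMod Z r)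
  have hS : DCoh.IsKFlat S :=
    isKFlat_of_isStrictlyPerfect (isStrictlyPerfect_single _ (isFinLocFree_freeMod Z r) i)
  exact ⟨(DCoh.Lpull h).mapIso ((DerivedCategory.singleFunctorIsoCompQ Z.Modules i).app _) ≪≫
    LpullObjIso h S hS ≪≫
    DerivedCategory.Q.mapIso ((HomologicalComplex.singleMapHomologicalComplex
      (Scheme.Modules.pullback h) (ComplexShape.up ℤ) i).app (FlatMod.freeMod Z r)) ≪≫
    ((DerivedCategory.singleFunctorIsoCompQ Z'.Modules i).app _).symm ≪≫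
    (DerivedCategory.singleFunctor Z'.Modules i).mapIso (pullbackFreeModIso h r)⟩

/-- `(O^r[-i])|_{Z'} ≅ O^r[-i]`. -/
noncomputable def restrictDSingleFreeIso {Z' Z : Scheme.{u}} (j : Z' ⟶ Z) [IsOpenImmersion j]
    (i : ℤ) (r : ℕ) : (DCoh.restrictD j).obj (sFree Z i r) ≅ sFree Z' i r :=
  ((Scheme.Modules.restrictFunctor j).mapDerivedCategorySingleFunctor i).app _ ≪≫
    (DerivedCategory.singleFunctor Z'.Modules i).mapIso (Groth.Agent.H8.restrictFreeIso j r)

/-- Cohomology of `O^r[-i]` off degree `i`. -/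
theorem isZero_HD_sFree (Z : Scheme.{u}) (i : ℤ) (r : ℕ) (k : ℤ) (hk : k ≠ i) :
    IsZero (DCoh.HD (sFree Z i r) k) := by
  rcases lt_or_gt_of_ne hk with h | h
  · exact (sFree Z i r).isZero_of_isGE i k h
  · exact (sFree Z i r).isZero_of_isLE i k h

/-- Cohomology of `O^r[-i]` in degree `i`. -/
noncomputable def HDsFreeIso (Z : Scheme.{u}) (i : ℤ) (r : ℕ) :
    DCoh.HD (sFree Z i r) i ≅ FlatMod.freeMod Z r :=
  (DerivedCategory.singleFunctorCompHomologyFunctorIso Z.Modules i).app _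

/-- Cohomology sheaves commute with restriction to opens. -/
noncomputable def HDrestrictIso {Z : Scheme.{u}} (V : Z.Opens) (K : DCoh.D Z) (k : ℤ) :
    DCoh.HD ((DCoh.restrictD V.ι).obj K) k ≅ (DCoh.HD K k).restrict V.ι :=
  (homologyCommIso (Scheme.Modules.restrictFunctor V.ι) k).app K

theorem exists_iso_of_forall_goodAt (E : DCoh.D X) (i : ℤ) (r : ℕ) {Y : Scheme.{u}} (f : Y ⟶ X)
    [DCoh.HasLpull f] (h : ∀ y : Y, GoodAt E i r (f.base y)) :
    ∃ V : Y.Modules, FlatMod.IsFinLocFreeOfRank r V ∧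
      Nonempty ((DCoh.Lpull f).obj E ≅ (DCoh.inD Y V)⟦-i⟧) := by
  set K := (DCoh.Lpull f).obj E with hK
  obtain ⟨F, hF, ⟨eF⟩⟩ := exists_kflat_rep E
  let G := DerivedCategory.Q.objPreimage K
  let eG : DerivedCategory.Q.obj G ≅ K := DerivedCategory.Q.objObjPreimageIso K
  have key : ∀ y : Y, ∃ V' : Y.Opens, y ∈ V' ∧
      Nonempty ((DCoh.restrictD V'.ι).obj K ≅ sFree (V' : Scheme.{u}) i r) := by
    intro y
    obtain ⟨W, hxW, ⟨eW⟩⟩ := h y
    haveI : DCoh.HasLpull (f ∣_ W) := hasLpull (f ∣_ W)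
    obtain ⟨eS⟩ := LpullSingleFreeIso (f ∣_ W) i r
    refine ⟨f ⁻¹ᵁ W, hxW, ⟨restrictDObjIso (f ⁻¹ᵁ W).ι eG ≪≫
      restrictLpullIso f W F hF G (eG ≪≫ (DCoh.Lpull f).mapIso eF.symm) ≪≫
      (DCoh.Lpull (f ∣_ W)).mapIso ((restrictDObjIso W.ι eF).symm ≪≫ eW) ≪≫ eS⟩⟩
  have hz : ∀ k : ℤ, k ≠ i → IsZero (DCoh.HD K k) := by
    intro k hk
    refine Groth.Agent.H90.QH.isZero_of_locally _ (fun y => ?_)
    obtain ⟨V', hyV', ⟨e⟩⟩ := key y
    refine ⟨V', hyV', ?_⟩
    exact IsZero.of_iso (isZero_HD_sFree _ i r k hk)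
      ((HDrestrictIso V' K k).symm ≪≫ (DerivedCategory.homologyFunctor _ k).mapIso e)
  haveI hGE : K.IsGE i := by
    rw [DerivedCategory.isGE_iff]
    intro k hk
    exact hz k (by omega)
  haveI hLE : K.IsLE i := by
    rw [DerivedCategory.isLE_iff]
    intro k hk
    exact hz k (by omega)
  obtain ⟨M, ⟨e⟩⟩ := DerivedCategory.exists_iso_singleFunctor_obj_of_isGE_of_isLE K i
  have eM : DCoh.HD K i ≅ M := (DerivedCategory.homologyFunctor _ i).mapIso e ≪≫
    (DerivedCategory.singleFunctorCompHomologyFunctorIso Y.Modules i).app M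
  refine ⟨M, fun y => ?_, ⟨e ≪≫
    (((DerivedCategory.singleFunctors Y.Modules).shiftIso (-i) i 0 (by lia)).app M).symm⟩⟩
  obtain ⟨V', hyV', ⟨e'⟩⟩ := key y
  exact ⟨V', hyV', ⟨(Scheme.Modules.restrictFunctor V'.ι).mapIso eM.symm ≪≫
    (HDrestrictIso V' K i).symm ≪≫ (DerivedCategory.homologyFunctor _ i).mapIso e' ≪≫
    HDsFreeIso _ i r⟩⟩

end Groth.Agent.H28.OpenLocus
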