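import Groth.Agent.H28.OpenLocus1

/-!
# The open locus where a perfect object is a free module of rank `r` in degree `i` (part 2)

Betti numbers at residue-field points of another scheme, and pullback of a "good" object to a point.
-/

set_option maxHeartbeats 400000
set_option autoImplicit false
universe u
open CategoryTheory CategoryTheory.Limits AlgebraicGeometry TopologicalSpace Opposite
attribute [local instance] HasDerivedCategory.standard

namespace Groth.Agent.H28.OpenLocus

open Groth.Agent.H28.LpullLoc Groth.Agent.H31.Stalk Groth.Agent.H90.SPerf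
  Groth.Agent.H28.GammaPt Groth.Agent.H28.PerfEuler Groth.Agent.H28.TildeCx Groth.Agent.H28.RankSC
  Groth.Agent.H28.BettiPC

variable {X : Scheme.{u}}

/-- Pullback of an object which is `O^n[-i]` over `W` along a morphism landing in `W`. -/
theorem Lpull_of_good {Z₀ : Scheme.{u}} (E : DCoh.D X) (i : ℤ) (n : ℕ) (W : X.Opens)
    (eW : (DCoh.restrictD W.ι).obj E ≅ sFree (W : Scheme.{u}) i n)
    (s : Z₀ ⟶ X) [DCoh.HasLpull s] (h : Z₀ ⟶ (W : Scheme.{u})) (hs : h ≫ W.ι = s) :
    Nonempty ((DCoh.Lpull s).obj E ≅ sFree Z₀ i n) := by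
  obtain ⟨F, hF, ⟨eF⟩⟩ := exists_kflat_rep E
  haveI : DCoh.HasLpull h := hasLpull h
  obtain ⟨eS⟩ := LpullSingleFreeIso h i n
  exact ⟨LpullRestrictIso W h s hs E F hF eF ≪≫
    (DCoh.Lpull h).mapIso ((restrictDObjIso W.ι eF).symm ≪≫ eW) ≪≫ eS⟩

/-- The `k`-th Betti number of `E` at a point `t : Z₀ ⟶ X`. -/
noncomputable def bettiAt {Z₀ : Scheme.{u}} (t : Z₀ ⟶ X) [DCoh.HasLpull t] (E : DCoh.D X)
    (k : ℤ) : ℕ :=
  Module.finrank (Coh.Γtop Z₀) ((Γf Z₀).obj (DCoh.HD ((DCoh.Lpull t).obj E) k))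

theorem bettiAt_congr {Z₀ : Scheme.{u}} (t : Z₀ ⟶ X) [DCoh.HasLpull t] (E : DCoh.D X)
    (D : DCoh.D Z₀) (e : (DCoh.Lpull t).obj E ≅ D) (k : ℤ) :
    bettiAt t E k = Module.finrank (Coh.Γtop Z₀) ((Γf Z₀).obj (DCoh.HD D k)) :=
  ((Γf Z₀).mapIso ((DerivedCategory.homologyFunctor _ k).mapIso e)).toLinearEquiv.finrank_eq

theorem bettiAt_eq_of_mqi {Y : Scheme.{u}} (y : Y) (t : Spec (Y.residueField y) ⟶ X)
    [DCoh.HasLpull t] (E : DCoh.D X) (W : X.Opens)
    (F : CochainComplex X.Modules ℤ) (hF : DCoh.IsKFlat F) (eF : DCoh.toD X F ≅ E)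
    (P : CochainComplex (W : Scheme.{u}).Modules ℤ) (hP : DCoh.IsKFlat P) (k : ℤ)
    (α : DerivedCategory.Q.obj P ⟶ DerivedCategory.Q.obj ((DCoh.restrictCx W).obj F))
    (hα : LpullLoc.MQI (k - 1) α)
    (h : Spec (Y.residueField y) ⟶ (W : Scheme.{u})) (hg : h ≫ W.ι = t) :
    bettiAt t E k = Module.finrank (Coh.Γtop (Spec (Y.residueField y)))
      ((((Γf (Spec (Y.residueField y))).mapHomologicalComplex (ComplexShape.up ℤ)).obj
        (((Scheme.Modules.pullback h).mapHomologicalComplex (ComplexShape.up ℤ)).obj P)).homology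
          k) := by
  haveI : DCoh.HasLpull h := hasLpull h
  let e := LpullRestrictIso W h t hg E F hF eF
  let C := ((Scheme.Modules.pullback h).mapHomologicalComplex (ComplexShape.up ℤ)).obj P
  have hm := mqi_Lpull h hP (isKFlat_restrictCx W F hF) α (k - 1) hα
  haveI : IsIso ((DerivedCategory.homologyFunctor _ k).map ((DCoh.Lpull h).map α)) :=
    hm.1 k (by omega)
  let e1 : DCoh.HD ((DCoh.Lpull t).obj E) k ≅ C.homology k :=
    (DerivedCategory.homologyFunctor _ k).mapIso e ≪≫
      (asIso ((DerivedCategory.homologyFunctor _ k).map ((DCoh.Lpull h).map α))).symm ≪≫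
      (DerivedCategory.homologyFunctor _ k).mapIso (LpullObjIso h P hP) ≪≫
      (DerivedCategory.homologyFunctorFactors _ k).app C
  let e2 := (Γf (Spec (Y.residueField y))).mapIso e1 ≪≫ (ΓfHomologyIso C k).symm
  exact e2.toLinearEquiv.finrank_eq

theorem bettiAt_eq_dRank {Y : Scheme.{u}} (y : Y) (t : Spec (Y.residueField y) ⟶ X)
    [DCoh.HasLpull t] (E : DCoh.D X) (V : X.Opens)
    (F : CochainComplex X.Modules ℤ) (hF : DCoh.IsKFlat F) (eF : DCoh.toD X F ≅ E)
    (P : CochainComplex (V : Scheme.{u}).Modules ℤ) (hP : DCoh.IsKFlat P) (i : ℤ)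
    (α : DerivedCategory.Q.obj P ⟶ DerivedCategory.Q.obj ((DCoh.restrictCx V).obj F))
    (hα : LpullLoc.MQI (i - 1) α)
    (R : CommRingCat.{u}) (j : Spec R ⟶ (V : Scheme.{u})) [IsOpenImmersion j] (k : ℤ → ℕ)
    (e : ∀ n, (((Scheme.Modules.pullback j).mapHomologicalComplex
      (ComplexShape.up ℤ)).obj P).X n ≅ FlatMod.freeMod (Spec R) (k n))
    (l : Spec (Y.residueField y) ⟶ Spec R) (hl : l ≫ j ≫ V.ι = t) :
    bettiAt t E i =
      CohIII.dRank (tildeCx R (((Scheme.Modules.pullback j).mapHomologicalComplex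
        (ComplexShape.up ℤ)).obj P) k e) i (l.base default) := by
  let φ := Spec.preimage l
  have hφ : Spec.map φ = l := Spec.map_preimage l
  have h1 := bettiAt_eq_of_mqi y t E V F hF eF P hP i α hα (l ≫ j)
    (by rw [Category.assoc]; exact hl)
  have h2 := ptBetti_comp l j P i
  let C := ((Scheme.Modules.pullback j).mapHomologicalComplex (ComplexShape.up ℤ)).obj P
  let M := tildeCx R C k e
  have h3 := ptBetti_congr l (tildeCxIso R C k e).symm i
  let pt : Spec (Y.residueField y) := default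
  have hq : RingHom.ker φ.hom = (l.base pt).asIdeal := by
    have hbot : pt.asIdeal = ⊥ :=
      (Ideal.eq_bot_or_top pt.asIdeal).resolve_right pt.isPrime.ne_top
    rw [← hφ]
    change _ = Ideal.comap φ.hom pt.asIdeal
    rw [hbot]
    rfl
  haveI : Module.Finite R (M.X i) := inferInstanceAs (Module.Finite R (Fin (k i) → R))
  haveI : Module.Finite R (M.X (i + 1)) :=
    inferInstanceAs (Module.Finite R (Fin (k (i + 1)) → R))
  have h4 := ptBetti_Spec_tilde (Field.toIsField (Y.residueField y)) φ M i (l.base pt) hq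
  rw [hφ] at h4
  exact h1.trans (h2.trans (h3.trans h4))

/-- Betti numbers of `O^n[-i]` on the spectrum of a field. -/
theorem finrank_Γf_HD_sFree {Y : Scheme.{u}} (y : Y) (i : ℤ) (n : ℕ) (k : ℤ) :
    Module.finrank (Coh.Γtop (Spec (Y.residueField y)))
      ((Γf (Spec (Y.residueField y))).obj (DCoh.HD (sFree (Spec (Y.residueField y)) i n) k)) =
      if k = i then n else 0 := by
  split_ifs with hk
  · subst hk
    exact finrank_Γf_of_iso_free _ (isField_Γtop_residueField y) (HDsFreeIso _ k n)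
  · have hz : IsZero ((Γf (Spec (Y.residueField y))).obj
        (DCoh.HD (sFree (Spec (Y.residueField y)) i n) k)) :=
      Functor.map_isZero _ (isZero_HD_sFree _ i n k hk)
    haveI : Subsingleton ((Γf (Spec (Y.residueField y))).obj
        (DCoh.HD (sFree (Spec (Y.residueField y)) i n) k)) :=
      ModuleCat.subsingleton_of_isZero hz
    letI := (isField_Γtop_residueField y).toField
    exact Module.finrank_zero_of_subsingleton

end Groth.Agent.H28.OpenLocus
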