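import Groth.Agent.H28.RankSC

/-!
# Ring-level bridging for the open locus: fibre exactness from `dRank = 0`, `dRank` and base change
-/

set_option maxHeartbeats 400000
set_option autoImplicit false
universe u
open scoped TensorProduct
open CategoryTheory

namespace Groth.Agent.H28.OpenLocus

open Groth.Agent.H99.DRank Groth.Agent.H28.RankSC

variable {A : Type u} [CommRing A]

/-- Linear algebra: `g ∘ f = 0` and `rank f + rank g = dim` imply exactness. -/
theorem exact_of_finrank {κ : Type u} [Field κ] {X₁ X₂ X₃ : Type u} [AddCommGroup X₁] [Module κ X₁]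
    [AddCommGroup X₂] [Module κ X₂] [AddCommGroup X₃] [Module κ X₃] [Module.Finite κ X₂]
    (f : X₁ →ₗ[κ] X₂) (g : X₂ →ₗ[κ] X₃) (hfg : g ∘ₗ f = 0)
    (h : Module.finrank κ (LinearMap.range f) + Module.finrank κ (LinearMap.range g) =
      Module.finrank κ X₂) : Function.Exact f g := by
  rw [LinearMap.exact_iff]
  have hle : LinearMap.range f ≤ LinearMap.ker g := by
    rintro _ ⟨x, rfl⟩
    exact LinearMap.congr_fun hfg x
  have h1 := LinearMap.finrank_range_add_finrank_ker g
  symm
  exact Submodule.eq_of_le_of_finrank_eq hle (by omega)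

theorem exact_of_dRank_eq_zero (P : CochainComplex (ModuleCat.{u} A) ℤ) (j : ℤ)
    (x : PrimeSpectrum A) [Module.Finite A (P.X j)] (h : CohIII.dRank P j x = 0) :
    Function.Exact ((P.d (j - 1) j).hom.baseChange x.asIdeal.ResidueField)
      ((P.d j (j + 1)).hom.baseChange x.asIdeal.ResidueField) := by
  have h2 := dRank_add_up P j x
  rw [h, zero_add] at h2
  haveI : Module.Finite x.asIdeal.ResidueField (x.asIdeal.ResidueField ⊗[A] (P.X j)) :=
    Module.Finite.base_change A _ (P.X j)
  refine exact_of_finrank _ _ ?_ h2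
  rw [← LinearMap.baseChange_comp]
  have : (P.d j (j + 1)).hom ∘ₗ (P.d (j - 1) j).hom = 0 := by
    rw [← ModuleCat.hom_comp, P.d_comp_d]
    rfl
  rw [this, LinearMap.baseChange_zero]

/-- Base change of complexes in two steps. -/
noncomputable def bcCxCompIso {B C : Type u} [CommRing B] [CommRing C] (ψ : A →+* B) (φ' : B →+* C)
    (P : CochainComplex (ModuleCat.{u} A) ℤ) :
    CohIII.bcCx (φ'.comp ψ) P ≅ CohIII.bcCx φ' (CohIII.bcCx ψ P) :=
  (NatIso.mapHomologicalComplex (ModuleCat.extendScalarsComp ψ φ') (ComplexShape.up ℤ)).app P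

/-- `dRank` is compatible with base change. -/
theorem dRank_bcCx {B : Type u} [CommRing B] (ψ : A →+* B) (P : CochainComplex (ModuleCat.{u} A) ℤ)
    (j : ℤ) [Module.Finite A (P.X j)] [Module.Finite A (P.X (j + 1))] (q' : PrimeSpectrum B) :
    CohIII.dRank (CohIII.bcCx ψ P) j q' = CohIII.dRank P j (PrimeSpectrum.comap ψ q') := by
  let K := q'.asIdeal.ResidueField
  let φ' : B →+* K := algebraMap B K
  have hp : RingHom.ker (φ'.comp ψ) = (PrimeSpectrum.comap ψ q').asIdeal := by
    ext r
    change φ' (ψ r) = 0 ↔ ψ r ∈ q'.asIdeal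
    exact Ideal.algebraMap_residueField_eq_zero
  rw [← finrank_homology_bcCx_eq_dRank K (φ'.comp ψ) (PrimeSpectrum.comap ψ q') hp P j]
  exact ((HomologicalComplex.homologyFunctor _ _ j).mapIso
    (bcCxCompIso ψ φ' P)).toLinearEquiv.finrank_eq.symm

end Groth.Agent.H28.OpenLocus
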