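import Groth.Agent.H28.OpenLocus2
import Groth.Agent.S9498
import Groth.Agent.S12451

/-!
# The open locus (part 4): complexes with cohomology in one degree, tilde complexes, transport
-/

set_option maxHeartbeats 400000
set_option autoImplicit false
universe u
open CategoryTheory CategoryTheory.Limits AlgebraicGeometry TopologicalSpace Opposite
attribute [local instance] HasDerivedCategory.standard

namespace Groth.Agent.H28.OpenLocus

open Groth.Agent.H28.LpullLoc Groth.Agent.H31.Stalk Groth.Agent.H90.SPerf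
  Groth.Agent.H28.TildeCx

variable {X : Scheme.{u}}

/-- A complex with cohomology only in degree `i` is its `i`-th cohomology placed in degree `i`. -/
theorem exists_iso_single_of_homology {Z : Scheme.{u}} (T : CochainComplex Z.Modules ℤ) (i : ℤ)
    (hz : ∀ k : ℤ, k ≠ i → IsZero (T.homology k)) :
    Nonempty (DerivedCategory.Q.obj T ≅
      (DerivedCategory.singleFunctor Z.Modules i).obj (T.homology i)) := by
  set K := DerivedCategory.Q.obj T with hK
  have eH : ∀ k, DCoh.HD K k ≅ T.homology k := fun k =>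
    (DerivedCategory.homologyFunctorFactors Z.Modules k).app T
  have hz' : ∀ k : ℤ, k ≠ i → IsZero (DCoh.HD K k) := fun k hk => IsZero.of_iso (hz k hk) (eH k)
  haveI hGE : K.IsGE i := by
    rw [DerivedCategory.isGE_iff]
    intro k hk
    exact hz' k (by omega)
  haveI hLE : K.IsLE i := by
    rw [DerivedCategory.isLE_iff]
    intro k hk
    exact hz' k (by omega)
  obtain ⟨M, ⟨e⟩⟩ := DerivedCategory.exists_iso_singleFunctor_obj_of_isGE_of_isLE K i
  have eM : M ≅ T.homology i :=
    ((DerivedCategory.singleFunctorCompHomologyFunctorIso Z.Modules i).app M).symm ≪≫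
      (DerivedCategory.homologyFunctor _ i).mapIso e.symm ≪≫ eH i
  exact ⟨e ≪≫ (DerivedCategory.singleFunctor Z.Modules i).mapIso eM⟩

/-- The tilde of a complex of modules with projective cohomology in a single degree. -/
theorem exists_single_of_tilde (R' : CommRingCat.{u}) (M' : CochainComplex (ModuleCat.{u} R') ℤ)
    (i : ℤ) (hz : ∀ k : ℤ, k ≠ i → IsZero (M'.homology k))
    (hfin : Module.Finite R' (M'.homology i)) (hproj : Module.Projective R' (M'.homology i)) :
    ∃ N : (Spec R').Modules, FlatMod.IsFinLocFree N ∧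
      Nonempty (DerivedCategory.Q.obj
        (((tilde.functor R').mapHomologicalComplex (ComplexShape.up ℤ)).obj M') ≅
          (DerivedCategory.singleFunctor (Spec R').Modules i).obj N) := by
  haveI := (Groth.Agent.S9498.key R').1
  haveI := (Groth.Agent.S9498.key R').2
  set T := ((tilde.functor R').mapHomologicalComplex (ComplexShape.up ℤ)).obj M' with hT
  have eH : ∀ k, T.homology k ≅ (tilde.functor R').obj (M'.homology k) := fun k =>
    (homologyMapHCIso (tilde.functor R') k).app M'
  have hzT : ∀ k : ℤ, k ≠ i → IsZero (T.homology k) := fun k hk =>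
    IsZero.of_iso (Functor.map_isZero _ (hz k hk)) (eH k)
  obtain ⟨e⟩ := exists_iso_single_of_homology T i hzT
  refine ⟨T.homology i, ?_, ⟨e⟩⟩
  exact Groth.Agent.H8.isFinLocFree_of_iso (eH i).symm
    (Groth.Agent.S12451.isFinLocFree_of_finite_projective (M'.homology i))

/-- Transport of the local structure along an open immersion. -/
theorem goodAt_of_immersion (E : DCoh.D X) (i : ℤ) (n : ℕ) {Z : Scheme.{u}} (jZ : Z ⟶ X)
    [IsOpenImmersion jZ] (z : Z) (e : (DCoh.restrictD jZ).obj E ≅ sFree Z i n) :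
    GoodAt E i n (jZ.base z) := by
  refine ⟨jZ.opensRange, ⟨z, rfl⟩, ?_⟩
  obtain ⟨c⟩ := restrictD_comp_obj jZ.isoOpensRange.inv jZ jZ.opensRange.ι
    (jZ.isoOpensRange_inv_comp).symm E
  exact ⟨c ≪≫ (DCoh.restrictD jZ.isoOpensRange.inv).mapIso e ≪≫
    restrictDSingleFreeIso jZ.isoOpensRange.inv i n⟩

/-- Shrinking: if `E|_Z ≅ N[-i]` with `N|_{U'} ≅ O^n` then `E|_{U'} ≅ O^n[-i]`. -/
theorem restrictD_single_of_iso_free (E : DCoh.D X) (i : ℤ) (n : ℕ) {Z : Scheme.{u}} (jZ : Z ⟶ X)
    [IsOpenImmersion jZ] (N : Z.Modules)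
    (e : (DCoh.restrictD jZ).obj E ≅ (DerivedCategory.singleFunctor Z.Modules i).obj N)
    (U' : Z.Opens) (eN : N.restrict U'.ι ≅ FlatMod.freeMod (U' : Scheme.{u}) n) :
    Nonempty ((DCoh.restrictD (U'.ι ≫ jZ)).obj E ≅ sFree (U' : Scheme.{u}) i n) := by
  obtain ⟨c⟩ := restrictD_comp_obj U'.ι jZ (U'.ι ≫ jZ) rfl E
  exact ⟨c ≪≫ (DCoh.restrictD U'.ι).mapIso e ≪≫
    ((Scheme.Modules.restrictFunctor U'.ι).mapDerivedCategorySingleFunctor i).app N ≪≫
    (DerivedCategory.singleFunctor (U' : Scheme.{u}).Modules i).mapIso eN⟩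

end Groth.Agent.H28.OpenLocus
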