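import Groth.Agent.H28.OpenLocus3
import Groth.Agent.Lead.FibreExact

/-!
# The open locus (part 5): ring-level local structure from vanishing fibre cohomology
-/

set_option maxHeartbeats 400000
set_option autoImplicit false
universe u
open scoped TensorProduct
open CategoryTheory

namespace Groth.Agent.H28.OpenLocus

open Groth.Agent.H99.DRank Groth.Agent.H28.RankSC

variable {A : Type u} [CommRing A]

theorem subsingleton_tensor_right (κ : Type u) [CommRing κ] [Algebra A κ] (N : Type u)
    [AddCommGroup N] [Module A N] [Subsingleton N] : Subsingleton (κ ⊗[A] N) := by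
  have h : ∀ z : κ ⊗[A] N, z = 0 := fun z => by
    induction z using TensorProduct.induction_on with
    | zero => rfl
    | tmul a n => rw [Subsingleton.elim n 0, TensorProduct.tmul_zero]
    | add a b ha hb => rw [ha, hb, add_zero]
  exact ⟨fun x y => by rw [h x, h y]⟩

theorem dRank_eq_zero_of_subsingleton (P : CochainComplex (ModuleCat.{u} A) ℤ) (j : ℤ)
    (x : PrimeSpectrum A) [Subsingleton (P.X j)] : CohIII.dRank P j x = 0 := by
  haveI : Module.Finite A (P.X j) := Module.Finite.of_finite
  have h := dRank_add_up P j x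
  have hmu : muG A x.asIdeal.ResidueField (P.X j) = 0 := by
    unfold muG
    haveI := subsingleton_tensor_right (A := A) x.asIdeal.ResidueField (P.X j)
    exact Module.finrank_zero_of_subsingleton
  omega

/-- the algebra instance implicitly used by `ModuleCat.extendScalars ψ` -/
@[reducible] def algOf' {B : Type u} [CommRing B] (ψ : A →+* B) : Algebra A B :=
  ((algebraMap B B).comp ψ).toAlgebra

set_option backward.isDefEq.respectTransparency false in
theorem finite_bcCx_X {B : Type u} [CommRing B] (ψ : A →+* B)
    (P : CochainComplex (ModuleCat.{u} A) ℤ) (n : ℤ) [Module.Finite A (P.X n)] :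
    Module.Finite B ((CohIII.bcCx ψ P).X n) := by
  letI : Algebra A B := algOf' ψ
  exact Module.Finite.base_change A B (P.X n)

set_option backward.isDefEq.respectTransparency false in
theorem free_bcCx_X {B : Type u} [CommRing B] (ψ : A →+* B)
    (P : CochainComplex (ModuleCat.{u} A) ℤ) (n : ℤ) [Module.Free A (P.X n)] :
    Module.Free B ((CohIII.bcCx ψ P).X n) := by
  letI : Algebra A B := algOf' ψ
  exact (inferInstance : Module.Free B (B ⊗[A] (P.X n)))

/-- Ring-level local structure: if the fibre cohomology at `q₀` vanishes off degree `i`, then after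
inverting some `g ∉ q₀` the complex has cohomology only in degree `i`, finite projective there. -/
theorem exists_away (R : Type u) [CommRing R] (M : CochainComplex (ModuleCat.{u} R) ℤ)
    (hfin : ∀ n, Module.Finite R (M.X n)) (hfree : ∀ n, Module.Free R (M.X n))
    (a b : ℤ) (hab : ∀ n, n < a ∨ b < n → Subsingleton (M.X n))
    (i : ℤ) (q₀ : PrimeSpectrum R) (h : ∀ k, k ≠ i → CohIII.dRank M k q₀ = 0) :
    ∃ g : R, g ∉ q₀.asIdeal ∧
      (∀ k : ℤ, k ≠ i → Limits.IsZero
        ((CohIII.bcCx (algebraMap R (Localization.Away g)) M).homology k)) ∧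
      Module.Finite (Localization.Away g)
        ((CohIII.bcCx (algebraMap R (Localization.Away g)) M).homology i) ∧
      Module.Projective (Localization.Away g)
        ((CohIII.bcCx (algebraMap R (Localization.Away g)) M).homology i) := by
  classical
  haveI := hfin
  haveI := hfree
  haveI : ∀ n, Module.FinitePresentation R (M.X n) := fun n =>
    Module.finitePresentation_of_projective R (M.X n)
  have hS : ∀ k, IsOpen {q : PrimeSpectrum R | CohIII.dRank M k q < 1} := fun k =>
    isOpen_setOf_dRank_lt M k 1
  let U₀ : Set (PrimeSpectrum R) :=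
    ⋂ k ∈ (Finset.Icc a b).erase i, {q : PrimeSpectrum R | CohIII.dRank M k q < 1}
  have hU₀ : IsOpen U₀ := isOpen_biInter_finset (fun k _ => hS k)
  have hq₀ : q₀ ∈ U₀ := by
    simp only [U₀, Set.mem_iInter]
    intro k hk
    have hki : k ≠ i := (Finset.mem_erase.1 hk).1
    change CohIII.dRank M k q₀ < 1
    rw [h k hki]
    exact Nat.zero_lt_one
  obtain ⟨_, ⟨g, rfl⟩, hqg, hgU⟩ :=
    PrimeSpectrum.isTopologicalBasis_basic_opens.exists_subset_of_mem_open hq₀ hU₀
  have hzero : ∀ q ∈ (PrimeSpectrum.basicOpen g : Set (PrimeSpectrum R)), ∀ k, k ≠ i →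
      CohIII.dRank M k q = 0 := by
    intro q hq k hki
    by_cases hk : k ∈ Finset.Icc a b
    · have := hgU hq
      simp only [U₀, Set.mem_iInter] at this
      have h1 := this k (Finset.mem_erase.2 ⟨hki, hk⟩)
      change CohIII.dRank M k q < 1 at h1
      omega
    · haveI : Subsingleton (M.X k) := hab k (by
        rw [Finset.mem_Icc, not_and_or, not_le, not_le] at hk
        exact hk)
      exact dRank_eq_zero_of_subsingleton M k q
  refine ⟨g, hqg, ?_⟩
  set ψ : R →+* Localization.Away g := algebraMap R (Localization.Away g) with hψ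
  have hfin' : ∀ n, Module.Finite (Localization.Away g) ((CohIII.bcCx ψ M).X n) :=
    fun n => finite_bcCx_X ψ M n
  have hfree' : ∀ n, Module.Free (Localization.Away g) ((CohIII.bcCx ψ M).X n) :=
    fun n => free_bcCx_X ψ M n
  refine Groth.Agent.Lead.FibreExact.fibreExact_complex (CohIII.bcCx ψ M) hfin' hfree' i ?_
  intro k hki q' hq'
  haveI := hfin' k
  have hmem : PrimeSpectrum.comap ψ ⟨q', hq'⟩ ∈
      (PrimeSpectrum.basicOpen g : Set (PrimeSpectrum R)) := by
    change g ∉ (PrimeSpectrum.comap ψ ⟨q', hq'⟩).asIdeal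
    intro hg
    have hu : IsUnit (ψ g) := IsLocalization.Away.algebraMap_isUnit g
    exact hq'.ne_top (Ideal.eq_top_of_isUnit_mem _ hg hu)
  have hd : CohIII.dRank (CohIII.bcCx ψ M) k ⟨q', hq'⟩ = 0 := by
    rw [dRank_bcCx ψ M k ⟨q', hq'⟩]
    exact hzero _ hmem k hki
  exact exact_of_dRank_eq_zero (CohIII.bcCx ψ M) k ⟨q', hq'⟩ hd

end Groth.Agent.H28.OpenLocus
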