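import Groth.Agent.H28.OpenLocus4
import Groth.Agent.H28.OpenLocus5

/-!
# The open locus (part 6): from `Lf^* E ≅ V[-i]` to the local structure of `E`
-/

set_option maxHeartbeats 800000
set_option autoImplicit false
universe u
open CategoryTheory CategoryTheory.Limits AlgebraicGeometry TopologicalSpace Opposite
attribute [local instance] HasDerivedCategory.standard

namespace Groth.Agent.H28.OpenLocus

open Groth.Agent.H28.LpullLoc Groth.Agent.H31.Stalk Groth.Agent.H90.SPerf
  Groth.Agent.H28.GammaPt Groth.Agent.H28.PerfEuler Groth.Agent.H28.TildeCx Groth.Agent.H28.RankSC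
  Groth.Agent.H28.BettiPC

variable {X : Scheme.{u}}

/-- The range of a residue-field point composed with `f`. -/
theorem range_pt_comp {Y : Scheme.{u}} (f : Y ⟶ X) (y : Y) :
    Set.range (Y.fromSpecResidueField y ≫ f).base = {f.base y} := by
  ext x
  constructor
  · rintro ⟨p, rfl⟩
    change f.base ((Y.fromSpecResidueField y).base p) = f.base y
    rw [Scheme.fromSpecResidueField_apply]
  · rintro rfl
    refine ⟨default, ?_⟩
    change f.base ((Y.fromSpecResidueField y).base default) = f.base y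
    rw [Scheme.fromSpecResidueField_apply]

/-- The pullback of `E` to a residue-field point of `Y`, when `Lf^* E ≅ V[-i]`. -/
theorem Lpull_pt_of_iso (E : DCoh.D X) (i : ℤ) (r : ℕ) {Y : Scheme.{u}} (f : Y ⟶ X)
    [DCoh.HasLpull f] (V : Y.Modules) (hV : FlatMod.IsFinLocFreeOfRank r V)
    (e : (DCoh.Lpull f).obj E ≅ (DCoh.inD Y V)⟦-i⟧) (y : Y)
    [DCoh.HasLpull (Y.fromSpecResidueField y ≫ f)] :
    Nonempty ((DCoh.Lpull (Y.fromSpecResidueField y ≫ f)).obj E ≅
      sFree (Spec (Y.residueField y)) i r) := by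
  set s := Y.fromSpecResidueField y with hs
  haveI : DCoh.HasLpull s := hasLpull s
  obtain ⟨Uy, hyU, ⟨eV⟩⟩ := hV y
  let eW₂ : (DCoh.restrictD Uy.ι).obj ((DCoh.Lpull f).obj E) ≅ sFree (Uy : Scheme.{u}) i r :=
    (DCoh.restrictD Uy.ι).mapIso
      (e ≪≫ ((DerivedCategory.singleFunctors Y.Modules).shiftIso (-i) i 0 (by lia)).app V) ≪≫
    ((Scheme.Modules.restrictFunctor Uy.ι).mapDerivedCategorySingleFunctor i).app V ≪≫
    (DerivedCategory.singleFunctor (Uy : Scheme.{u}).Modules i).mapIso eV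
  have hrange : Set.range s.base ⊆ Set.range Uy.ι.base := by
    rw [Scheme.range_fromSpecResidueField, Scheme.Opens.range_ι]
    rintro _ rfl
    exact hyU
  let hS := IsOpenImmersion.lift Uy.ι s hrange
  have hfac : hS ≫ Uy.ι = s := IsOpenImmersion.lift_fac _ _ _
  obtain ⟨e1⟩ := Lpull_of_good ((DCoh.Lpull f).obj E) i r Uy eW₂ s hS hfac
  exact ⟨((LpullCompIso s f).app E).symm ≪≫ e1⟩

/-- Uniqueness of the rank. -/
theorem rank_unique (E : DCoh.D X) (i : ℤ) (n r : ℕ) {Y : Scheme.{u}} (y : Y)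
    (t : Spec (Y.residueField y) ⟶ X) [DCoh.HasLpull t]
    (et : (DCoh.Lpull t).obj E ≅ sFree (Spec (Y.residueField y)) i r)
    (x : X) (hx : Set.range t.base ⊆ {x}) (hg : GoodAt E i n x) : n = r := by
  obtain ⟨W, hxW, ⟨eW⟩⟩ := hg
  have hrange : Set.range t.base ⊆ Set.range W.ι.base := by
    rw [Scheme.Opens.range_ι]
    intro p hp
    rw [hx hp]
    exact hxW
  let h := IsOpenImmersion.lift W.ι t hrange
  have hfac : h ≫ W.ι = t := IsOpenImmersion.lift_fac _ _ _
  obtain ⟨e1⟩ := Lpull_of_good E i n W eW t h hfac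
  have h1 := bettiAt_congr t E _ e1 i
  have h2 := bettiAt_congr t E _ et i
  rw [finrank_Γf_HD_sFree, if_pos rfl] at h1 h2
  omega

set_option backward.isDefEq.respectTransparency false in
theorem goodAt_of_iso (E : DCoh.D X) (hE : DCoh.IsPerfect E) (i : ℤ) (r : ℕ) {Y : Scheme.{u}}
    (f : Y ⟶ X) [DCoh.HasLpull f] (V : Y.Modules) (hV : FlatMod.IsFinLocFreeOfRank r V)
    (e : (DCoh.Lpull f).obj E ≅ (DCoh.inD Y V)⟦-i⟧) (y : Y) : GoodAt E i r (f.base y) := by
  classical
  set x := f.base y with hx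
  set t := Y.fromSpecResidueField y ≫ f with ht
  haveI : DCoh.HasLpull t := hasLpull t
  obtain ⟨et⟩ := Lpull_pt_of_iso E i r f V hV e y
  have hbetti : ∀ k : ℤ, bettiAt t E k = if k = i then r else 0 := fun k => by
    rw [bettiAt_congr t E _ et k, finrank_Γf_HD_sFree]
  have hrt : Set.range t.base = {x} := range_pt_comp f y
  -- local strictly perfect presentation and free chart
  obtain ⟨V₀, hxV₀, P, hP, ⟨eP⟩⟩ := (isPerfect_iff E).1 hE x
  obtain ⟨R, j, hj, hxj, hfree⟩ := exists_affine_free_chart P hP ⟨x, hxV₀⟩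
  haveI := hj
  have hPK := isKFlat_of_isStrictlyPerfect hP
  obtain ⟨⟨a, b, hab⟩, hfl⟩ := hP
  choose k0 hk0 using hfree
  let C := ((Scheme.Modules.pullback j).mapHomologicalComplex (ComplexShape.up ℤ)).obj P
  let kk : ℤ → ℕ := fun n => if n < a ∨ b < n then 0 else k0 n
  have he : ∀ n, Nonempty (C.X n ≅ FlatMod.freeMod (Spec R) (kk n)) := by
    intro n
    by_cases hn : n < a ∨ b < n
    · simp only [kk, if_pos hn]
      exact ⟨IsZero.iso (Functor.map_isZero _ (hab n hn)) isZero_freeMod_zero⟩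
    · simp only [kk, if_neg hn]
      exact hk0 n
  let ee : ∀ n, C.X n ≅ FlatMod.freeMod (Spec R) (kk n) := fun n => (he n).some
  let M := tildeCx R C kk ee
  have hfin : ∀ n, Module.Finite R (M.X n) := fun n =>
    inferInstanceAs (Module.Finite R (Fin (kk n) → R))
  have hfreeM : ∀ n, Module.Free R (M.X n) := fun n =>
    inferInstanceAs (Module.Free R (Fin (kk n) → R))
  have habM : ∀ n, n < a ∨ b < n → Subsingleton (M.X n) := by
    intro n hn
    have h0 : kk n = 0 := if_pos hn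
    change Subsingleton (Fin (kk n) → R)
    rw [h0]
    infer_instance
  -- the field point factors through the chart
  have hrange : Set.range t.base ⊆ Set.range (j ≫ V₀.ι).base := by
    rw [hrt]
    rintro _ rfl
    obtain ⟨q, hq⟩ := hxj
    refine ⟨q, ?_⟩
    change V₀.ι.base (j.base q) = x
    rw [hq]
    rfl
  let l := IsOpenImmersion.lift (j ≫ V₀.ι) t hrange
  have hl : l ≫ j ≫ V₀.ι = t := IsOpenImmersion.lift_fac _ _ _
  set q₀ : PrimeSpectrum R := l.base default with hq₀
  have hq₀x : (j ≫ V₀.ι).base q₀ = x := by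
    have h1 : (j ≫ V₀.ι).base (l.base default) = (l ≫ j ≫ V₀.ι).base default := rfl
    rw [hq₀, h1, hl]
    have : t.base default ∈ Set.range t.base := ⟨default, rfl⟩
    rw [hrt] at this
    exact this
  -- Betti numbers and dRank
  obtain ⟨F, hF, ⟨eF⟩⟩ := exists_kflat_rep E
  let eα : DerivedCategory.Q.obj P ≅ DerivedCategory.Q.obj ((DCoh.restrictCx V₀).obj F) :=
    eP.symm ≪≫ restrictDObjIso V₀.ι eF
  have hdr : ∀ k : ℤ, k ≠ i → CohIII.dRank M k q₀ = 0 := by
    intro k hk
    have h1 := bettiAt_eq_dRank y t E V₀ F hF eF P hPK k eα.hom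
      ⟨fun _ _ => inferInstance, inferInstance⟩ R j kk ee l hl
    rw [hbetti k, if_neg hk] at h1
    exact h1.symm
  -- ring-level structure
  obtain ⟨g, hg, hz, hfin', hproj'⟩ := exists_away R M hfin hfreeM a b habM i q₀ hdr
  let R' : CommRingCat.{u} := CommRingCat.of (Localization.Away g)
  let φ : R ⟶ R' := CommRingCat.ofHom (algebraMap R (Localization.Away g))
  let c : Spec R' ⟶ Spec R := Spec.map φ
  haveI : IsOpenImmersion c := inferInstanceAs
    (IsOpenImmersion (Spec.map (CommRingCat.ofHom (algebraMap R (Localization.Away g)))))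
  let M' : CochainComplex (ModuleCat.{u} R') ℤ :=
    CohIII.bcCx (algebraMap R (Localization.Away g)) M
  obtain ⟨N, hN, ⟨eN⟩⟩ := exists_single_of_tilde R' M' i hz hfin' hproj'
  -- transport to the scheme
  let jZ : Spec R' ⟶ X := c ≫ j ≫ V₀.ι
  obtain ⟨hP1, ⟨e1⟩⟩ := locData_comp j V₀.ι (j ≫ V₀.ι) rfl ⟨⟨a, b, hab⟩, hfl⟩ eP
  obtain ⟨-, ⟨e2⟩⟩ := locData_comp c (j ≫ V₀.ι) jZ rfl hP1 e1
  let iso1 : ((Scheme.Modules.restrictFunctor c).mapHomologicalComplex (ComplexShape.up ℤ)).obj
      (((Scheme.Modules.restrictFunctor j).mapHomologicalComplex (ComplexShape.up ℤ)).obj P) ≅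
      ((tilde.functor R').mapHomologicalComplex (ComplexShape.up ℤ)).obj M' :=
    (NatIso.mapHomologicalComplex (Scheme.Modules.restrictFunctorIsoPullback c)
      (ComplexShape.up ℤ)).app _ ≪≫
    ((Scheme.Modules.pullback c).mapHomologicalComplex (ComplexShape.up ℤ)).mapIso
      ((NatIso.mapHomologicalComplex (Scheme.Modules.restrictFunctorIsoPullback j)
        (ComplexShape.up ℤ)).app P ≪≫ (tildeCxIso R C kk ee).symm) ≪≫
    pullTildeCxIso φ M
  let eZ : (DCoh.restrictD jZ).obj E ≅ (DerivedCategory.singleFunctor (Spec R').Modules i).obj N :=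
    e2 ≪≫ DerivedCategory.Q.mapIso iso1 ≪≫ eN
  -- the point of `Spec R'` over `x`
  have hq₀g : q₀ ∈ Set.range (PrimeSpectrum.comap (algebraMap R (Localization.Away g))) := by
    rw [PrimeSpectrum.localization_away_comap_range (Localization.Away g) g]
    exact hg
  obtain ⟨z₀, hz₀⟩ := hq₀g
  obtain ⟨U', n, hz₀U', ⟨eN'⟩⟩ := hN z₀
  obtain ⟨e3⟩ := restrictD_single_of_iso_free E i n jZ N eZ U' eN'
  have hgood := goodAt_of_immersion E i n (U'.ι ≫ jZ) ⟨z₀, hz₀U'⟩ e3
  have hpt : (U'.ι ≫ jZ).base ⟨z₀, hz₀U'⟩ = x := by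
    change (j ≫ V₀.ι).base (c.base z₀) = x
    have : c.base z₀ = q₀ := hz₀
    rw [this]
    exact hq₀x
  rw [hpt] at hgood
  have hnr : n = r := rank_unique E i n r y t et x hrt.le hgood
  rw [hnr] at hgood
  exact hgood

end Groth.Agent.H28.OpenLocus
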