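import Groth.Agent.H56.PerfDual
import Groth.Agent.S6515
import Groth.Agent.H28.PerfLocal
import Groth.Agent.H90.SPerfLift
import Groth.Agent.H90.MQI

/-!
# Squad piece (P5) for helper56 (S1115 / S11112): chain-level local presentation of an
`m`-pseudo-coherent complex (helper28)
-/

set_option autoImplicit false
set_option maxHeartbeats 400000
universe u
open CategoryTheory CategoryTheory.Limits AlgebraicGeometry HomologicalComplex
  CategoryTheory.Pretriangulated
attribute [local instance] HasDerivedCategory.standard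

namespace Groth.Agent.PC

open Groth.Agent.H28.LpullLoc

lemma epi_homologyMap_of_epi {C : Type*} [Category C] [Abelian C] [HasDerivedCategory C]
    {K L : CochainComplex C ℤ} (f : K ⟶ L) (i : ℤ)
    (h : Epi ((DerivedCategory.homologyFunctor C i).map (DerivedCategory.Q.map f))) :
    Epi (HomologicalComplex.homologyMap f i) := by
  have e : Arrow.mk ((DerivedCategory.homologyFunctor C i).map (DerivedCategory.Q.map f)) ≅
      Arrow.mk (HomologicalComplex.homologyMap f i) :=
    Arrow.isoMk ((DerivedCategory.homologyFunctorFactors C i).app K)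
      ((DerivedCategory.homologyFunctorFactors C i).app L)
      ((DerivedCategory.homologyFunctorFactors C i).hom.naturality f).symm
  exact ((MorphismProperty.epimorphisms _).arrow_mk_iso_iff e).1 h

lemma mono_homologyMap_of_mono {C : Type*} [Category C] [Abelian C] [HasDerivedCategory C]
    {K L : CochainComplex C ℤ} (f : K ⟶ L) (i : ℤ)
    (h : Mono ((DerivedCategory.homologyFunctor C i).map (DerivedCategory.Q.map f))) :
    Mono (HomologicalComplex.homologyMap f i) := by
  have e : Arrow.mk ((DerivedCategory.homologyFunctor C i).map (DerivedCategory.Q.map f)) ≅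
      Arrow.mk (HomologicalComplex.homologyMap f i) :=
    Arrow.isoMk ((DerivedCategory.homologyFunctorFactors C i).app K)
      ((DerivedCategory.homologyFunctorFactors C i).app L)
      ((DerivedCategory.homologyFunctorFactors C i).hom.naturality f).symm
  exact ((MorphismProperty.monomorphisms _).arrow_mk_iso_iff e).1 h

/-- (P5) -/
theorem exists_pc_chain_presentation {X : Scheme.{u}} (F : CochainComplex X.Modules ℤ) (m : ℤ)
    (hF : DCoh.IsPseudoCoherentD m (DCoh.toD X F)) (x : X) :
    ∃ (V : X.Opens), x ∈ V ∧ ∃ (E' P : CochainComplex (V : Scheme.{u}).Modules ℤ) (a b : ℤ)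
      (f : E' ⟶ (DCoh.restrictCx V).obj F),
      Nonempty (DerivedCategory.Q.obj E' ≅ DerivedCategory.Q.obj P) ∧
      DCoh.VanishesOutside P a b ∧
      (∀ i : ℤ, ∃ n : ℕ, Nonempty (P.X i ≅ FlatMod.freeMod (V : Scheme.{u}) n)) ∧
      ∀ i : ℤ, m ≤ i → IsZero ((CochainComplex.mappingCone f).homology i) := by
  classical
  obtain ⟨V, hxV, hV⟩ := hF x
  obtain ⟨P₀, α, ⟨⟨a, b, hab⟩, hfl⟩, hiso, hepi⟩ := hV F ⟨Iso.refl _⟩
  let xV : (V : Scheme.{u}) := ⟨x, hxV⟩
  choose Wf nf hxW hisoW using fun i => hfl i xV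
  let W' : (V : Scheme.{u}).Opens := (Finset.Icc a b).inf Wf
  have hxW' : xV ∈ W' := (mem_finset_inf _ _ _).2 (fun i _ => hxW i)
  have hle : V.ι ''ᵁ W' ≤ V := V.ι_image_le W'
  let R := Scheme.Modules.restrictFunctor (X.homOfLE hle)
  let P := (R.mapHomologicalComplex (ComplexShape.up ℤ)).obj P₀
  let α' : DerivedCategory.Q.obj P ⟶
      DerivedCategory.Q.obj ((DCoh.restrictCx (V.ι ''ᵁ W')).obj F) :=
    (R.mapDerivedCategoryFactors.app P₀).inv ≫ R.mapDerivedCategory.map α ≫
      (R.mapDerivedCategoryFactors.app ((DCoh.restrictCx V).obj F)).hom ≫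
      DerivedCategory.Q.map (restrictCxTrans hle F).inv
  have hα : Groth.Agent.H90.SPerf.MQI m α := ⟨hiso, hepi⟩
  have hα' : Groth.Agent.H90.SPerf.MQI m α' :=
    (Groth.Agent.H90.SPerf.MQI.of_isIso m _).comp ((Groth.Agent.H90.SPerf.MQI.map R hα).comp
      ((Groth.Agent.H90.SPerf.MQI.of_isIso m _).comp (Groth.Agent.H90.SPerf.MQI.of_isIso m _)))
  obtain ⟨E', s, hs, f, hfac⟩ := DerivedCategory.right_fac α'
  have hQf : DerivedCategory.Q.map f = DerivedCategory.Q.map s ≫ α' := by
    rw [hfac, IsIso.hom_inv_id_assoc]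
  have hf : Groth.Agent.H90.SPerf.MQI m (DerivedCategory.Q.map f) := by
    rw [hQf]
    exact (Groth.Agent.H90.SPerf.MQI.of_isIso m _).comp hα'
  refine ⟨V.ι ''ᵁ W', ⟨xV, hxW', rfl⟩, E', P, a, b, f, ⟨asIso (DerivedCategory.Q.map s)⟩,
    fun i hi => Functor.map_isZero R (hab i hi), ?_, ?_⟩
  · intro i
    by_cases hi : i ∈ Finset.Icc a b
    · have hWi : W' ≤ Wf i := Finset.inf_le hi
      refine ⟨nf i, ⟨isoFreeOfLift (X.homOfLE hle) (Wf i).ι
        ((V.ι.isoImage W').inv ≫ (V : Scheme.{u}).homOfLE hWi) ?_ (P₀.X i) (nf i)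
        (hisoW i).some⟩⟩
      rw [Category.assoc, Scheme.homOfLE_ι, Scheme.Opens.isoImage_ι_inv_ι]
    · refine ⟨0, ⟨IsZero.iso (Functor.map_isZero R (hab i ?_)) isZero_freeMod_zero⟩⟩
      rw [Finset.mem_Icc, not_and_or, not_le, not_le] at hi
      exact hi
  · intro i hi
    exact Groth.Agent.H90.SPerf.isZero_homology_mappingCone_of f i
      (epi_homologyMap_of_epi f i (hf.epi_of_le i hi))
      (mono_homologyMap_of_mono f (i + 1) (hf.mono_of_lt (i + 1) (by omega)))

end Groth.Agent.PC
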