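import Groth.Prelude.Def_PCoh
import Groth.Agent.H28.PerfBiprod
import Groth.Agent.S5599
import Groth.Agent.S5603
import Mathlib.Algebra.Homology.DerivedCategory.SingleTriangle
import Mathlib.Algebra.Homology.DerivedCategory.FullyFaithful

/-!
# Helper library (helper28): intermediate classes `C₀ ⊆ C₁` of pseudo-coherent objects
-/

set_option autoImplicit false
universe w v u

open CategoryTheory CategoryTheory.Limits HomologicalComplex

namespace Groth.Agent.H28.PCohInter

variable {C : Type u} [Category.{v} C] [Abelian C]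

/-- For an `ℕ`-indexed cochain complex exact at `0` and `1`, `X 0 → cycles 1` is an iso. -/
lemma isIso_toCycles_zero_one (K : CochainComplex C ℕ) (h0 : K.ExactAt 0) (h1 : K.ExactAt 1) :
    IsIso (K.toCycles 0 1) := by
  have hrel : (ComplexShape.up ℕ).Rel 0 1 := rfl
  have hepi : Epi (K.toCycles 0 1) :=
    Groth.Agent.H28.PerfB.epi_toCycles' K 0 1 hrel ((K.exactAt_iff_isZero_homology _).1 h1)
  have hf0 : (K.sc 0).f = 0 := by
    apply K.shape
    intro h
    exact Nat.succ_ne_zero _ h
  have hm : Mono (K.sc 0).g := h0.mono_g hf0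
  have hnext : (ComplexShape.up ℕ).next 0 = 1 := (ComplexShape.up ℕ).next_eq' hrel
  have hm' : Mono (K.d 0 1) := by
    have : Mono (K.d 0 ((ComplexShape.up ℕ).next 0)) := hm
    rwa [hnext] at this
  have h4 : Mono (K.toCycles 0 1 ≫ K.iCycles 1) := by rw [K.toCycles_i]; exact hm'
  have h5 : Mono (K.toCycles 0 1) := mono_of_mono _ (K.iCycles 1)
  exact isIso_of_mono_of_epi _

variable [HasDerivedCategory.{w} C]

/-- `n`-pseudo-coherence of an object placed in degree `0`. -/
def NPC0 (P : ObjectProperty C) (n : ℤ) (X : C) : Prop :=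
  ∃ E : CochainComplex C ℤ, PCoh.IsStrictPC P n E ∧
    Nonempty (DerivedCategory.Q.obj E ≅ (DerivedCategory.singleFunctor C 0).obj X)

lemma NPC0.of_iso {P : ObjectProperty C} {n : ℤ} {X Y : C} (h : NPC0 P n X) (e : X ≅ Y) :
    NPC0 P n Y := by
  obtain ⟨E, hE, ⟨i⟩⟩ := h
  exact ⟨E, hE, ⟨i ≪≫ (DerivedCategory.singleFunctor C 0).mapIso e⟩⟩

lemma isZero_homology_single (X : C) (i : ℤ) (hi : i ≠ 0) :
    IsZero ((DerivedCategory.homologyFunctor C i).obj
      ((DerivedCategory.singleFunctor C 0).obj X)) :=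
  IsZero.of_iso (HomologicalComplex.isZero_single_obj_homology (ComplexShape.up ℤ) 0 X i hi)
    ((DerivedCategory.homologyFunctorFactors C i).app
      ((HomologicalComplex.single C (ComplexShape.up ℤ) 0).obj X))

section

variable (P : ObjectProperty C) [P.IsClosedUnderIsomorphisms] [P.ContainsZero]
  (hsum : ∀ X Y : C, P X → P Y → P (X ⨯ Y))
  (hqs : PCoh.IsQuasiStableUnderKernels P) (hql : PCoh.IsQuasiLiftable P)

include hsum hqs hql

lemma finiteType_of_NPC0 (X : C) (h : NPC0 P 0 X) : PCoh.IsOfFiniteType P X := by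
  have h1 := (Groth.Agent.S5603.result P hsum hqs hql 0
    ((DerivedCategory.singleFunctor C 0).obj X)
    (fun i hi => isZero_homology_single X i (by lia))).1 h
  obtain ⟨G, π, hG, hπ⟩ := h1
  exact ⟨G, π ≫ ((DerivedCategory.singleFunctorCompHomologyFunctorIso C 0).app X).hom, hG,
    epi_comp _ _⟩

variable (P₁ : ObjectProperty C) [P₁.IsClosedUnderIsomorphisms] [P₁.ContainsZero]
  (hle : ∀ X : C, P X → P₁ X)
  (hpc : ∀ X : C, P₁ X → PCoh.IsPC P ((DerivedCategory.singleFunctor C 0).obj X))

include hle hpc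

lemma quasiLiftable_of_pc : PCoh.IsQuasiLiftable P₁ := by
  intro E F u hu hF
  obtain ⟨G, π, hG, hπ⟩ := finiteType_of_NPC0 P hsum hqs hql F (hpc F hF 0)
  have hepi : Epi (pullback.snd u π) := inferInstance
  obtain ⟨F', v, hF', hv⟩ := hql _ _ (pullback.snd u π) hepi hG
  refine ⟨F', v ≫ pullback.fst u π, hle _ hF', ?_⟩
  have e : (v ≫ pullback.fst u π) ≫ u = (v ≫ pullback.snd u π) ≫ π := by
    rw [Category.assoc, Category.assoc, pullback.condition]
  rw [e]
  exact epi_comp _ _

lemma quasiStable_of_pc : PCoh.IsQuasiStableUnderKernels P₁ := by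
  intro K hex hbd hP₁
  obtain ⟨N, hN⟩ := hbd
  have hcyc : ∀ (k : ℕ) (i : ℕ), i + k = N + 1 → 1 ≤ i → ∀ n : ℤ, NPC0 P n (K.cycles i) := by
    intro k
    induction k with
    | zero =>
      intro i hi _ n
      have hz : IsZero (K.cycles i) := IsZero.of_mono (K.iCycles i) (hN i (by lia))
      exact hpc _ (P₁.prop_of_isZero hz) n
    | succ k ih =>
      intro i hi h1 n
      have hrel : (ComplexShape.up ℕ).Rel i (i + 1) := rfl
      have hepi : Epi (K.toCycles i (i + 1)) :=
        Groth.Agent.H28.PerfB.epi_toCycles' K i (i + 1) hrel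
          ((K.exactAt_iff_isZero_homology _).1 (hex (i + 1)))
      let S : ShortComplex C := ShortComplex.mk (kernel.ι (K.toCycles i (i + 1)))
        (K.toCycles i (i + 1)) (kernel.condition _)
      have hS : S.ShortExact := ShortComplex.ShortExact.mk'
        (ShortComplex.exact_of_f_is_kernel _ (kernelIsKernel _))
        (inferInstanceAs (Mono (kernel.ι (K.toCycles i (i + 1))))) hepi
      have hT := hS.singleTriangle_distinguished
      have h3 := (Groth.Agent.S5599.result P hsum hqs hql (n - 1) hS.singleTriangle hT).2.2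
      have h2' : ∃ E : CochainComplex C ℤ, PCoh.IsStrictPC P (n - 1 + 1) E ∧
          Nonempty (DerivedCategory.Q.obj E ≅ hS.singleTriangle.obj₂) := by
        rw [Int.sub_add_cancel]
        exact hpc _ (hP₁ i h1) n
      have h3' : ∃ E : CochainComplex C ℤ, PCoh.IsStrictPC P (n - 1) E ∧
          Nonempty (DerivedCategory.Q.obj E ≅ hS.singleTriangle.obj₃) :=
        ih (i + 1) (by lia) (by lia) (n - 1)
      have h1' := h3 h2' h3'
      rw [Int.sub_add_cancel] at h1'
      exact NPC0.of_iso h1' (Groth.Agent.H28.PerfB.cyclesIsoKernelToCycles' K i (i + 1) hrel).symm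
  have hc1 : NPC0 P 0 (K.cycles 1) := hcyc N 1 (by lia) le_rfl 0
  have hiso : IsIso (K.toCycles 0 1) := isIso_toCycles_zero_one K (hex 0) (hex 1)
  have h0 : NPC0 P 0 (K.X 0) := NPC0.of_iso hc1 (asIso (K.toCycles 0 1)).symm
  obtain ⟨G, π, hG, hπ⟩ := finiteType_of_NPC0 P hsum hqs hql _ h0
  exact ⟨G, π, hle _ hG, hπ⟩

end

end Groth.Agent.H28.PCohInter
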