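import Groth.Agent.H28.PerfTor3
import Groth.Agent.H40.FlatPullback

/-!
# Pseudo-coherent + flat amplitude ⇒ perfect : local statement (helper28 library)
-/

set_option autoImplicit false
set_option maxHeartbeats 400000
universe u
open CategoryTheory CategoryTheory.Limits AlgebraicGeometry HomologicalComplex
attribute [local instance] HasDerivedCategory.standard

namespace Groth.Agent.H28.PerfTor

open Groth.Agent.H40.TorAmp3 Groth.Agent.H90.SPerf CochainComplex

variable {X : Scheme.{u}}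

theorem isFlat_restrict {U : Scheme.{u}} (j : U ⟶ X) [IsOpenImmersion j] (M : X.Modules)
    (hM : FlatMod.IsFlat M) : FlatMod.IsFlat ((Scheme.Modules.restrictFunctor j).obj M) :=
  stalkFlat_of_iso ((Scheme.Modules.restrictFunctorIsoPullback j).symm.app M)
    (Groth.Agent.H40.FlatPullback.isFlat_pullback j M hM)

/-- Local statement: if `E ≅ Q F` with `F` flat in `[a,b]` and `E` is `(a-1)`-pseudo-coherent near
`x`, then near `x`, `E` is a strictly perfect complex placed in degrees `≥ a`. -/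
theorem exists_loc_perfect (E : DCoh.D X) (a b : ℤ) (x : X) (F : CochainComplex X.Modules ℤ)
    (hFv : DCoh.VanishesOutside F a b) (hFfl : ∀ i, FlatMod.IsFlat (F.X i))
    (eF : DerivedCategory.Q.obj F ≅ E) (hpc : LocPC (a - 1) E x) :
    ∃ V : X.Opens, x ∈ V ∧ ∃ T : CochainComplex (V : Scheme.{u}).Modules ℤ,
      DCoh.IsStrictlyPerfect T ∧ (∀ i, i < a → IsZero (T.X i)) ∧
      Nonempty ((DCoh.restrictD V.ι).obj E ≅ DerivedCategory.Q.obj T) := by
  obtain ⟨V, hxV, P, α, hP, hα⟩ := hpc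
  let FV := (DCoh.restrictCx V).obj F
  let e1 : (DCoh.restrictD V.ι).obj E ≅ DerivedCategory.Q.obj FV := restrictDObjIso V.ι eF
  have hα' : MQI (a - 1) (α ≫ e1.hom) := hα.comp (MQI.of_isIso _ e1.hom)
  obtain ⟨W, hxW, hW⟩ := exists_chain_map_rep hP (α ≫ e1.hom) ⟨x, hxV⟩
  obtain ⟨β, hβ⟩ := hW
  have hQβ : DerivedCategory.Q.map β =
      (Scheme.Modules.restrictFunctor W.ι).mapDerivedCategoryFactors.inv.app P ≫
        (DCoh.restrictD W.ι).map (α ≫ e1.hom) ≫
        (Scheme.Modules.restrictFunctor W.ι).mapDerivedCategoryFactors.hom.app FV := by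
    rw [hβ]
    simp
  have hmqi : MQI (a - 1) (DerivedCategory.Q.map β) := by
    rw [hQβ]
    exact (MQI.of_isIso _ _).comp ((hα'.map _).comp (MQI.of_isIso _ _))
  have hFVWv : DCoh.VanishesOutside ((DCoh.restrictCx W).obj FV) a b := fun i hi =>
    Functor.map_isZero (Scheme.Modules.restrictFunctor W.ι)
      (Functor.map_isZero (Scheme.Modules.restrictFunctor V.ι) (hFv i hi))
  have hFVWfl : ∀ i, FlatMod.IsFlat (((DCoh.restrictCx W).obj FV).X i) := fun i =>
    isFlat_restrict W.ι _ (isFlat_restrict V.ι _ (hFfl i))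
  obtain ⟨hT₀, hT₀z, ⟨eT₀⟩⟩ := core β a b (isStrictlyPerfect_restrict W.ι hP) hFVWv hFVWfl hmqi
  obtain ⟨c⟩ := restrictD_comp_obj W.ι V.ι (W.ι ≫ V.ι) rfl E
  let e : (DCoh.restrictD (W.ι ≫ V.ι)).obj E ≅
      DerivedCategory.Q.obj (((DCoh.restrictCx W).obj P).truncGE a) :=
    c ≪≫ (DCoh.restrictD W.ι).mapIso e1 ≪≫ restrictDObjIso W.ι (Iso.refl _) ≪≫ eT₀
  obtain ⟨hE', ⟨e'⟩⟩ := locData_comp (W.ι ≫ V.ι).isoOpensRange.inv (W.ι ≫ V.ι)
    (W.ι ≫ V.ι).opensRange.ι ((W.ι ≫ V.ι).isoOpensRange_inv_comp).symm hT₀ e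
  refine ⟨(W.ι ≫ V.ι).opensRange, ⟨⟨⟨x, hxV⟩, hxW⟩, rfl⟩, _, hE', ?_, ⟨e'⟩⟩
  intro i hi
  exact Functor.map_isZero (Scheme.Modules.restrictFunctor _) (hT₀z i hi)

end Groth.Agent.H28.PerfTor
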