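import Groth.Agent.H28.LocFreeCoh
import Groth.Agent.H28.PerfTor4
import Groth.Agent.H90.RelPerf
import Groth.Prelude.Def_KSix

/-!
# Perfect amplitude: local form, and pseudo-coherent + flat amplitude ⇒ perfect amplitude
(helper28 library)
-/

set_option autoImplicit false
set_option maxHeartbeats 400000
universe u
open CategoryTheory CategoryTheory.Limits AlgebraicGeometry HomologicalComplex
attribute [local instance] HasDerivedCategory.standard

namespace Groth.Agent.H28.PerfAmp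

open Groth.Agent.H90.SPerf Groth.Agent.H28.PerfTor CochainComplex

variable {X : Scheme.{u}}

/-- `K` is, near `x`, isomorphic to a complex of finite locally free modules placed in `[m, n]`. -/
def LocAmp (m n : ℤ) (K : DCoh.D X) (x : X) : Prop :=
  ∃ V : X.Opens, x ∈ V ∧ ∃ E : CochainComplex (V : Scheme.{u}).Modules ℤ,
    DCoh.VanishesOutside E m n ∧ (∀ i : ℤ, FlatMod.IsFinLocFree (E.X i)) ∧
    Nonempty ((DCoh.restrictD V.ι).obj K ≅ DerivedCategory.Q.obj E)

lemma hasPerfAmp_iff (K : DCoh.D X) (m n : ℤ) :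
    KSix.HasPerfectAmplitudeIn m n K ↔ ∀ x, LocAmp m n K x := by
  constructor
  · intro h x
    obtain ⟨V, hxV, hV⟩ := h x
    obtain ⟨E, hE, hfl, ⟨e⟩⟩ := hV (DerivedCategory.Q.objPreimage K)
      ⟨DerivedCategory.Q.objObjPreimageIso K⟩
    exact ⟨V, hxV, E, hE, hfl,
      ⟨restrictDObjIso V.ι (DerivedCategory.Q.objObjPreimageIso K) ≪≫ e⟩⟩
  · intro h x
    obtain ⟨V, hxV, E, hE, hfl, ⟨e⟩⟩ := h x
    exact ⟨V, hxV, fun F ⟨e₀⟩ => ⟨E, hE, hfl, ⟨(restrictDObjIso V.ι e₀).symm ≪≫ e⟩⟩⟩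

/-- Perfect amplitude implies pseudo-coherence. -/
theorem pc_of_hasPerfAmp (E : DCoh.D X) (m n k : ℤ) (h : KSix.HasPerfectAmplitudeIn m n E) :
    DCoh.IsPseudoCoherentD k E := by
  rw [isPC_iff]
  intro x
  obtain ⟨V, hxV, T, hv, hfl, he⟩ := (hasPerfAmp_iff E m n).1 h x
  exact Groth.Agent.H90.QH.locPC_of_locPerfO k ⟨V, hxV, T, ⟨⟨m, n, hv⟩, hfl⟩, he⟩

/-- Pseudo-coherent with flat amplitude in `[m, n]` implies perfect amplitude in `[m, n]`. -/
theorem locAmp_of_pc_flat (E : DCoh.D X) (m n : ℤ) (hmn : m ≤ n)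
    (h1 : DCoh.HasFlatAmplitudeIn m n E) (h2 : DCoh.IsPseudoCoherentD (m - 1) E) (x : X) :
    LocAmp m n E x := by
  obtain ⟨F, hFv, hFfl, ⟨eF⟩⟩ := h1
  obtain ⟨V, hxV, T, hT, hTz, ⟨e⟩⟩ :=
    exists_loc_perfect E m n x F hFv hFfl eF ((isPC_iff _ _).1 h2 x)
  have hex : ∀ i, n < i → IsZero (T.homology i) := by
    intro i hi
    have e2 : DerivedCategory.Q.obj T ≅ DerivedCategory.Q.obj ((DCoh.restrictCx V).obj F) :=
      e.symm ≪≫ restrictDObjIso V.ι eF
    have e3 : T.homology i ≅ ((DCoh.restrictCx V).obj F).homology i :=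
      (DerivedCategory.homologyFunctorFactors _ i).symm.app T ≪≫
        (DerivedCategory.homologyFunctor _ i).mapIso e2 ≪≫
        (DerivedCategory.homologyFunctorFactors _ i).app _
    refine IsZero.of_iso ?_ e3
    exact ShortComplex.isZero_homology_of_isZero_X₂ _
      (Functor.map_isZero (Scheme.Modules.restrictFunctor V.ι) (hFv i (Or.inr hi)))
  obtain ⟨⟨a, b, hab⟩, hTfl⟩ := hT
  have hLE : T.IsLE n := by
    rw [CochainComplex.isLE_iff]
    intro i hi
    rw [HomologicalComplex.exactAt_iff_isZero_homology]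
    exact hex i hi
  have hbn := Int.self_le_toNat (b - n)
  have hcyc : FlatMod.IsFinLocFree (T.cycles n) :=
    Groth.Agent.H28.LFC.isFinLocFree_cycles T b n hTfl (fun k hk => hab k (Or.inr hk))
      (fun k hk => isFinLocFree_of_isZero (hex k hk)) (b - n).toNat n le_rfl (by omega)
  have hι : QuasiIso (T.ιTruncLE n) := inferInstance
  have hQι : IsIso (DerivedCategory.Q.map (T.ιTruncLE n)) :=
    (DerivedCategory.isIso_Q_map_iff_quasiIso _ _).2 hι
  refine ⟨V, hxV, T.truncLE n, ?_, ?_,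
    ⟨e ≪≫ (@asIso _ _ _ _ (DerivedCategory.Q.map (T.ιTruncLE n)) hQι).symm⟩⟩
  · intro i hi
    rcases hi with hi | hi
    · exact IsZero.of_iso (hTz i hi) (T.truncLEXIso n i (by omega))
    · exact (T.truncLE n).isZero_of_isStrictlyLE n i hi
  · intro i
    rcases lt_trichotomy i n with h | h | h
    · exact Groth.Agent.H8.isFinLocFree_of_iso (T.truncLEXIso n i h).symm (hTfl i)
    · subst h
      exact Groth.Agent.H8.isFinLocFree_of_iso (T.truncLEXIsoCycles i).symm hcyc
    · exact isFinLocFree_of_isZero ((T.truncLE n).isZero_of_isStrictlyLE n i h)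

end Groth.Agent.H28.PerfAmp
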