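import Groth.Agent.H28.PerfAmp
import Groth.Agent.H28.LpullLoc2
import Groth.Agent.H31.PerfTensor
import Groth.Agent.H40.TorAmp3
import Groth.Agent.H90.QCohHom
import Groth.Agent.S0955

/-!
# Perfect amplitude ⇒ global flat amplitude (helper28 library)
-/

set_option autoImplicit false
set_option maxHeartbeats 400000
universe u
open CategoryTheory CategoryTheory.Limits AlgebraicGeometry HomologicalComplex
attribute [local instance] HasDerivedCategory.standard

namespace Groth.Agent.H28.PerfAmp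

section Abstract

open Groth.Agent.H31.Mate

variable {𝒞 𝒟 : Type*} [Category 𝒞] [Category 𝒟] (T𝒞 : 𝒞 ⥤ 𝒞 ⥤ 𝒞) (T𝒟 : 𝒟 ⥤ 𝒟 ⥤ 𝒟)
  {R P : 𝒞 ⥤ 𝒟} (ρ : R ≅ P)
  (μ : ∀ M N : 𝒞, P.obj ((T𝒞.obj M).obj N) ⟶ (T𝒟.obj (P.obj M)).obj (P.obj N))

/-- Transport of an oplax structure along an isomorphism of functors. -/
def tr (M N : 𝒞) : R.obj ((T𝒞.obj M).obj N) ⟶ (T𝒟.obj (R.obj M)).obj (R.obj N) :=
  ρ.hom.app _ ≫ μ M N ≫ bimap T𝒟 (ρ.inv.app M) (ρ.inv.app N)

lemma isIso_tr (M N : 𝒞) (h : IsIso (μ M N)) : IsIso (tr T𝒞 T𝒟 ρ μ M N) := by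
  unfold tr
  infer_instance

lemma tr_natural
    (hμ : ∀ {M M' N N' : 𝒞} (a : M ⟶ M') (b : N ⟶ N'),
      P.map (bimap T𝒞 a b) ≫ μ M' N' = μ M N ≫ bimap T𝒟 (P.map a) (P.map b))
    {M M' : 𝒞} (a : M ⟶ M') (N : 𝒞) :
    R.map ((T𝒞.map a).app N) ≫ tr T𝒞 T𝒟 ρ μ M' N =
      tr T𝒞 T𝒟 ρ μ M N ≫ (T𝒟.map (R.map a)).app (R.obj N) := by
  have h1 : (T𝒞.map a).app N = bimap T𝒞 a (𝟙 N) := by simp [Groth.Agent.H31.Mate.bimap]
  have h2 : (T𝒟.map (R.map a)).app (R.obj N) = bimap T𝒟 (R.map a) (𝟙 _) := by simp [Groth.Agent.H31.Mate.bimap]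
  rw [h1, h2]
  unfold tr
  rw [← Category.assoc, ρ.hom.naturality, Category.assoc, ← Category.assoc _ (μ M' N), hμ]
  simp only [Category.assoc]
  congr 2
  rw [← bimap_comp, ← bimap_comp]
  congr 1
  · exact (ρ.inv.naturality a)
  · simp

end Abstract

open Groth.Agent.H90.SPerf Groth.Agent.H28.PerfTor CochainComplex 
  Groth.Agent.H31.PullTensor Groth.Agent.H28.LpullLoc

variable {X : Scheme.{u}}
variable (V : X.Opens)

/-- `(M ⊗ G)|_V ⟶ M|_V ⊗ G|_V`. -/
noncomputable def restrTensorHom (G M : X.Modules) :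
    (Scheme.Modules.restrictFunctor V.ι).obj (((ModSite.tensorBi X.sheaf).obj M).obj G) ⟶
    ((ModSite.tensorBi (V : Scheme.{u}).sheaf).obj ((Scheme.Modules.restrictFunctor V.ι).obj M)).obj
        ((Scheme.Modules.restrictFunctor V.ι).obj G) :=
  tr (ModSite.tensorBi X.sheaf) (ModSite.tensorBi (V : Scheme.{u}).sheaf)
    (Scheme.Modules.restrictFunctorIsoPullback V.ι) (pullμ V.ι) M G

instance isIso_restrTensorHom (G M : X.Modules) : IsIso (restrTensorHom V G M) := by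
  unfold restrTensorHom
  exact isIso_tr _ _ _ _ M G (isIso_pullμ V.ι M G)

theorem restrTensorHom_natural (G : X.Modules) {M M' : X.Modules} (a : M ⟶ M') :
    (Scheme.Modules.restrictFunctor V.ι).map (((ModSite.tensorBi X.sheaf).map a).app G) ≫
        restrTensorHom V G M' =
      restrTensorHom V G M ≫ ((ModSite.tensorBi (V : Scheme.{u}).sheaf).map
        ((Scheme.Modules.restrictFunctor V.ι).map a)).app _ :=
  tr_natural (ModSite.tensorBi X.sheaf) (ModSite.tensorBi (V : Scheme.{u}).sheaf)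
    (Scheme.Modules.restrictFunctorIsoPullback V.ι) (pullμ V.ι)
    (fun a b => pullμ_natural V.ι a b) a G

/-- Termwise `- ⊗ G`. -/
noncomputable abbrev Tf {Z : Scheme.{u}} (G : Z.Modules) : Z.Modules ⥤ Z.Modules :=
  DCoh.tensorRightMod G

/-- Termwise `- ⊗ G` on complexes. -/
noncomputable abbrev TfC {Z : Scheme.{u}} (G : Z.Modules) :
    CochainComplex Z.Modules ℤ ⥤ CochainComplex Z.Modules ℤ :=
  (Tf G).mapHomologicalComplex (ComplexShape.up ℤ)

/-- `(P ⊗ G)|_V ≅ P|_V ⊗ G|_V` for complexes. -/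
noncomputable def restrictTfCIso (G : X.Modules) (P : CochainComplex X.Modules ℤ) :
    (DCoh.restrictCx V).obj ((TfC G).obj P) ≅
      (TfC ((Scheme.Modules.restrictFunctor V.ι).obj G)).obj ((DCoh.restrictCx V).obj P) :=
  HomologicalComplex.Hom.isoOfComponents (fun i => @asIso _ _ _ _ (restrTensorHom V G (P.X i)) (isIso_restrTensorHom V G (P.X i)))
    (fun i j _ => (restrTensorHom_natural V G (P.d i j)).symm)

/-- Termwise tensor products of K-flat complexes isomorphic in the derived category have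
isomorphic cohomology. -/
theorem nonempty_homology_TfC_iso {Z : Scheme.{u}} (G : Z.Modules)
    (P₁ P₂ : CochainComplex Z.Modules ℤ) (h₁ : DCoh.IsKFlat P₁) (h₂ : DCoh.IsKFlat P₂)
    (e : DerivedCategory.Q.obj P₁ ≅ DerivedCategory.Q.obj P₂) (i : ℤ) :
    Nonempty (((TfC G).obj P₁).homology i ≅ ((TfC G).obj P₂).homology i) := by
  obtain ⟨T, s, hs, g, hg⟩ := DerivedCategory.right_fac e.hom
  have hg' : IsIso (DerivedCategory.Q.map g) := by
    have : DerivedCategory.Q.map g = DerivedCategory.Q.map s ≫ e.hom := by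
      rw [hg, IsIso.hom_inv_id_assoc]
    rw [this]
    infer_instance
  obtain ⟨T', r, hT', -, hr, -⟩ := Groth.Agent.S0955.result T
  have hs' : QuasiIso s := (DerivedCategory.isIso_Q_map_iff_quasiIso _ s).1 hs
  have hg'' : QuasiIso g := (DerivedCategory.isIso_Q_map_iff_quasiIso _ g).1 hg'
  have hrs : QuasiIso (r ≫ s) := inferInstance
  have hrg : QuasiIso (r ≫ g) := inferInstance
  have q1 : QuasiIso ((TfC G).map (r ≫ s)) :=
    Groth.Agent.H40.LTensorDCoh.quasiIso_map_tensorRight (O := Z.sheaf) G (r ≫ s) hrs hT' h₁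
  have q2 : QuasiIso ((TfC G).map (r ≫ g)) :=
    Groth.Agent.H40.LTensorDCoh.quasiIso_map_tensorRight (O := Z.sheaf) G (r ≫ g) hrg hT' h₂
  exact ⟨(isoOfQuasiIsoAt ((TfC G).map (r ≫ s)) i).symm ≪≫
    isoOfQuasiIsoAt ((TfC G).map (r ≫ g)) i⟩

/-- Tor-vanishing (chain level) for an object of perfect amplitude `[m, n]`, computed on any K-flat
representative. -/
theorem isZero_homology_TfC (E : DCoh.D X) (m n : ℤ) (hE : ∀ x, LocAmp m n E x)
    (P : CochainComplex X.Modules ℤ) (hP : DCoh.IsKFlat P) (eP : DerivedCategory.Q.obj P ≅ E)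
    (G : X.Modules) (i : ℤ) (hi : i < m ∨ n < i) : IsZero (((TfC G).obj P).homology i) := by
  refine Groth.Agent.H90.QH.isZero_of_locally _ (fun x => ?_)
  obtain ⟨V, hxV, E', hv, hfl, ⟨e⟩⟩ := hE x
  refine ⟨V, hxV, ?_⟩
  let GV := (Scheme.Modules.restrictFunctor V.ι).obj G
  have e1 : (Scheme.Modules.restrictFunctor V.ι).obj (((TfC G).obj P).homology i) ≅
      ((DCoh.restrictCx V).obj ((TfC G).obj P)).homology i :=
    ((homologyMapHCIso (Scheme.Modules.restrictFunctor V.ι) i).app _).symm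
  have e2 : ((DCoh.restrictCx V).obj ((TfC G).obj P)).homology i ≅
      ((TfC GV).obj ((DCoh.restrictCx V).obj P)).homology i :=
    (HomologicalComplex.homologyFunctor _ _ i).mapIso (restrictTfCIso V G P)
  have hPV : DCoh.IsKFlat ((DCoh.restrictCx V).obj P) := isKFlat_restrictCx V P hP
  have hE'k : DCoh.IsKFlat E' := isKFlat_of_isStrictlyPerfect ⟨⟨m, n, hv⟩, hfl⟩
  have e3 : DerivedCategory.Q.obj ((DCoh.restrictCx V).obj P) ≅ DerivedCategory.Q.obj E' :=
    (restrictDObjIso V.ι eP).symm ≪≫ e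
  obtain ⟨e4⟩ := nonempty_homology_TfC_iso GV _ _ hPV hE'k e3 i
  have hz : IsZero (((TfC GV).obj E').homology i) :=
    ShortComplex.isZero_homology_of_isZero_X₂ _ (Functor.map_isZero (Tf GV) (hv i hi))
  exact IsZero.of_iso hz (e1 ≪≫ e2 ≪≫ e4)

end Groth.Agent.H28.PerfAmp
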