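import Mathlib
import Groth.Agent.H28.PCDescentSch
import Groth.Agent.H28.QCohDescent
import Groth.Agent.H90.TildePerf
import Groth.Agent.H90.RelPerf
import Groth.Agent.H90.RegPerf
import Groth.Agent.H56.PerfectCx
import Groth.Agent.H31.PerfLocalD

/-!
# fpqc descent of perfect objects and of quasi-coherence of cohomology (helper28)

* `isQCohD_of_Lpull`: `Lf^* E ∈ D_QCoh` implies `E ∈ D_QCoh` for `f` flat surjective quasi-compact.
* `isQCohD_of_isPerfect`: perfect objects have quasi-coherent cohomology.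
* `isPerfect_of_Lpull_affine`, `isPerfect_of_Lpull`: descent of perfectness (S1056).
-/

set_option autoImplicit false
set_option maxHeartbeats 400000
set_option linter.style.haveILetI false
universe u
open CategoryTheory CategoryTheory.Limits AlgebraicGeometry TopologicalSpace Opposite

attribute [local instance] HasDerivedCategory.standard

namespace Groth.Agent.H28.PerfDescentSch

open Groth.Agent.H31 Groth.Agent.H31.Stalk Groth.Agent.H28.LpullLoc
open Groth.Agent.H90.SPerf Groth.Agent.H90.TPC Groth.Agent.H6.LpullQCoh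
open Groth.Agent.H28.PCDescentSch

/-- Quasi-coherence of the cohomology sheaves descends along flat surjective quasi-compact
morphisms. -/
theorem isQCohD_of_Lpull {X' X : Scheme.{u}} (f : X' ⟶ X) [Flat f] [Surjective f]
    [QuasiCompact f] [DCoh.HasLpull f] (E : DCoh.D X)
    (h : DCoh.IsQCohD ((DCoh.Lpull f).obj E)) : DCoh.IsQCohD E := by
  obtain ⟨F, hF, ⟨eF⟩⟩ := exists_kflat_rep E
  haveI := Groth.Agent.S6514.preservesFiniteColimits_pullback f
  haveI := Groth.Agent.S6514.preservesFiniteLimits_pullback f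
  intro i
  -- `H^i(Lf^* E) ≅ f^* H^i(F)`
  have e1 : DCoh.HD ((DCoh.Lpull f).obj E) i ≅
      (Scheme.Modules.pullback f).obj (F.homology i) :=
    (DerivedCategory.homologyFunctor _ i).mapIso
        ((DCoh.Lpull f).mapIso eF.symm ≪≫ LpullObjIso f F hF) ≪≫
      (DerivedCategory.homologyFunctorFactors _ i).app _ ≪≫
      (LocalD.mapHCHomologyIso (Scheme.Modules.pullback f) i).app F
  have h1 : ((Scheme.Modules.pullback f).obj (F.homology i)).IsQuasicoherent :=
    qc_of_iso e1 (h i)
  have h2 : (F.homology i).IsQuasicoherent :=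
    Groth.Agent.H28.QCohDescent.isQuasicoherent_of_pullback f _ h1
  exact qc_of_iso ((DerivedCategory.homologyFunctor _ i).mapIso eF.symm ≪≫
    (DerivedCategory.homologyFunctorFactors _ i).app F).symm h2

/-- Perfect objects have quasi-coherent cohomology sheaves. -/
theorem isQCohD_of_isPerfect {X : Scheme.{u}} (E : DCoh.D X) (hE : DCoh.IsPerfect E) :
    DCoh.IsQCohD E := by
  intro i
  have hpc : DCoh.IsPseudoCoherentD (i - 1) E := by
    rw [isPC_iff]
    intro x
    exact Groth.Agent.H90.QH.locPC_of_locPerfO (i - 1) ((isPerfect_iff E).1 hE x)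
  exact (Groth.Agent.H90.QH.isQCoh_HD_of_isPC (i - 1) E hpc).1 i (by omega)

/-- Affine case of fpqc descent of perfectness. -/
theorem isPerfect_of_Lpull_affine {A B : Type u} [CommRing A] [CommRing B] (φ : A →+* B)
    (hφ : φ.FaithfullyFlat)
    [DCoh.HasLpull (Spec.map (CommRingCat.ofHom φ))]
    (E : DCoh.D (Spec (CommRingCat.of A))) (hE : DCoh.IsQCohD E)
    (h : DCoh.IsPerfect ((DCoh.Lpull (Spec.map (CommRingCat.ofHom φ))).obj E)) :
    DCoh.IsPerfect E := by
  have instA : PreservesFiniteLimits (tilde.functor (CommRingCat.of A)) :=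
    (Groth.Agent.S9498.key (CommRingCat.of A)).1
  have instB : PreservesFiniteLimits (tilde.functor (CommRingCat.of B)) :=
    (Groth.Agent.S9498.key (CommRingCat.of B)).1
  have : DRing.HasLBaseChange φ := hasLBaseChange φ
  obtain ⟨M, ⟨eM⟩⟩ := ((Groth.Agent.S0997.result (CommRingCat.of A)).2.2 E).1 hE
  obtain ⟨P, hPK, -, ⟨eP⟩⟩ := Groth.Agent.H35.LBC.exists_kflat_model M
  have e1 : (DCoh.tildeD (CommRingCat.of B)).obj ((DRing.LBaseChange φ).obj M) ≅
      (DCoh.Lpull (Spec.map (CommRingCat.ofHom φ))).obj E :=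
    (LBaseChangeTildeIso φ).app M ≪≫ (DCoh.Lpull (Spec.map (CommRingCat.ofHom φ))).mapIso eM
  have h1 := Groth.Agent.H31.PerfLocalD.isPerfect_of_iso e1.symm h
  have h2 := (Groth.Agent.H90.TPerf.isPerfect_tildeD_iff (CommRingCat.of B) _).1 h1
  have h3 : DRing.IsPerfect B (DRing.toD ((Groth.Agent.H35.FlatBC.extCx φ).obj P)) :=
    Groth.Agent.H56.isPerfect_of_iso (Groth.Agent.H53.LBaseChange.objIso' φ P hPK eP).symm h2
  letI := φ.toAlgebra
  haveI : Module.FaithfullyFlat A B := hφ
  have h4 : DRing.IsPerfect A (DRing.toD P) :=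
    Groth.Agent.H35.TorDescent.isPerfect_of_faithfullyFlat (R' := B) P h3
  have h5 : DRing.IsPerfect A M := Groth.Agent.H56.isPerfect_of_iso eP h4
  exact Groth.Agent.H31.PerfLocalD.isPerfect_of_iso eM
    ((Groth.Agent.H90.TPerf.isPerfect_tildeD_iff (CommRingCat.of A) M).2 h5)

/-- fpqc descent of perfectness. -/
theorem isPerfect_of_Lpull {X' X : Scheme.{u}} (f : X' ⟶ X) [Flat f] [Surjective f]
    [QuasiCompact f] [DCoh.HasLpull f] (E : DCoh.D X)
    (h : DCoh.IsPerfect ((DCoh.Lpull f).obj E)) : DCoh.IsPerfect E := by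
  have hE : DCoh.IsQCohD E := isQCohD_of_Lpull f E (isQCohD_of_isPerfect _ h)
  rw [isPerfect_iff]
  intro x
  obtain ⟨A, B, _, _, φ, j, hj, p, ⟨y, rfl⟩, hsq, hφ⟩ := exists_chart f x
  haveI := hj
  haveI : DCoh.HasLpull j := hasLpull j
  haveI : DCoh.HasLpull p := hasLpull p
  haveI : DCoh.HasLpull (Spec.map (CommRingCat.ofHom φ)) := hasLpull _
  haveI : DCoh.HasLpull (p ≫ f) := hasLpull _
  haveI : DCoh.HasLpull (Spec.map (CommRingCat.ofHom φ) ≫ j) := hasLpull _
  have e1 : (DCoh.Lpull (Spec.map (CommRingCat.ofHom φ))).obj ((DCoh.Lpull j).obj E) ≅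
      (DCoh.Lpull p).obj ((DCoh.Lpull f).obj E) :=
    (LpullCompIso (Spec.map (CommRingCat.ofHom φ)) j).app E ≪≫ (LpullCongr hsq).app E ≪≫
      ((LpullCompIso p f).app E).symm
  have h1 : DCoh.IsPerfect
      ((DCoh.Lpull (Spec.map (CommRingCat.ofHom φ))).obj ((DCoh.Lpull j).obj E)) :=
    Groth.Agent.H31.PerfLocalD.isPerfect_of_iso e1.symm (isPerfect_Lpull p _ h)
  have h2 : DCoh.IsPerfect ((DCoh.Lpull j).obj E) :=
    isPerfect_of_Lpull_affine φ hφ _ (isQCohD_Lpull j E hE) h1
  have h3 : DCoh.IsPerfect ((DCoh.restrictD j).obj E) :=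
    Groth.Agent.H31.PerfLocalD.isPerfect_of_iso (nonempty_Lpull_iso_restrictD j E).some h2
  exact Groth.Agent.H90.QH.locPerfO_of_restrict j ((isPerfect_iff _).1 h3 y)

end Groth.Agent.H28.PerfDescentSch
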