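import Groth.Agent.H28.GammaPt
import Groth.Agent.H28.EulerPoincare
import Groth.Prelude.Def_PerfD

/-!
# Euler characteristic of a perfect complex at points (helper28 library)
-/

set_option maxHeartbeats 400000
set_option autoImplicit false
universe u
open CategoryTheory CategoryTheory.Limits AlgebraicGeometry TopologicalSpace Opposite
attribute [local instance] HasDerivedCategory.standard

namespace Groth.Agent.H28.PerfEuler

open Groth.Agent.H31.Stalk Groth.Agent.H28.LpullLoc Groth.Agent.H28.GammaPt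

variable {X : Scheme.{u}}

/-- If `g = h ≫ W.ι` then `g^* ≅ h^* ∘ (-)|_W`. -/
noncomputable def liftPullIso {Z : Scheme.{u}} (W : X.Opens) (h : Z ⟶ (W : Scheme.{u}))
    (g : Z ⟶ X) (hg : h ≫ W.ι = g) :
    Scheme.Modules.pullback g ≅
      Scheme.Modules.restrictFunctor W.ι ⋙ Scheme.Modules.pullback h :=
  Scheme.Modules.pullbackCongr hg.symm ≪≫ (Scheme.Modules.pullbackComp h W.ι).symm ≪≫
    Functor.isoWhiskerRight (Scheme.Modules.restrictFunctorIsoPullback W.ι).symm _

/-- Computation of `Lg^* E` for `g` factoring through an open `W` on which `E` is presented by a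
strictly perfect complex `P` with K-flat terms. -/
noncomputable def LpullLiftIso {Z : Scheme.{u}} (W : X.Opens) (h : Z ⟶ (W : Scheme.{u}))
    (g : Z ⟶ X) (hg : h ≫ W.ι = g) [DCoh.HasLpull g] (E : DCoh.D X)
    (F : CochainComplex X.Modules ℤ) (hF : DCoh.IsKFlat F) (eF : DCoh.toD X F ≅ E)
    (P : CochainComplex (W : Scheme.{u}).Modules ℤ) (hP : DCoh.IsKFlat P)
    (eP : DerivedCategory.Q.obj ((DCoh.restrictCx W).obj F) ≅ DerivedCategory.Q.obj P) :
    (DCoh.Lpull g).obj E ≅ DerivedCategory.Q.obj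
      (((Scheme.Modules.pullback h).mapHomologicalComplex (ComplexShape.up ℤ)).obj P) :=
  haveI : DCoh.HasLpull h := hasLpull h
  (DCoh.Lpull g).mapIso eF.symm ≪≫ LpullObjIso g F hF ≪≫
    DerivedCategory.Q.mapIso
      ((NatIso.mapHomologicalComplex (liftPullIso W h g hg) (ComplexShape.up ℤ)).app F) ≪≫
    (LpullObjIso h ((DCoh.restrictCx W).obj F) (isKFlat_restrictCx W F hF)).symm ≪≫
    (DCoh.Lpull h).mapIso eP ≪≫ LpullObjIso h P hP


section Free

variable (Z : Scheme.{u})

attribute [local instance] CategoryTheory.Abelian.hasFiniteBiproducts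

/-- Global sections of a finite free module. -/
noncomputable def ΓfFreeIso (n : ℕ) :
    (Γf Z).obj (FlatMod.freeMod Z n) ≅
      ModuleCat.of (Coh.Γtop Z) (Fin n → Coh.Γtop Z) :=
  (Γf Z).mapIso (biproduct.isoCoproduct (fun _ : Fin n => Coh.structureModule Z)).symm ≪≫
    (Γf Z).mapBiproduct (fun _ : Fin n => Coh.structureModule Z) ≪≫
    ModuleCat.biproductIsoPi (fun _ : Fin n => ModuleCat.of (Coh.Γtop Z) (Coh.Γtop Z))

theorem finrank_fin_fun_of_isField {S : Type u} [Ring S] (hS : IsField S) (n : ℕ) :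
    Module.finrank S (Fin n → S) = n := by
  letI := hS.toField
  exact Module.finrank_fin_fun S

theorem finrank_Γf_of_iso_free (hS : IsField (Coh.Γtop Z)) {M : Z.Modules} {n : ℕ}
    (e : M ≅ FlatMod.freeMod Z n) :
    Module.finrank (Coh.Γtop Z) ((Γf Z).obj M) = n := by
  rw [((Γf Z).mapIso e ≪≫ ΓfFreeIso Z n).toLinearEquiv.finrank_eq]
  exact finrank_fin_fun_of_isField hS n

theorem finite_Γf_of_iso_free {M : Z.Modules} {n : ℕ}
    (e : M ≅ FlatMod.freeMod Z n) :
    Module.Finite (Coh.Γtop Z) ((Γf Z).obj M) :=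
  Module.Finite.equiv ((Γf Z).mapIso e ≪≫ ΓfFreeIso Z n).toLinearEquiv.symm

end Free


section Point

theorem isField_Γtop_residueField (y : X) : IsField (Coh.Γtop (Spec (X.residueField y))) :=
  MulEquiv.isField (Field.toIsField (X.residueField y))
    ((Scheme.ΓSpecIso (X.residueField y)).commRingCatIsoToRingEquiv).toMulEquiv

end Point


section Main

variable [∀ x : X, DCoh.HasLpull (X.fromSpecResidueField x)]

theorem betti_eq (E : DCoh.D X) (W : X.Opens)
    (F : CochainComplex X.Modules ℤ) (hF : DCoh.IsKFlat F) (eF : DCoh.toD X F ≅ E)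
    (P : CochainComplex (W : Scheme.{u}).Modules ℤ) (hP : DCoh.IsKFlat P)
    (eP : DerivedCategory.Q.obj ((DCoh.restrictCx W).obj F) ≅ DerivedCategory.Q.obj P)
    (y : X) (h : Spec (X.residueField y) ⟶ (W : Scheme.{u}))
    (hg : h ≫ W.ι = X.fromSpecResidueField y) (i : ℤ) :
    PerfD.betti E y i = Module.finrank (Coh.Γtop (Spec (X.residueField y)))
      ((((Γf (Spec (X.residueField y))).mapHomologicalComplex (ComplexShape.up ℤ)).obj
        (((Scheme.Modules.pullback h).mapHomologicalComplex (ComplexShape.up ℤ)).obj P)).homology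
          i) := by
  let e := LpullLiftIso W h (X.fromSpecResidueField y) hg E F hF eF P hP eP
  let C := ((Scheme.Modules.pullback h).mapHomologicalComplex (ComplexShape.up ℤ)).obj P
  let e1 : DCoh.HD ((DCoh.Lpull (X.fromSpecResidueField y)).obj E) i ≅ C.homology i :=
    (DerivedCategory.homologyFunctor _ i).mapIso e ≪≫
      (DerivedCategory.homologyFunctorFactors _ i).app C
  let e2 := (Γf (Spec (X.residueField y))).mapIso e1 ≪≫ (ΓfHomologyIso C i).symm
  exact e2.toLinearEquiv.finrank_eq

theorem eulerChar_eq (E : DCoh.D X) (W : X.Opens)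
    (F : CochainComplex X.Modules ℤ) (hF : DCoh.IsKFlat F) (eF : DCoh.toD X F ≅ E)
    (P : CochainComplex (W : Scheme.{u}).Modules ℤ) (a b : ℤ)
    (hab : DCoh.VanishesOutside P a b) (n : ℤ → ℕ)
    (hfree : ∀ i, Nonempty (P.X i ≅ FlatMod.freeMod (W : Scheme.{u}) (n i)))
    (eP : DerivedCategory.Q.obj ((DCoh.restrictCx W).obj F) ≅ DerivedCategory.Q.obj P)
    (y : X) (hy : y ∈ W) :
    PerfD.eulerChar E y = ∑ᶠ i : ℤ, (i.negOnePow : ℤ) * (n i : ℤ) := by
  have hPsp : DCoh.IsStrictlyPerfect P :=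
    ⟨⟨a, b, hab⟩, fun i => isFinLocFree_of_iso_freeMod (hfree i).some⟩
  have hP := isKFlat_of_isStrictlyPerfect hPsp
  have hrange : Set.range (X.fromSpecResidueField y) ⊆ Set.range W.ι := by
    rw [Scheme.range_fromSpecResidueField, Scheme.Opens.range_ι]
    simpa using hy
  let h := IsOpenImmersion.lift W.ι (X.fromSpecResidueField y) hrange
  have hg : h ≫ W.ι = X.fromSpecResidueField y := IsOpenImmersion.lift_fac _ _ _
  let Z := Spec (X.residueField y)
  let C := ((Scheme.Modules.pullback h).mapHomologicalComplex (ComplexShape.up ℤ)).obj P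
  let D := ((Γf Z).mapHomologicalComplex (ComplexShape.up ℤ)).obj C
  have hS := isField_Γtop_residueField y
  have eX : ∀ i, C.X i ≅ FlatMod.freeMod Z (n i) := fun i =>
    (Scheme.Modules.pullback h).mapIso (hfree i).some ≪≫ pullbackFreeModIso h (n i)
  have hfin : ∀ i, Module.Finite (Coh.Γtop Z) (D.X i) := fun i => finite_Γf_of_iso_free Z (eX i)
  have hrank : ∀ i, Module.finrank (Coh.Γtop Z) (D.X i) = n i := fun i =>
    finrank_Γf_of_iso_free Z hS (eX i)
  have hD : ∀ i, i < a ∨ b < i → IsZero (D.X i) := fun i hi =>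
    Functor.map_isZero (Γf Z) (Functor.map_isZero (Scheme.Modules.pullback h) (hab i hi))
  have hEP := Groth.Agent.H28.EulerPoincare.euler_poincare hS D a b hD hfin
  unfold PerfD.eulerChar
  rw [finsum_congr (fun i => by rw [betti_eq E W F hF eF P hP eP y h hg i])]
  rw [hEP]
  exact finsum_congr (fun i => by rw [hrank i])

end Main

end Groth.Agent.H28.PerfEuler
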