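import Groth.Agent.H40.TorAmp3
import Mathlib.Algebra.Homology.HomologySequence

/-!
# Flatness of opcycles of bounded-above flat complexes exact above a degree (helper28 library)
-/

set_option autoImplicit false
set_option maxHeartbeats 400000
universe u
open CategoryTheory CategoryTheory.Limits AlgebraicGeometry HomologicalComplex
attribute [local instance] HasDerivedCategory.standard

namespace Groth.Agent.H28.PerfTor

open Groth.Agent.H31 Groth.Agent.H40.TorAmp2 Groth.Agent.H40.TorAmp3

variable {X : Scheme.{u}}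

/-- In a short exact sequence with flat middle and right terms, the left term is flat. -/
theorem flat_of_shortExact (S : ShortComplex X.Modules) (hS : S.ShortExact)
    (h₂ : FlatMod.IsFlat S.X₂) (h₃ : FlatMod.IsFlat S.X₃) : FlatMod.IsFlat S.X₁ := by
  rw [stalkFlat_iff_preservesMonomorphisms] at h₂ h₃ ⊢
  exact (tensorLike_tensorBi (O := X.sheaf)).flat_left S hS h₂ h₃

section Abelian

variable {A : Type*} [Category A] [Abelian A]

/-- `0 ⟶ opcycles j ⟶ C^{j+1} ⟶ opcycles (j+1) ⟶ 0` is short exact when `C` is exact at `j`. -/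
theorem opcycles_shortExact (C : CochainComplex A ℤ) (j : ℤ) (hex : C.ExactAt j) :
    (ShortComplex.mk (C.fromOpcycles j (j + 1)) (C.pOpcycles (j + 1))
      (by rw [← cancel_epi (C.pOpcycles j), p_fromOpcycles_assoc, d_pOpcycles, comp_zero])).ShortExact := by
  have hz : IsZero (C.homology j) := by
    rwa [← HomologicalComplex.exactAt_iff_isZero_homology]
  have hmono : Mono (C.fromOpcycles j (j + 1)) :=
    Preadditive.mono_of_isZero_kernel' _ (C.homologyIsKernel j (j + 1) (by simp)) hz
  have hcok : IsColimit (CokernelCofork.ofπ (C.pOpcycles (j + 1))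
      (show C.fromOpcycles j (j + 1) ≫ C.pOpcycles (j + 1) = 0 by
        rw [← cancel_epi (C.pOpcycles j), p_fromOpcycles_assoc, d_pOpcycles, comp_zero])) :=
    isCokernelOfComp (C.pOpcycles j) (C.d j (j + 1)) (C.opcyclesIsCokernel j (j + 1) (by simp)) _
      (C.p_fromOpcycles j (j + 1))
  exact ShortComplex.ShortExact.mk' (ShortComplex.exact_of_g_is_cokernel _ hcok) hmono
    inferInstance

end Abelian

/-- If `C` is bounded above, has flat terms in degrees `> m`, and is exact in degrees `≥ m`, then
`opcycles j` is flat for all `j ≥ m`. -/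
theorem flat_opcycles (C : CochainComplex X.Modules ℤ) (N m : ℤ)
    (hN : ∀ j : ℤ, N < j → IsZero (C.X j)) (hfl : ∀ j : ℤ, m < j → FlatMod.IsFlat (C.X j))
    (hex : ∀ j : ℤ, m ≤ j → C.ExactAt j) (j : ℤ) (hj : m ≤ j) : FlatMod.IsFlat (C.opcycles j) := by
  suffices h : ∀ (k : ℕ) (j : ℤ), m ≤ j → N + 1 - k ≤ j → FlatMod.IsFlat (C.opcycles j) by
    exact h (N + 1 - j).toNat j hj (by omega)
  intro k
  induction k with
  | zero =>
    intro j _ hj2
    have hz : IsZero (C.X j) := hN j (by omega)
    have : IsZero (C.opcycles j) := IsZero.of_epi (C.pOpcycles j) hz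
    exact stalkFlat_of_isZero this
  | succ k ih =>
    intro j hj1 hj2
    have h3 : FlatMod.IsFlat (C.opcycles (j + 1)) := ih (j + 1) (by omega) (by push_cast at hj2 ⊢; omega)
    exact flat_of_shortExact _ (opcycles_shortExact C j (hex j hj1)) (hfl (j + 1) (by omega)) h3

end Groth.Agent.H28.PerfTor
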