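import Groth.Agent.H28.PerfTor
import Groth.Agent.H28.LpullLoc3
import Groth.Agent.H90.PCohLoc
import Groth.Agent.H49.InjCokerOpen
import Groth.Agent.H22.QCohAbelian
import Groth.Agent.H8.LocFreeNearFinite
import Groth.Agent.S9805

/-!
# Pseudo-coherent + flat amplitude ⇒ perfect : the core (helper28 library)
-/

set_option autoImplicit false
set_option maxHeartbeats 400000
universe u
open CategoryTheory CategoryTheory.Limits AlgebraicGeometry HomologicalComplex
attribute [local instance] HasDerivedCategory.standard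

namespace Groth.Agent.H28.PerfTor

open Groth.Agent.H31 Groth.Agent.H40.TorAmp2 Groth.Agent.H40.TorAmp3 CochainComplex

variable {Z : Scheme.{u}}

theorem flat_biprod' {M N : Z.Modules} (hM : FlatMod.IsFlat M) (hN : FlatMod.IsFlat N) :
    FlatMod.IsFlat (M ⊞ N) := by
  rw [stalkFlat_iff_preservesMonomorphisms] at hM hN ⊢
  exact Groth.Agent.H31.KFlat.flat_biprod (tensorLike_tensorBi (O := Z.sheaf)) M N hM hN

section Cone

variable {P F : CochainComplex Z.Modules ℤ} (β : P ⟶ F)

/-- When `F^n = 0`, the degree `n` term of the cone of `β : P ⟶ F` is `P^{n+1}`. -/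
noncomputable def coneXIso (n n' : ℤ) (h : n + 1 = n') (hz : IsZero (F.X n)) :
    (mappingCone β).X n ≅ P.X n' where
  hom := (mappingCone.fst β).1.v n n' h
  inv := (mappingCone.inl β).v n' n (by omega)
  hom_inv_id := by
    have h1 := mappingCone.id_X β n n' h
    have h2 : (mappingCone.snd β).v n n (add_zero n) = 0 := hz.eq_of_tgt _ _
    rw [h2, zero_comp, add_zero] at h1
    exact h1
  inv_hom_id := mappingCone.inl_v_fst_v β n' n h

/-- The opcycles of `P` in degree `a` are those of the cone in degree `a - 1`,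
when `F` vanishes in degrees `a-1`, `a-2`. -/
noncomputable def opcyclesConeIso (a : ℤ) (h1 : IsZero (F.X (a - 1))) (h2 : IsZero (F.X (a - 2))) :
    (mappingCone β).opcycles (a - 1) ≅ P.opcycles a := by
  let l : (mappingCone β).X (a - 2) ≅ P.X (a - 1) := coneXIso β (a - 2) (a - 1) (by omega) h2
  let r : (mappingCone β).X (a - 1) ≅ P.X a := coneXIso β (a - 1) a (by omega) h1
  let l' : (mappingCone β).X (a - 2) ≅ P.X (a - 1) :=
    ⟨-l.hom, -l.inv, by simp, by simp⟩
  refine CokernelCofork.mapIsoOfIsColimit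
    ((mappingCone β).opcyclesIsCokernel (a - 2) (a - 1) (by simp; omega))
    (P.opcyclesIsCokernel (a - 1) a (by simp)) (Arrow.isoMk l' r ?_)
  dsimp [l', l, r, coneXIso]
  rw [mappingCone.d_fst_v β (a - 2) (a - 1) a (by omega) (by omega)]
  simp

end Cone

/-- The key flatness statement. -/
theorem flat_opcycles_of_mqi {P F : CochainComplex Z.Modules ℤ} (β : P ⟶ F) (a N : ℤ)
    (hPfl : ∀ j, FlatMod.IsFlat (P.X j)) (hFfl : ∀ j, FlatMod.IsFlat (F.X j))
    (hPN : ∀ j, N < j → IsZero (P.X j)) (hFN : ∀ j, N < j → IsZero (F.X j))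
    (hFa : ∀ j, j < a → IsZero (F.X j))
    (hβ : Groth.Agent.H28.LpullLoc.MQI (a - 1) (DerivedCategory.Q.map β)) :
    FlatMod.IsFlat (P.opcycles a) := by
  let C := mappingCone β
  have iso : ∀ i, C.X i ≅ P.X (i + 1) ⊞ F.X i := fun i =>
    HomologicalComplex.homotopyCofiber.XIsoBiprod β i (i + 1) rfl
  have hCfl : ∀ j, FlatMod.IsFlat (C.X j) := fun j =>
    stalkFlat_of_iso (iso j).symm (flat_biprod' (hPfl _) (hFfl _))
  have hCN : ∀ j, N < j → IsZero (C.X j) := fun j hj =>
    IsZero.of_iso (Groth.Agent.H90.SPerf.isZero_biprod' (hPN _ (by omega)) (hFN _ hj)) (iso j)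
  have hex : ∀ j, a - 1 ≤ j → C.ExactAt j := by
    intro j hj
    rw [HomologicalComplex.exactAt_iff_isZero_homology]
    have hz := Groth.Agent.H28.LpullLoc.isZero_obj₃_of_mqi _ (DerivedCategory.mappingCone_triangle_distinguished β) (a - 1)
      hβ j hj
    exact ((DerivedCategory.homologyFunctorFactors Z.Modules j).app C).isZero_iff.1 hz
  have hfl := flat_opcycles C N (a - 1) hCN (fun j _ => hCfl j) hex (a - 1) le_rfl
  exact stalkFlat_of_iso (opcyclesConeIso β a (hFa _ (by omega)) (hFa _ (by omega))) hfl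

end Groth.Agent.H28.PerfTor
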