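import Groth.Agent.H28.PerfTor2
import Groth.Agent.H28.LpullLoc2

/-!
# Pseudo-coherent + flat amplitude ⇒ perfect : truncation (helper28 library)
-/

set_option autoImplicit false
set_option maxHeartbeats 400000
universe u
open CategoryTheory CategoryTheory.Limits AlgebraicGeometry HomologicalComplex
attribute [local instance] HasDerivedCategory.standard

namespace Groth.Agent.H28.PerfTor

open Groth.Agent.H31 Groth.Agent.H40.TorAmp2 Groth.Agent.H40.TorAmp3 CochainComplex

variable {Z : Scheme.{u}}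

/-- A flat cokernel of a map of finite locally free modules is finite locally free. -/
theorem isFinLocFree_opcycles {P : CochainComplex Z.Modules ℤ} (a : ℤ)
    (h1 : FlatMod.IsFinLocFree (P.X (a - 1))) (h2 : FlatMod.IsFinLocFree (P.X a))
    (hK : FlatMod.IsFlat (P.opcycles a)) : FlatMod.IsFinLocFree (P.opcycles a) := by
  haveI q1 : (P.X (a - 1)).IsQuasicoherent := Groth.Agent.H8.isQuasicoherent_of_isFinLocFree _ h1
  haveI q2 : (P.X a).IsQuasicoherent := Groth.Agent.H8.isQuasicoherent_of_isFinLocFree _ h2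
  have e : cokernel (P.d (a - 1) a) ≅ P.opcycles a :=
    IsColimit.coconePointUniqueUpToIso (cokernelIsCokernel (P.d (a - 1) a))
      (P.opcyclesIsCokernel (a - 1) a (by simp))
  have fp1 : CohB1.IsFP (P.X (a - 1)) := ((Groth.Agent.S9805.result Z _ q1).2 h1).2
  have fp2 : CohB1.IsFP (P.X a) := ((Groth.Agent.S9805.result Z _ q2).2 h2).2
  have hq : Coh.IsQCoh (cokernel (P.d (a - 1) a)) :=
    Groth.Agent.H22.QCohAbelian.isQuasicoherent_cokernel _
  have hfp : CohB1.IsFP (cokernel (P.d (a - 1) a)) :=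
    Groth.Agent.H49.InjCoker.isFP_cokernel (P.d (a - 1) a) fp2 fp1
  have hfl : FlatMod.IsFlat (cokernel (P.d (a - 1) a)) := stalkFlat_of_iso e.symm hK
  exact Groth.Agent.H8.isFinLocFree_of_iso e ((Groth.Agent.S9805.result Z _ hq).1 ⟨hfl, hfp⟩)

/-- Core: a flat complex in `[a,b]` receiving an `(a-1)`-quasi-isomorphism from a strictly perfect
complex `P` is quasi-isomorphic to the strictly perfect complex `τ_{≥ a} P`. -/
theorem core {P F : CochainComplex Z.Modules ℤ} (β : P ⟶ F) (a b : ℤ)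
    (hP : DCoh.IsStrictlyPerfect P) (hFv : DCoh.VanishesOutside F a b)
    (hFfl : ∀ i, FlatMod.IsFlat (F.X i))
    (hβ : Groth.Agent.H90.SPerf.MQI (a - 1) (DerivedCategory.Q.map β)) :
    DCoh.IsStrictlyPerfect (P.truncGE a) ∧ (∀ i, i < a → IsZero ((P.truncGE a).X i)) ∧
      Nonempty (DerivedCategory.Q.obj F ≅ DerivedCategory.Q.obj (P.truncGE a)) := by
  obtain ⟨⟨a₁, b₁, hPv⟩, hPf⟩ := hP
  have hPfl : ∀ j, FlatMod.IsFlat (P.X j) := fun j =>
    Groth.Agent.H28.LpullLoc.isFlat_of_isFinLocFree (hPf j)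
  have hK : FlatMod.IsFlat (P.opcycles a) :=
    flat_opcycles_of_mqi β a (max b₁ b) hPfl hFfl
      (fun j hj => hPv j (Or.inr (lt_of_le_of_lt (le_max_left _ _) hj)))
      (fun j hj => hFv j (Or.inr (lt_of_le_of_lt (le_max_right _ _) hj)))
      (fun j hj => hFv j (Or.inl hj)) ⟨hβ.1, hβ.2⟩
  have hKf := isFinLocFree_opcycles a (hPf _) (hPf _) hK
  refine ⟨⟨⟨a, max b₁ a, ?_⟩, ?_⟩, ?_, ?_⟩
  · intro i hi
    rcases hi with hi | hi
    · exact (P.truncGE a).isZero_of_isStrictlyGE a i hi
    · have h1 : b₁ < i := lt_of_le_of_lt (le_max_left _ _) hi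
      have h2 : a < i := lt_of_le_of_lt (le_max_right _ _) hi
      exact IsZero.of_iso (hPv i (Or.inr h1)) (P.truncGEXIso a i h2)
  · intro i
    rcases lt_trichotomy i a with h | h | h
    · exact Groth.Agent.H90.SPerf.isFinLocFree_of_isZero
        ((P.truncGE a).isZero_of_isStrictlyGE a i h)
    · subst h
      exact Groth.Agent.H8.isFinLocFree_of_iso (P.truncGEXIsoOpcycles i).symm hKf
    · exact Groth.Agent.H8.isFinLocFree_of_iso (P.truncGEXIso a i h).symm (hPf i)
  · intro i hi
    exact (P.truncGE a).isZero_of_isStrictlyGE a i hi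
  · haveI : F.IsStrictlyGE a := by
      rw [isStrictlyGE_iff]
      intro i hi
      exact hFv i (Or.inl hi)
    have hq : QuasiIso (truncGEMap β a) := by
      rw [CochainComplex.quasiIso_truncGEMap_iff]
      intro i hi
      rw [quasiIsoAt_iff_isIso_homologyMap]
      exact (Groth.Agent.H28.PCohD.isIso_homologyFunctor_map_Q_iff β i).1 (hβ.1 i (by omega))
    haveI h1 : IsIso (DerivedCategory.Q.map (truncGEMap β a)) :=
      (DerivedCategory.isIso_Q_map_iff_quasiIso (C := Z.Modules) _).2 hq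
    exact ⟨DerivedCategory.Q.mapIso (asIso (F.πTruncGE a)) ≪≫
      (asIso (DerivedCategory.Q.map (truncGEMap β a))).symm⟩

end Groth.Agent.H28.PerfTor
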