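import Groth.Agent.H28.PerfTor4

/-!
# Retracts of perfect objects : abstract lemmas (helper28 library)
-/

set_option autoImplicit false
set_option maxHeartbeats 400000
universe u
open CategoryTheory CategoryTheory.Limits AlgebraicGeometry HomologicalComplex
attribute [local instance] HasDerivedCategory.standard

namespace Groth.Agent.H28.PerfTor

open Groth.Agent.H40.TorAmp2 Groth.Agent.H40.TorAmp3 CochainComplex

section Diag

variable {𝒜 : Type*} [Category 𝒜] [Preadditive 𝒜] {A A₁ A₂ B B₁ B₂ : 𝒜}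
  (iA₁ : A₁ ⟶ A) (iA₂ : A₂ ⟶ A) (pA₁ : A ⟶ A₁) (pA₂ : A ⟶ A₂)
  (iB₁ : B₁ ⟶ B) (iB₂ : B₂ ⟶ B) (pB₁ : B ⟶ B₁) (pB₂ : B ⟶ B₂)
  (f₁ : A₁ ⟶ B₁) (f₂ : A₂ ⟶ B₂)

include iA₁ iA₂ in
/-- A "diagonal" morphism between two biproduct decompositions is epi if its components are. -/
theorem epi_diag (hA₁ : iA₁ ≫ pA₁ = 𝟙 _) (hA₂ : iA₂ ≫ pA₂ = 𝟙 _)
    (hA₁₂ : iA₁ ≫ pA₂ = 0) (hA₂₁ : iA₂ ≫ pA₁ = 0)
    (hB : pB₁ ≫ iB₁ + pB₂ ≫ iB₂ = 𝟙 B) [Epi f₁] [Epi f₂] :
    Epi (pA₁ ≫ f₁ ≫ iB₁ + pA₂ ≫ f₂ ≫ iB₂) := by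
  constructor
  intro W g g' hgg'
  rw [← sub_eq_zero, ← Preadditive.comp_sub] at hgg'
  rw [← sub_eq_zero]
  set d := g - g' with hd
  have h1 : iB₁ ≫ d = 0 := by
    have := congrArg (fun t => iA₁ ≫ t) hgg'
    simp only [Preadditive.add_comp, Preadditive.comp_add, Category.assoc, comp_zero] at this
    rw [reassoc_of% hA₁, reassoc_of% hA₁₂, zero_comp, add_zero] at this
    rwa [← cancel_epi f₁, comp_zero]
  have h2 : iB₂ ≫ d = 0 := by
    have := congrArg (fun t => iA₂ ≫ t) hgg'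
    simp only [Preadditive.add_comp, Preadditive.comp_add, Category.assoc, comp_zero] at this
    rw [reassoc_of% hA₂, reassoc_of% hA₂₁, zero_comp, zero_add] at this
    rwa [← cancel_epi f₂, comp_zero]
  calc d = (pB₁ ≫ iB₁ + pB₂ ≫ iB₂) ≫ d := by rw [hB, Category.id_comp]
    _ = 0 := by rw [Preadditive.add_comp, Category.assoc, Category.assoc, h1, h2]; simp

include pB₁ pB₂ in
/-- A "diagonal" morphism between two biproduct decompositions is mono if its components are. -/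
theorem mono_diag (hB₁ : iB₁ ≫ pB₁ = 𝟙 _) (hB₂ : iB₂ ≫ pB₂ = 𝟙 _)
    (hB₁₂ : iB₁ ≫ pB₂ = 0) (hB₂₁ : iB₂ ≫ pB₁ = 0)
    (hA : pA₁ ≫ iA₁ + pA₂ ≫ iA₂ = 𝟙 A) [Mono f₁] [Mono f₂] :
    Mono (pA₁ ≫ f₁ ≫ iB₁ + pA₂ ≫ f₂ ≫ iB₂) := by
  constructor
  intro W g g' hgg'
  rw [← sub_eq_zero, ← Preadditive.sub_comp] at hgg'
  rw [← sub_eq_zero]
  set d := g - g' with hd
  have h1 : d ≫ pA₁ = 0 := by
    have := congrArg (fun t => t ≫ pB₁) hgg'
    simp only [Preadditive.add_comp, Preadditive.comp_add, Category.assoc, zero_comp, hB₁, hB₂₁,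
      comp_zero, add_zero, Category.comp_id] at this
    rwa [← cancel_mono f₁, zero_comp, Category.assoc]
  have h2 : d ≫ pA₂ = 0 := by
    have := congrArg (fun t => t ≫ pB₂) hgg'
    simp only [Preadditive.add_comp, Preadditive.comp_add, Category.assoc, zero_comp, hB₂, hB₁₂,
      comp_zero, zero_add, Category.comp_id] at this
    rwa [← cancel_mono f₂, zero_comp, Category.assoc]
  calc d = d ≫ (pA₁ ≫ iA₁ + pA₂ ≫ iA₂) := by rw [hA, Category.comp_id]
    _ = 0 := by rw [Preadditive.comp_add, ← Category.assoc, ← Category.assoc, h1, h2]; simp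

end Diag

section Compare

open DerivedCategory Pretriangulated

variable {C : Type*} [Category C] [Abelian C] [HasDerivedCategory C]

/-- Two objects of `D^{≥ a}` receiving maps from a common object which are isomorphisms on `H^i`,
`i ≥ a`, are isomorphic. -/
theorem iso_of_isGE {A T' K' : DerivedCategory C} (a : ℤ) (π : A ⟶ T') (α : A ⟶ K')
    (hπ : ∀ i : ℤ, a ≤ i → IsIso ((DerivedCategory.homologyFunctor C i).map π))
    (hα : ∀ i : ℤ, a ≤ i → IsIso ((DerivedCategory.homologyFunctor C i).map α))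
    [hT : T'.IsGE a] [hK : K'.IsGE a] : Nonempty (T' ≅ K') := by
  obtain ⟨Z, g, h, hT'⟩ := distinguished_cocone_triangle π
  have hmqi : Groth.Agent.H28.LpullLoc.MQI (a - 1) π := by
    refine ⟨fun i hi => hπ i (by omega), ?_⟩
    have hz : IsZero ((DerivedCategory.homologyFunctor C (a - 1)).obj T') := isZero_of_isGE T' a (a - 1) (by omega)
    constructor
    intro W u v _
    exact hz.eq_of_src _ _
  have hZ : Z.IsLE (a - 2) := by
    rw [DerivedCategory.isLE_iff]
    intro i hi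
    exact Groth.Agent.H28.LpullLoc.isZero_obj₃_of_mqi _ hT' (a - 1) hmqi i (by omega)
  have hZ' : (Z⟦(-1 : ℤ)⟧).IsLE (a - 1) :=
    TStructure.t.isLE_shift Z (a - 2) (-1) (a - 1) (by omega)
  have hzero : (Triangle.mk π g h).invRotate.mor₁ ≫ α = 0 := by
    haveI : TStructure.t.IsLE (Triangle.mk π g h).invRotate.obj₁ (a - 1) := hZ'
    exact TStructure.t.zero _ (a - 1) a (by omega)
  obtain ⟨θ, hθ'⟩ : ∃ θ : T' ⟶ K', α = π ≫ θ :=
    Triangle.yoneda_exact₂ _ (inv_rot_of_distTriang _ hT') α hzero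
  have : IsIso θ := by
    rw [DerivedCategory.isIso_iff]
    intro n
    by_cases hn : a ≤ n
    · have h1 := hπ n hn
      have h2 := hα n hn
      have h3 : (DerivedCategory.homologyFunctor C n).map α =
          (DerivedCategory.homologyFunctor C n).map π ≫ (DerivedCategory.homologyFunctor C n).map θ := by
        rw [← Functor.map_comp, ← hθ']
      exact IsIso.of_isIso_fac_left h3.symm
    · have hz1 : IsZero ((DerivedCategory.homologyFunctor C n).obj T') := isZero_of_isGE T' a n (by omega)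
      have hz2 : IsZero ((DerivedCategory.homologyFunctor C n).obj K') := isZero_of_isGE K' a n (by omega)
      exact ⟨⟨0, hz1.eq_of_src _ _, hz2.eq_of_src _ _⟩⟩
  exact ⟨asIso θ⟩

end Compare

end Groth.Agent.H28.PerfTor
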