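import Groth.Agent.H28.PerfTor5

/-!
# Retracts of perfect objects : the core on a scheme (helper28 library)
-/

set_option autoImplicit false
set_option maxHeartbeats 400000
universe u
open CategoryTheory CategoryTheory.Limits AlgebraicGeometry HomologicalComplex
attribute [local instance] HasDerivedCategory.standard

namespace Groth.Agent.H28.PerfTor

open Groth.Agent.H31 Groth.Agent.H40.TorAmp2 Groth.Agent.H40.TorAmp3 CochainComplex

variable {Z : Scheme.{u}}

/-- Retracts of flat modules are flat. -/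
theorem flat_of_retract' {M N : Z.Modules} (s : M ⟶ N) (r : N ⟶ M) (h : s ≫ r = 𝟙 M)
    (hN : FlatMod.IsFlat N) : FlatMod.IsFlat M := by
  rw [stalkFlat_iff_preservesMonomorphisms] at hN ⊢
  exact Groth.Agent.H40.FlatCoker.flat_of_retract (T := ModSite.tensorBi Z.sheaf) s r h hN

/-- The canonical truncation `τ_{≥ a} P` of a strictly perfect complex with flat `opcycles a` is
strictly perfect. -/
theorem isStrictlyPerfect_truncGE {P : CochainComplex Z.Modules ℤ} (a : ℤ)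
    (hP : DCoh.IsStrictlyPerfect P) (hK : FlatMod.IsFlat (P.opcycles a)) :
    DCoh.IsStrictlyPerfect (P.truncGE a) := by
  obtain ⟨⟨a₁, b₁, hPv⟩, hPf⟩ := hP
  have hKf := isFinLocFree_opcycles a (hPf _) (hPf _) hK
  refine ⟨⟨a, max b₁ a, ?_⟩, ?_⟩
  · intro i hi
    rcases hi with hi | hi
    · exact (P.truncGE a).isZero_of_isStrictlyGE a i hi
    · have h1 : b₁ < i := lt_of_le_of_lt (le_max_left _ _) hi
      have h2 : a < i := lt_of_le_of_lt (le_max_right _ _) hi
      exact IsZero.of_iso (hPv i (Or.inr h1)) (P.truncGEXIso a i h2)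
  · intro i
    rcases lt_trichotomy i a with h | h | h
    · exact Groth.Agent.H90.SPerf.isFinLocFree_of_isZero
        ((P.truncGE a).isZero_of_isStrictlyGE a i h)
    · subst h
      exact Groth.Agent.H8.isFinLocFree_of_iso (P.truncGEXIsoOpcycles i).symm hKf
    · exact Groth.Agent.H8.isFinLocFree_of_iso (P.truncGEXIso a i h).symm (hPf i)

/-- Core for retracts. `P₁` is a retract of `P`, `β : P ⟶ F` is an `(a-1)`-quasi-isomorphism to a
flat complex in degrees `≥ a`; `α : Q P₁ ⟶ K'` is an isomorphism on `H^i`, `i ≥ a`, with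
`K' ∈ D^{≥ a}`. Then `K' ≅ Q (τ_{≥ a} P₁)` and the latter is strictly perfect. -/
theorem core_retract {P₁ P F : CochainComplex Z.Modules ℤ} (i₁ : P₁ ⟶ P) (p₁ : P ⟶ P₁)
    (h₁ : i₁ ≫ p₁ = 𝟙 P₁) (β : P ⟶ F) (a N : ℤ)
    (hP₁ : DCoh.IsStrictlyPerfect P₁)
    (hPfl : ∀ j, FlatMod.IsFlat (P.X j)) (hFfl : ∀ j, FlatMod.IsFlat (F.X j))
    (hPN : ∀ j, N < j → IsZero (P.X j)) (hFN : ∀ j, N < j → IsZero (F.X j))
    (hFa : ∀ j, j < a → IsZero (F.X j))
    (hβ : Groth.Agent.H28.LpullLoc.MQI (a - 1) (DerivedCategory.Q.map β))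
    (K' : DCoh.D Z) [K'.IsGE a] (α : DerivedCategory.Q.obj P₁ ⟶ K')
    (hα : ∀ i : ℤ, a ≤ i → IsIso ((DerivedCategory.homologyFunctor _ i).map α)) :
    DCoh.IsStrictlyPerfect (P₁.truncGE a) ∧
      Nonempty (K' ≅ DerivedCategory.Q.obj (P₁.truncGE a)) := by
  have hKP : FlatMod.IsFlat (P.opcycles a) :=
    flat_opcycles_of_mqi β a N hPfl hFfl hPN hFN hFa hβ
  have hK₁ : FlatMod.IsFlat (P₁.opcycles a) :=
    flat_of_retract' (opcyclesMap i₁ a) (opcyclesMap p₁ a)
      (by rw [← opcyclesMap_comp, h₁, opcyclesMap_id]) hKP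
  refine ⟨isStrictlyPerfect_truncGE a hP₁ hK₁, ?_⟩
  haveI : (DerivedCategory.Q.obj (P₁.truncGE a)).IsGE a := by
    rw [DerivedCategory.isGE_Q_obj_iff]
    infer_instance
  have hπ : ∀ i : ℤ, a ≤ i → IsIso ((DerivedCategory.homologyFunctor _ i).map
      (DerivedCategory.Q.map (P₁.πTruncGE a))) := by
    intro i hi
    rw [Groth.Agent.H28.PCohD.isIso_homologyFunctor_map_Q_iff, ← quasiIsoAt_iff_isIso_homologyMap]
    exact P₁.quasiIsoAt_πTruncGE a i hi
  obtain ⟨e⟩ := iso_of_isGE a (DerivedCategory.Q.map (P₁.πTruncGE a)) α hπ hα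
  exact ⟨e.symm⟩

end Groth.Agent.H28.PerfTor
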