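import Groth.Agent.H28.PerfTor6
import Groth.Agent.H90.PCohSummand

/-!
# Direct summands of perfect objects are perfect (helper28 library)
-/

set_option autoImplicit false
set_option maxHeartbeats 800000
universe u
open CategoryTheory CategoryTheory.Limits AlgebraicGeometry HomologicalComplex
attribute [local instance] HasDerivedCategory.standard

namespace Groth.Agent.H28.PerfTor

open Groth.Agent.H40.TorAmp3 Groth.Agent.H90.SPerf CochainComplex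

section MQIDiag

variable {C : Type*} [Category C] [Abelian C] [HasDerivedCategory C]
  {A A₁ A₂ B B₁ B₂ : DerivedCategory C}
  (iA₁ : A₁ ⟶ A) (iA₂ : A₂ ⟶ A) (pA₁ : A ⟶ A₁) (pA₂ : A ⟶ A₂)
  (iB₁ : B₁ ⟶ B) (iB₂ : B₂ ⟶ B) (pB₁ : B ⟶ B₁) (pB₂ : B ⟶ B₂)
  (f₁ : A₁ ⟶ B₁) (f₂ : A₂ ⟶ B₂)

include iA₁ iA₂ pB₁ pB₂ in
theorem mqi_diag (m : ℤ)
    (hA₁ : iA₁ ≫ pA₁ = 𝟙 _) (hA₂ : iA₂ ≫ pA₂ = 𝟙 _)
    (hA₁₂ : iA₁ ≫ pA₂ = 0) (hA₂₁ : iA₂ ≫ pA₁ = 0) (hA : pA₁ ≫ iA₁ + pA₂ ≫ iA₂ = 𝟙 A)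
    (hB₁ : iB₁ ≫ pB₁ = 𝟙 _) (hB₂ : iB₂ ≫ pB₂ = 𝟙 _)
    (hB₁₂ : iB₁ ≫ pB₂ = 0) (hB₂₁ : iB₂ ≫ pB₁ = 0) (hB : pB₁ ≫ iB₁ + pB₂ ≫ iB₂ = 𝟙 B)
    (h₁ : MQI m f₁) (h₂ : MQI m f₂) :
    MQI m (pA₁ ≫ f₁ ≫ iB₁ + pA₂ ≫ f₂ ≫ iB₂) := by
  have key : ∀ i : ℤ, (DerivedCategory.homologyFunctor C i).map (pA₁ ≫ f₁ ≫ iB₁ + pA₂ ≫ f₂ ≫ iB₂) =
      (DerivedCategory.homologyFunctor C i).map pA₁ ≫ (DerivedCategory.homologyFunctor C i).map f₁ ≫
        (DerivedCategory.homologyFunctor C i).map iB₁ +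
      (DerivedCategory.homologyFunctor C i).map pA₂ ≫ (DerivedCategory.homologyFunctor C i).map f₂ ≫
        (DerivedCategory.homologyFunctor C i).map iB₂ := by
    intro i
    rw [Functor.map_add, Functor.map_comp, Functor.map_comp, Functor.map_comp, Functor.map_comp]
  have tr : ∀ (i : ℤ) {U V W : DerivedCategory C} (u : U ⟶ V) (v : V ⟶ W) (w : U ⟶ W),
      u ≫ v = w → (DerivedCategory.homologyFunctor C i).map u ≫
        (DerivedCategory.homologyFunctor C i).map v = (DerivedCategory.homologyFunctor C i).map w := by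
    intro i U V W u v w huv
    rw [← Functor.map_comp, huv]
  have tot : ∀ (i : ℤ) {U V₁ V₂ : DerivedCategory C} (p₁ : U ⟶ V₁) (j₁ : V₁ ⟶ U) (p₂ : U ⟶ V₂)
      (j₂ : V₂ ⟶ U), p₁ ≫ j₁ + p₂ ≫ j₂ = 𝟙 U →
      (DerivedCategory.homologyFunctor C i).map p₁ ≫ (DerivedCategory.homologyFunctor C i).map j₁ +
        (DerivedCategory.homologyFunctor C i).map p₂ ≫ (DerivedCategory.homologyFunctor C i).map j₂ =
        𝟙 _ := by
    intro i U V₁ V₂ p₁ j₁ p₂ j₂ hh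
    rw [← Functor.map_comp, ← Functor.map_comp, ← Functor.map_add, hh, CategoryTheory.Functor.map_id]
  have hepi : ∀ i : ℤ, m ≤ i →
      Epi ((DerivedCategory.homologyFunctor C i).map (pA₁ ≫ f₁ ≫ iB₁ + pA₂ ≫ f₂ ≫ iB₂)) := by
    intro i hi
    rw [key]
    haveI := h₁.epi_of_le i hi
    haveI := h₂.epi_of_le i hi
    refine epi_diag ((DerivedCategory.homologyFunctor C i).map iA₁)
      ((DerivedCategory.homologyFunctor C i).map iA₂) _ _ _ _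
      ((DerivedCategory.homologyFunctor C i).map pB₁) ((DerivedCategory.homologyFunctor C i).map pB₂)
      _ _ ?_ ?_ ?_ ?_ ?_
    · rw [tr i _ _ _ hA₁, CategoryTheory.Functor.map_id]
    · rw [tr i _ _ _ hA₂, CategoryTheory.Functor.map_id]
    · rw [tr i _ _ _ hA₁₂, Functor.map_zero]
    · rw [tr i _ _ _ hA₂₁, Functor.map_zero]
    · exact tot i _ _ _ _ hB
  refine ⟨fun i hi => ?_, hepi m le_rfl⟩
  haveI := hepi i hi.le
  haveI : Mono ((DerivedCategory.homologyFunctor C i).map (pA₁ ≫ f₁ ≫ iB₁ + pA₂ ≫ f₂ ≫ iB₂)) := by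
    rw [key]
    haveI := h₁.mono_of_lt i hi
    haveI := h₂.mono_of_lt i hi
    refine mono_diag ((DerivedCategory.homologyFunctor C i).map iA₁)
      ((DerivedCategory.homologyFunctor C i).map iA₂) _ _ _ _
      ((DerivedCategory.homologyFunctor C i).map pB₁) ((DerivedCategory.homologyFunctor C i).map pB₂)
      _ _ ?_ ?_ ?_ ?_ ?_
    · rw [tr i _ _ _ hB₁, CategoryTheory.Functor.map_id]
    · rw [tr i _ _ _ hB₂, CategoryTheory.Functor.map_id]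
    · rw [tr i _ _ _ hB₁₂, Functor.map_zero]
    · rw [tr i _ _ _ hB₂₁, Functor.map_zero]
    · exact tot i _ _ _ _ hA
  exact isIso_of_mono_of_epi _

end MQIDiag

end Groth.Agent.H28.PerfTor
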