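import Groth.Agent.H28.PerfTor7

/-!
# Direct summands of perfect objects are perfect : plumbing (helper28 library)
-/

set_option autoImplicit false
set_option maxHeartbeats 800000
universe u
open CategoryTheory CategoryTheory.Limits AlgebraicGeometry HomologicalComplex
attribute [local instance] HasDerivedCategory.standard

namespace Groth.Agent.H28.PerfTor

open Groth.Agent.H40.TorAmp3 Groth.Agent.H90.SPerf CochainComplex

variable {X : Scheme.{u}}

/-- Biproducts of strictly perfect complexes are strictly perfect. -/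
theorem isStrictlyPerfect_biprod {P₁ P₂ : CochainComplex X.Modules ℤ}
    (h₁ : DCoh.IsStrictlyPerfect P₁) (h₂ : DCoh.IsStrictlyPerfect P₂) :
    DCoh.IsStrictlyPerfect (P₁ ⊞ P₂) := by
  obtain ⟨⟨a₁, b₁, v₁⟩, f₁⟩ := h₁
  obtain ⟨⟨a₂, b₂, v₂⟩, f₂⟩ := h₂
  have iso : ∀ i, (P₁ ⊞ P₂).X i ≅ P₁.X i ⊞ P₂.X i := fun i =>
    (HomologicalComplex.eval X.Modules (ComplexShape.up ℤ) i).mapBiprod P₁ P₂
  have hmin1 := min_le_left a₁ a₂
  have hmin2 := min_le_right a₁ a₂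
  have hmax1 := le_max_left b₁ b₂
  have hmax2 := le_max_right b₁ b₂
  refine ⟨⟨min a₁ a₂, max b₁ b₂, fun i hi => ?_⟩, fun i => ?_⟩
  · refine IsZero.of_iso ?_ (iso i)
    exact isZero_biprod' (v₁ _ (by omega)) (v₂ _ (by omega))
  · exact Groth.Agent.H8.isFinLocFree_of_iso (iso i).symm (isFinLocFree_biprod (f₁ _) (f₂ _))

lemma locPerfO_of_iso {K K' : DCoh.D X} (e : K ≅ K') {x : X} (h : LocPerfO K x) :
    LocPerfO K' x := by
  obtain ⟨V, hxV, E, hE, ⟨c⟩⟩ := h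
  exact ⟨V, hxV, E, hE, ⟨(DCoh.restrictD V.ι).mapIso e.symm ≪≫ c⟩⟩

set_option backward.isDefEq.respectTransparency false in
/-- A direct summand of an object which is perfect near `x` is perfect near `x`. -/
theorem locPerfO_of_biprod (K L : DCoh.D X) [HasBinaryBiproduct K L] (x : X)
    (h : LocPerfO (K ⊞ L) x) : LocPerfO K x := by
  obtain ⟨V₀, hx₀, F₀, hF₀, ⟨e₀⟩⟩ := h
  obtain ⟨⟨a, b, hv₀⟩, hf₀⟩ := id hF₀
  have hpc : LocPC (a - 1) (K ⊞ L) x := ⟨V₀, hx₀, F₀, e₀.inv, hF₀, MQI.of_isIso _ _⟩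
  obtain ⟨⟨V₁, hx₁, P₁₀, α₁₀, hP₁₀, hα₁₀⟩, ⟨V₂, hx₂, P₂₀, α₂₀, hP₂₀, hα₂₀⟩⟩ :=
    locPC_summands (a - 1) K L x hpc
  -- common open
  let V : X.Opens := V₀ ⊓ V₁ ⊓ V₂
  have hV₀ : V ≤ V₀ := inf_le_left.trans inf_le_left
  have hV₁ : V ≤ V₁ := inf_le_left.trans inf_le_right
  have hV₂ : V ≤ V₂ := inf_le_right
  have hxV : x ∈ V := ⟨⟨hx₀, hx₁⟩, hx₂⟩
  obtain ⟨P₁, α₁, hP₁, hα₁⟩ := locPC_shrink hV₁ hP₁₀ α₁₀ hα₁₀
  obtain ⟨P₂, α₂, hP₂, hα₂⟩ := locPC_shrink hV₂ hP₂₀ α₂₀ hα₂₀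
  obtain ⟨hF, ⟨e⟩⟩ := locData_comp (X.homOfLE hV₀) V₀.ι V.ι (X.homOfLE_ι hV₀).symm hF₀ e₀
  set F := ((Scheme.Modules.restrictFunctor (X.homOfLE hV₀)).mapHomologicalComplex
    (ComplexShape.up ℤ)).obj F₀ with hFdef
  have hFv : DCoh.VanishesOutside F a b := fun i hi =>
    Functor.map_isZero (Scheme.Modules.restrictFunctor (X.homOfLE hV₀)) (hv₀ i hi)
  -- the sum map
  let r := DCoh.restrictD V.ι
  let ψ₀ : DerivedCategory.Q.obj (P₁ ⊞ P₂) ⟶ r.obj (K ⊞ L) :=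
    DerivedCategory.Q.map biprod.fst ≫ α₁ ≫ r.map biprod.inl +
      DerivedCategory.Q.map biprod.snd ≫ α₂ ≫ r.map biprod.inr
  have hψ₀ : MQI (a - 1) ψ₀ := by
    refine mqi_diag (DerivedCategory.Q.map biprod.inl) (DerivedCategory.Q.map biprod.inr) _ _ _ _
      (r.map biprod.fst) (r.map biprod.snd) α₁ α₂ (a - 1) ?_ ?_ ?_ ?_ ?_ ?_ ?_ ?_ ?_ ?_ hα₁ hα₂
    · rw [← Functor.map_comp, biprod.inl_fst, CategoryTheory.Functor.map_id]
    · rw [← Functor.map_comp, biprod.inr_snd, CategoryTheory.Functor.map_id]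
    · rw [← Functor.map_comp, biprod.inl_snd, Functor.map_zero]
    · rw [← Functor.map_comp, biprod.inr_fst, Functor.map_zero]
    · rw [← Functor.map_comp, ← Functor.map_comp, ← Functor.map_add, biprod.total,
        CategoryTheory.Functor.map_id]
    · rw [← Functor.map_comp, biprod.inl_fst, CategoryTheory.Functor.map_id]
    · rw [← Functor.map_comp, biprod.inr_snd, CategoryTheory.Functor.map_id]
    · rw [← Functor.map_comp, biprod.inl_snd, Functor.map_zero]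
    · rw [← Functor.map_comp, biprod.inr_fst, Functor.map_zero]
    · rw [← Functor.map_comp, ← Functor.map_comp, ← Functor.map_add, biprod.total,
        CategoryTheory.Functor.map_id]
  have hψ : MQI (a - 1) (ψ₀ ≫ e.hom) := hψ₀.comp (MQI.of_isIso _ _)
  have hP : DCoh.IsStrictlyPerfect (P₁ ⊞ P₂) := isStrictlyPerfect_biprod hP₁ hP₂
  obtain ⟨W, hxW, hW⟩ := exists_chain_map_rep hP (ψ₀ ≫ e.hom) ⟨x, hxV⟩
  obtain ⟨γ, hγ⟩ := hW
  have hQγ : DerivedCategory.Q.map γ =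
      (Scheme.Modules.restrictFunctor W.ι).mapDerivedCategoryFactors.inv.app (P₁ ⊞ P₂) ≫
        (DCoh.restrictD W.ι).map (ψ₀ ≫ e.hom) ≫
        (Scheme.Modules.restrictFunctor W.ι).mapDerivedCategoryFactors.hom.app F := by
    rw [hγ]
    simp
  have hmqi : MQI (a - 1) (DerivedCategory.Q.map γ) := by
    rw [hQγ]
    exact (MQI.of_isIso _ _).comp ((hψ.map _).comp (MQI.of_isIso _ _))
  -- data on W
  let rW := DCoh.restrictD W.ι
  let K' : DCoh.D (W : Scheme.{u}) := rW.obj (r.obj K)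
  have hzero : ∀ i : ℤ, i < a → IsZero ((DerivedCategory.homologyFunctor _ i).obj K') := by
    intro i hi
    refine isZero_of_retract (r ⋙ rW ⋙ DerivedCategory.homologyFunctor _ i)
      (biprod.inl : K ⟶ K ⊞ L) biprod.fst biprod.inl_fst ?_
    have e' : rW.obj (r.obj (K ⊞ L)) ≅ DerivedCategory.Q.obj ((DCoh.restrictCx W).obj F) :=
      rW.mapIso e ≪≫ restrictDObjIso W.ι (Iso.refl _)
    refine IsZero.of_iso ?_ ((DerivedCategory.homologyFunctor _ i).mapIso e' ≪≫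
      (DerivedCategory.homologyFunctorFactors _ i).app _)
    have hz : IsZero (((DCoh.restrictCx W).obj F).X i) :=
      Functor.map_isZero (Scheme.Modules.restrictFunctor W.ι) (hFv i (Or.inl hi))
    exact ShortComplex.isZero_homology_of_isZero_X₂ _ hz
  haveI : K'.IsGE a := by
    rw [DerivedCategory.isGE_iff]
    exact hzero
  let α : DerivedCategory.Q.obj ((DCoh.restrictCx W).obj P₁) ⟶ K' :=
    (Scheme.Modules.restrictFunctor W.ι).mapDerivedCategoryFactors.inv.app P₁ ≫ rW.map α₁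
  have hα : MQI (a - 1) α := (MQI.of_isIso _ _).comp (hα₁.map _)
  obtain ⟨⟨aP, bP, hPv⟩, hPf⟩ := id hP
  have hN1 := le_max_left bP b
  have hN2 := le_max_right bP b
  obtain ⟨hT, ⟨eT⟩⟩ := core_retract ((DCoh.restrictCx W).map (biprod.inl : P₁ ⟶ P₁ ⊞ P₂))
    ((DCoh.restrictCx W).map biprod.fst)
    (by rw [← Functor.map_comp, biprod.inl_fst, CategoryTheory.Functor.map_id]) γ a (max bP b)
    (isStrictlyPerfect_restrict W.ι hP₁)
    (fun j => isFlat_restrict W.ι _ (Groth.Agent.H28.LpullLoc.isFlat_of_isFinLocFree (hPf j)))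
    (fun j => isFlat_restrict W.ι _ (Groth.Agent.H28.LpullLoc.isFlat_of_isFinLocFree (hF.2 j)))
    (fun j hj => Functor.map_isZero (Scheme.Modules.restrictFunctor W.ι)
      (hPv j (Or.inr (by omega))))
    (fun j hj => Functor.map_isZero (Scheme.Modules.restrictFunctor W.ι)
      (hFv j (Or.inr (by omega))))
    (fun j hj => Functor.map_isZero (Scheme.Modules.restrictFunctor W.ι) (hFv j (Or.inl hj)))
    ⟨hmqi.1, hmqi.2⟩ K' α (fun i hi => hα.1 i (by omega))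
  obtain ⟨c⟩ := restrictD_comp_obj W.ι V.ι (W.ι ≫ V.ι) rfl K
  exact locPerfO_of_immersion (W.ι ≫ V.ι) (⟨⟨x, hxV⟩, hxW⟩ : (W : Scheme.{u})) hT (c ≪≫ eT)

end Groth.Agent.H28.PerfTor
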