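import Mathlib.CategoryTheory.Sites.Point.Over
import Mathlib.CategoryTheory.Sites.Point.Map
import Mathlib.CategoryTheory.Sites.CoversTop.Basic

/-!
# Helper library (helper28): enough points is local for a family covering the final object
-/

set_option autoImplicit false
universe u

open CategoryTheory Limits Opposite GrothendieckTopology

namespace Groth.Agent.H28.PointsCover

variable {C : Type u} [SmallCategory C] (J : GrothendieckTopology C)

open Point.ofIsCofiltered in
lemma pullback_mem_of_fibers {Xi : C} (P : ObjectProperty (Point.{u} (J.over Xi)))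
    [ObjectProperty.Small.{u} P]
    (hP : P.IsConservativeFamilyOfPoints) {Y Z : C} (S : Sieve Y) (f : Z ⟶ Y) (k : Z ⟶ Xi)
    (hS : ∀ (Ψ : P.FullSubcategory) (x : (Ψ.obj.map (Over.forget Xi) J).fiber.obj Y),
      ∃ (Y' : C) (g : Y' ⟶ Y) (_ : S g) (y : (Ψ.obj.map (Over.forget Xi) J).fiber.obj Y'),
        (Ψ.obj.map (Over.forget Xi) J).fiber.map g y = x) :
    S.pullback f ∈ J Z := by
  let Zo : Over Xi := Over.mk k
  let S' : Sieve Zo := (Sieve.overEquiv Zo).symm (S.pullback f)
  suffices hS' : S' ∈ (J.over Xi) Zo by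
    have h1 := (J.mem_over_iff S').1 hS'
    simp only [S', OrderIso.apply_symm_apply] at h1
    exact h1
  let κ := Σ (W : Over Xi), {q : W ⟶ Zo // S' q}
  refine (J.over Xi).superset_covering
    (S := Sieve.ofArrows (fun (a : κ) => a.1) (fun a => a.2.1)) ?_ ?_
  · rw [Sieve.ofArrows, Sieve.generate_le_iff, Presieve.ofArrows_le_iff]
    exact fun a => a.2.2
  · rw [hP.jointly_reflect_ofArrows_mem_of_small]
    intro Ψ x
    let p : Ψ.obj.fiber.Elements ⥤ C := CategoryOfElements.π Ψ.obj.fiber ⋙ Over.forget Xi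
    let U₂ : Ψ.obj.fiber.Elements := Ψ.obj.fiber.elementsMk Zo x
    let f' : p.obj U₂ ⟶ Y := f
    let ξ : (fiber.{u} p).obj Y := fiberMk (p := p) (U := U₂) f'
    obtain ⟨Y', g, hg, y, hy⟩ := hS Ψ ξ
    change (fiber.{u} p).obj Y' at y
    obtain ⟨U₁, a, rfl⟩ := fiberMk_jointly_surjective y
    replace hy : fiberMk.{u} (p := p) (a ≫ g) = fiberMk.{u} (p := p) (U := U₂) f' := by
      rw [← fiber_map_fiberMk]; exact hy
    let W := IsCofiltered.min U₁ U₂
    let r₁ : W ⟶ U₁ := IsCofiltered.minToLeft U₁ U₂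
    let r₂ : W ⟶ U₂ := IsCofiltered.minToRight U₁ U₂
    have h2 : fiberMk.{u} (p := p) (p.map r₁ ≫ a ≫ g) =
        fiberMk.{u} (p := p) (p.map r₂ ≫ f') := by
      rw [fiberMk_map_comp, fiberMk_map_comp]; exact hy
    obtain ⟨W', t, ht⟩ := exists_of_fiberMk_eq_fiberMk h2
    let q : W' ⟶ U₂ := t ≫ r₂
    have hq : S' q.1 := by
      change S ((q.1).left ≫ f)
      have e : (q.1).left ≫ f = (p.map t ≫ p.map r₁ ≫ a) ≫ g := by
        have h3 : p.map (t ≫ r₂) ≫ f' = (p.map t ≫ p.map r₁ ≫ a) ≫ g := by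
          rw [p.map_comp, Category.assoc, Category.assoc, Category.assoc]
          exact ht.symm
        exact h3
      rw [e]
      exact S.downward_closed hg _
    exact ⟨⟨W'.1, ⟨q.1, hq⟩⟩, W'.2, q.2⟩

/-- If a family of objects covers the final object and each localized site has enough points,
then so does the site. -/
theorem hasEnoughPoints_of_coversTop {ι : Type u} (X : ι → C) (hX : J.CoversTop X)
    (h : ∀ i, GrothendieckTopology.HasEnoughPoints.{u} (J.over (X i))) :
    GrothendieckTopology.HasEnoughPoints.{u} J := by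
  choose P hPs hP using fun i => (h i).exists_objectProperty
  have : ∀ i, ObjectProperty.Small.{u} (P i) := hPs
  refine ⟨ObjectProperty.ofObj (fun (ψ : Σ i, (P i).FullSubcategory) =>
    ψ.2.obj.map (Over.forget (X ψ.1)) J), inferInstance, ?_⟩
  refine ObjectProperty.IsConservativeFamilyOfPoints.mk' (fun Y S hS => ?_)
  refine J.transitive (hX Y) S (fun Z f hf => ?_)
  obtain ⟨i, ⟨k⟩⟩ := hf
  refine pullback_mem_of_fibers J (P i) (hP i) S f k (fun Ψ x => ?_)
  exact hS ⟨_, ObjectProperty.ofObj_apply _ (⟨i, Ψ⟩ : Σ i, (P i).FullSubcategory)⟩ x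

end Groth.Agent.H28.PointsCover
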