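import Mathlib
import Groth.Agent.H35.BCSquare
import Groth.Agent.H53.LBaseChange
import Groth.Agent.H64.RelFlat_P1
import Groth.Agent.H45.RelFlat_P2

/-!
# Tor-independent base change at the ring level, chart form (helper28)

`quasiIso_extCx_map_of_chart`: `R → D` flat, `R → R'` arbitrary, `B` a localisation of `D`,
`B'` flat over `R' ⊗_R D` compatibly with `D → B → B'`.  Extension of scalars along `B → B'`
preserves a quasi-isomorphism from a K-flat complex of `B`-modules to a bounded above complex of
`R`-flat `B`-modules.  (Pieces (P1) by helper64, (P2) by helper45.)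
-/

set_option autoImplicit false
set_option maxHeartbeats 400000
set_option linter.style.haveILetI false
universe u
open CategoryTheory CategoryTheory.Limits TensorProduct
attribute [local instance] HasDerivedCategory.standard
attribute [local instance] Algebra.TensorProduct.rightAlgebra

namespace Groth.Agent.H28.RelFlatRing

open DRing Groth.Agent.H35.FlatBC Groth.Agent.H35.BCSquare

/-- (P4) chart form of Tor-independent base change. -/
theorem quasiIso_extCx_map_of_chart {R D R' B B' : Type u} [CommRing R] [CommRing D]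
    [CommRing R'] [CommRing B] [CommRing B'] [Algebra R D] [Algebra R R'] [Module.Flat R D]
    (δ : D →+* B) (SD : Submonoid D) (hδ : letI := δ.toAlgebra; IsLocalization SD B)
    (φ : B →+* B') (θ : R' ⊗[R] D →+* B') (hθ : θ.Flat)
    (hθδ : θ.comp (incR (B₀ := R) (C₀ := D) (B₁ := R')) = φ.comp δ)
    {P E : Cx B} (α : P ⟶ E) (hα : QuasiIso α) (hP : DRing.IsKFlat B P) (b : ℤ)
    (hE : VanishesAbove E b)
    (hfl : ∀ i : ℤ, letI := Module.compHom (E.X i) (δ.comp (algebraMap R D));
      Module.Flat R (E.X i)) :
    QuasiIso ((extCx φ).map α) := by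
  obtain ⟨e⟩ := Groth.Agent.H45.RelFlatP2.nonempty_extendScalars_comp_iso_of_isLocalization
    δ SD hδ φ
  have hδflat : δ.Flat := by
    letI := δ.toAlgebra
    haveI := hδ
    exact IsLocalization.flat B SD
  have hα₀ : QuasiIso ((DRing.restrictCx δ).map α) := by
    haveI := hα
    show QuasiIso (((ModuleCat.restrictScalars δ).mapHomologicalComplex (ComplexShape.up ℤ)).map α)
    infer_instance
  have hP₀ : DRing.IsKFlat D ((DRing.restrictCx δ).obj P) := isKFlat_resCx δ hδflat P hP
  have hE₀ : VanishesAbove ((DRing.restrictCx δ).obj E) b :=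
    fun i hi => Functor.map_isZero (ModuleCat.restrictScalars δ) (hE i hi)
  have hfl₀ : TermwiseFlat ((DRing.restrictCx (algebraMap R D)).obj
      ((DRing.restrictCx δ).obj E)) := fun i => hfl i
  have h1 := Groth.Agent.H64.RelFlat_P1.quasiIso_extCx_incR (R' := R')
    ((DRing.restrictCx δ).map α) hα₀ hP₀ b hE₀ hfl₀
  have h2 : QuasiIso ((extCx θ).map ((extCx (incR (B₀ := R) (C₀ := D) (B₁ := R'))).map
      ((DRing.restrictCx δ).map α))) := by
    haveI : PreservesFiniteLimits (ext θ) :=
      ModuleCat.preservesFiniteLimits_extendScalars_of_flat hθ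
    haveI : PreservesFiniteColimits (ext θ) := inferInstance
    haveI := h1
    infer_instance
  have h3 : QuasiIso ((extCx (θ.comp (incR (B₀ := R) (C₀ := D) (B₁ := R')))).map
      ((DRing.restrictCx δ).map α)) :=
    (Groth.Agent.H53.LBaseChange.quasiIso_iff_of_natIso
      (ModuleCat.extendScalarsComp (incR (B₀ := R) (C₀ := D) (B₁ := R')) θ)
      ((DRing.restrictCx δ).map α)).2 h2
  rw [hθδ] at h3
  exact (Groth.Agent.H53.LBaseChange.quasiIso_iff_of_natIso e α).1 h3

end Groth.Agent.H28.RelFlatRing
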