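import Mathlib
import Groth.Agent.H28.RelFlatRing
import Groth.Agent.H28.LpullLoc3
import Groth.Agent.H28.FlatDescent
import Groth.Agent.H8.FlatBaseChange
import Groth.Agent.H22.RelFlat_P3
import Groth.Agent.S0955

/-!
# Base change of complexes of `S`-flat modules along an arbitrary `S' ⟶ S` (helper28)
-/

set_option autoImplicit false
set_option maxHeartbeats 400000
set_option linter.style.haveILetI false
universe u
open CategoryTheory CategoryTheory.Limits AlgebraicGeometry TopologicalSpace Opposite TensorProduct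

attribute [local instance] HasDerivedCategory.standard
attribute [local instance] Algebra.TensorProduct.rightAlgebra

namespace Groth.Agent.H28.RelFlatBC

open Groth.Agent.H31.Stalk Groth.Agent.H31 Groth.Agent.H31.KFlat Groth.Agent.H40.StalkTensor
  Groth.Agent.H40.FlatBridge2 Groth.Agent.H40.LeftDer Groth.Agent.H40.LTensorComp
  Groth.Agent.H40.LTensorDCoh

variable {X S X' S' : Scheme.{u}} {f : X ⟶ S} {g : S' ⟶ S} {f' : X' ⟶ S'} {g' : X' ⟶ X}

/-- (SB) base change of flatness over the base. -/
theorem isFlatOver_pullback (h : IsPullback g' f' f g) (M : X.Modules)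
    (hM : FlatMod.IsFlatOver f M) :
    FlatMod.IsFlatOver f' ((Scheme.Modules.pullback g').obj M) := by
  intro x'
  letI := (g'.stalkMap x').hom.toAlgebra
  let e0 := ((Groth.Agent.H28.StalkTor.stalkFunctorPullbackIso g' x').app M).toLinearEquiv
  exact Groth.Agent.H8.flat_stalk_baseChange h x' (M.presheaf.stalk (g' x'))
    (((Scheme.Modules.pullback g').obj M).presheaf.stalk x') e0 (hM (g' x'))

lemma flat_compHom_congr {R A M : Type u} [CommRing R] [CommRing A] [AddCommGroup M] [Module A M]
    (φ₁ φ₂ : R →+* A) (h : φ₁ = φ₂)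
    (H : letI := Module.compHom M φ₁; Module.Flat R M) :
    letI := Module.compHom M φ₂; Module.Flat R M := by
  subst h; exact H

set_option backward.isDefEq.respectTransparency false in
/-- (SC) `g'^*` preserves quasi-isomorphisms from K-flat complexes to bounded complexes of
`S`-flat modules, when `f` is flat. -/
theorem quasiIso_pullback_map_of_isFlatOver (h : IsPullback g' f' f g) [Flat f]
    {P E : CochainComplex X.Modules ℤ} (α : P ⟶ E) (hα : QuasiIso α) (hP : DCoh.IsKFlat P)
    (a b : ℤ) (hE : DCoh.VanishesOutside E a b) (hfl : ∀ i : ℤ, FlatMod.IsFlatOver f (E.X i)) :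
    QuasiIso (((Scheme.Modules.pullback g').mapHomologicalComplex (ComplexShape.up ℤ)).map α) := by
  apply quasiIso_of_stk (O := shX X')
  intro x'
  have i1 : Functor.Additive (C := X'.Modules) (D := ModuleCat.{u} (Rx (shX X').obj x'))
    (stk (shX X') x') := stk_additive (shX X') x'
  have i2 : Functor.Additive (C := X.Modules) (D := ModuleCat.{u} (Rx (shX X).obj (g' x')))
    (stk (shX X) (g' x')) := stk_additive (shX X) (g' x')
  have i3 : Functor.Additive (C := X.Modules) (Scheme.Modules.pullback g' ⋙ stk (shX X') x') :=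
    inferInstance
  have i4 : Functor.Additive (C := X.Modules)
      (stk (shX X) (g' x') ⋙ ModuleCat.extendScalars.{u, u, u} (φx g' x')) := inferInstance
  have hP' := (isKFlat_iff_stalk (O := shX X) P).1 hP (g' x')
  have i5 : (stk (shX X) (g' x')).PreservesHomology := inferInstance
  have hα' : QuasiIso (((stk (shX X) (g' x')).mapHomologicalComplex (ComplexShape.up ℤ)).map α) :=
    inferInstance
  -- charts
  have hpt : g (f' x') = f (g' x') := by
    have := congrArg (fun φ : X' ⟶ S => φ x') h.w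
    simpa using this.symm
  obtain ⟨V, hV, hsV, -⟩ := exists_isAffineOpen_mem_and_subset (x := f (g' x'))
    (U := (⊤ : S.Opens)) trivial
  have hs'V : f' x' ∈ g ⁻¹ᵁ V := by
    show g (f' x') ∈ V
    rw [hpt]; exact hsV
  obtain ⟨V', hV', hs'V', hVV'⟩ := exists_isAffineOpen_mem_and_subset (x := f' x')
    (U := g ⁻¹ᵁ V) hs'V
  obtain ⟨U, hU, hxU, hUV⟩ := exists_isAffineOpen_mem_and_subset (x := g' x')
    (U := f ⁻¹ᵁ V) hsV
  letI a1 : Algebra Γ(S, V) Γ(X, U) := (f.appLE V U hUV).hom.toAlgebra
  letI a2 : Algebra Γ(S, V) Γ(S', V') := (g.appLE V V' hVV').hom.toAlgebra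
  haveI fl1 : Module.Flat Γ(S, V) Γ(X, U) :=
    HasRingHomProperty.appLE @Flat f inferInstance ⟨V, hV⟩ ⟨U, hU⟩ hUV
  obtain ⟨θ, hθ, hθδ⟩ := Groth.Agent.H22.RelFlatP3.exists_flat_chart_map h hV hV' hU hVV' hUV x' hxU hs'V'
  have hδ : letI := (X.presheaf.germ U (g' x') hxU).hom.toAlgebra
      IsLocalization (hU.primeIdealOf ⟨g' x', hxU⟩).asIdeal.primeCompl
        (X.presheaf.stalk (g' x')) := hU.isLocalization_stalk ⟨g' x', hxU⟩
  have hE' : DRing.VanishesAbove
      (((stk (shX X) (g' x')).mapHomologicalComplex (ComplexShape.up ℤ)).obj E) b :=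
    fun i hi => Functor.map_isZero (stk (shX X) (g' x')) (hE i (Or.inr hi))
  have h1 := Groth.Agent.H28.RelFlatRing.quasiIso_extCx_map_of_chart
    (R := Γ(S, V)) (D := Γ(X, U)) (R' := Γ(S', V')) (B := X.presheaf.stalk (g' x'))
    (B' := X'.presheaf.stalk x')
    (X.presheaf.germ U (g' x') hxU).hom _ hδ (g'.stalkMap x').hom θ hθ hθδ
    (((stk (shX X) (g' x')).mapHomologicalComplex (ComplexShape.up ℤ)).map α) hα' hP' b hE' ?_
  · have h2 : QuasiIso (((stk (shX X) (g' x') ⋙
        ModuleCat.extendScalars.{u, u, u} (φx g' x')).mapHomologicalComplex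
          (ComplexShape.up ℤ)).map α) := h1
    exact (Groth.Agent.H53.LBaseChange.quasiIso_iff_of_natIso (stkPullbackIso g' x') α).2 h2
  · intro i
    have h0 := hfl i (g' x')
    have heq : (f.stalkMap (g' x')).hom.comp (S.presheaf.germ V (f (g' x')) hsV).hom =
        (X.presheaf.germ U (g' x') hxU).hom.comp (algebraMap Γ(S, V) Γ(X, U)) :=
      congrArg CommRingCat.Hom.hom (Groth.Agent.H8.germ_stalkMap_eq f hUV (g' x') hxU)
    refine flat_compHom_congr (M := (E.X i).presheaf.stalk (g' x')) _ _ heq ?_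
    letI mA : Module (S.presheaf.stalk (f (g' x'))) ((E.X i).presheaf.stalk (g' x')) :=
      Module.compHom _ (f.stalkMap (g' x')).hom
    letI c1 : Algebra Γ(S, V) (S.presheaf.stalk (f (g' x'))) :=
      S.presheaf.algebra_section_stalk ⟨f (g' x'), hsV⟩
    haveI l3 := hV.isLocalization_stalk ⟨f (g' x'), hsV⟩
    letI mR : Module Γ(S, V) ((E.X i).presheaf.stalk (g' x')) :=
      Module.compHom _ ((f.stalkMap (g' x')).hom.comp (S.presheaf.germ V (f (g' x')) hsV).hom)
    haveI t7 : IsScalarTower Γ(S, V) (S.presheaf.stalk (f (g' x')))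
        ((E.X i).presheaf.stalk (g' x')) :=
      IsScalarTower.of_algebraMap_smul fun r m => rfl
    exact (Module.flat_iff_of_isLocalization (S.presheaf.stalk (f (g' x')))
      (hV.primeIdealOf ⟨f (g' x'), hsV⟩).asIdeal.primeCompl
      ((E.X i).presheaf.stalk (g' x'))).mp h0

/-- (GEN) derived pullback of a bounded complex of `S`-flat modules is computed termwise and stays
flat over the new base. -/
theorem gen (h : IsPullback g' f' f g) [Flat f] [DCoh.HasLpull g']
    (E : CochainComplex X.Modules ℤ) (a b : ℤ) (hE : DCoh.VanishesOutside E a b)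
    (hfl : ∀ i : ℤ, FlatMod.IsFlatOver f (E.X i)) :
    (∀ i : ℤ, FlatMod.IsFlatOver f' ((Scheme.Modules.pullback g').obj (E.X i))) ∧
      Nonempty ((DCoh.Lpull g').obj (DerivedCategory.Q.obj E) ≅ DerivedCategory.Q.obj
        (((Scheme.Modules.pullback g').mapHomologicalComplex (ComplexShape.up ℤ)).obj E)) := by
  refine ⟨fun i => isFlatOver_pullback h _ (hfl i), ?_⟩
  obtain ⟨P, q, hP, -, hq, -⟩ := Groth.Agent.S0955.result E
  have hq' := quasiIso_pullback_map_of_isFlatOver h q hq hP a b hE hfl
  haveI := hq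
  haveI := hq'
  exact ⟨(DCoh.Lpull g').mapIso (asIso (DerivedCategory.Q.map q)).symm ≪≫
    Groth.Agent.H31.Stalk.LpullObjIso g' P hP ≪≫ asIso (DerivedCategory.Q.map
      (((Scheme.Modules.pullback g').mapHomologicalComplex (ComplexShape.up ℤ)).map q))⟩

end Groth.Agent.H28.RelFlatBC
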