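import Mathlib
import Groth.Agent.H28.RelPCBC
import Groth.Agent.H28.PCDescentSch
import Groth.Agent.H6.RpushQC

/-!
# fpqc descent of relative pseudo-coherence (chart form) (helper28)
-/

set_option autoImplicit false
set_option maxHeartbeats 400000
set_option linter.style.haveILetI false
universe u
open CategoryTheory CategoryTheory.Limits AlgebraicGeometry TopologicalSpace Opposite

attribute [local instance] HasDerivedCategory.standard

namespace Groth.Agent.H28.RelPCDesc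

open Groth.Agent.H90.Chart Groth.Agent.H90.TPC Groth.Agent.H28.RelPCBC Groth.Agent.H87.RelPC

/-- (COV) -/
theorem isPC_of_finite_flat_cover {Z : Scheme.{u}} [IsAffine Z] {J : Type u} [Finite J]
    (Z' : J → Scheme.{u}) [∀ j, IsAffine (Z' j)] (q : ∀ j, Z' j ⟶ Z) [∀ j, Flat (q j)]
    [∀ j, DCoh.HasLpull (q j)]
    (hsurj : ∀ z : Z, ∃ (j : J) (z' : Z' j), q j z' = z)
    (T : DCoh.D Z) (hT : DCoh.IsQCohD T) (n : ℤ)
    (h : ∀ j, DCoh.IsPseudoCoherentD n ((DCoh.Lpull (q j)).obj T)) :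
    DCoh.IsPseudoCoherentD n T := by
  let p : (∐ Z') ⟶ Z := Sigma.desc q
  haveI : Flat p := inferInstance
  haveI : Surjective p := ⟨fun z => by
    obtain ⟨j, z', rfl⟩ := hsurj z
    refine ⟨Sigma.ι Z' j z', ?_⟩
    rw [← Scheme.Hom.comp_apply, Sigma.ι_desc]⟩
  haveI : QuasiCompact p := inferInstance
  haveI : DCoh.HasLpull p := Groth.Agent.H31.Stalk.hasLpull p
  refine Groth.Agent.H28.PCDescentSch.isPseudoCoherentD_of_Lpull p T hT n ?_
  rw [Groth.Agent.H90.SPerf.isPC_iff]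
  intro x
  obtain ⟨⟨j, y⟩, rfl⟩ := (sigmaMk Z').surjective x
  rw [sigmaMk_mk]
  haveI : DCoh.HasLpull (Sigma.ι Z' j) := Groth.Agent.H31.Stalk.hasLpull _
  haveI : DCoh.HasLpull (Sigma.ι Z' j ≫ p) := Groth.Agent.H31.Stalk.hasLpull _
  apply Groth.Agent.H90.LR.locPC_of_restrict (Sigma.ι Z' j)
  have e : (DCoh.Lpull (q j)).obj T ≅
      (DCoh.restrictD (Sigma.ι Z' j)).obj ((DCoh.Lpull p).obj T) :=
    ((Groth.Agent.H28.PCDescentSch.LpullCongr (Sigma.ι_desc q j)).app T).symm ≪≫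
      ((Groth.Agent.H31.Stalk.LpullCompIso (Sigma.ι Z' j) p).app T).symm ≪≫
      (Groth.Agent.H28.PCDescentSch.nonempty_Lpull_iso_restrictD (Sigma.ι Z' j) _).some
  exact (Groth.Agent.H90.SPerf.isPC_iff n _).1 (isPC_of_iso e (h j)) y

attribute [local instance] MvPolynomial.algebraMvPolynomial in
/-- The affine space over `R'` is the base change of the affine space over `R`. -/
theorem isPullback_Spec_mvPolynomial {R R' : Type u} [CommRing R] [CommRing R'] (ψ : R →+* R')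
    (σ : Type) :
    IsPullback (Spec.map (CommRingCat.ofHom (MvPolynomial.map (σ := σ) ψ)))
      (Spec.map (CommRingCat.ofHom (MvPolynomial.C : R' →+* MvPolynomial σ R')))
      (Spec.map (CommRingCat.ofHom (MvPolynomial.C : R →+* MvPolynomial σ R)))
      (Spec.map (CommRingCat.ofHom ψ)) := by
  letI : Algebra R R' := ψ.toAlgebra
  have := CommRingCat.isPushout_of_isPushout R (MvPolynomial σ R) R' (MvPolynomial σ R')
  exact isPullback_SpecMap_of_isPushout _ _ _ _ this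

/-- (JS) -/
theorem exists_finite_affine_cover_surj {Y Y' : Scheme.{u}} (h : Y' ⟶ Y) [Surjective h]
    [QuasiCompact h] {V : Y.Opens} (hV : IsAffineOpen V) :
    ∃ (I : Set Y'.affineOpens), I.Finite ∧
      ∃ hle : ∀ V' ∈ I, ((V' : Y'.affineOpens) : Y'.Opens) ≤ h ⁻¹ᵁ V,
        ∀ (k : ℕ) (z : Spec (CommRingCat.of (MvPolynomial (Fin k) Γ(Y, V)))),
          ∃ (V' : Y'.affineOpens) (hV' : V' ∈ I)
            (z' : Spec (CommRingCat.of (MvPolynomial (Fin k) Γ(Y', (V' : Y'.Opens))))),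
            (Spec.map (CommRingCat.ofHom (MvPolynomial.map (σ := Fin k)
              (h.appLE V (V' : Y'.Opens) (hle V' hV')).hom))) z' = z := by
  have hW : IsCompact (X := Y') (h ⁻¹ᵁ V) := h.isCompact_preimage hV.isCompact
  obtain ⟨I, hI, e⟩ := isCompact_iff_finite_and_eq_biUnion_affineOpens.mp hW
  have hle : ∀ V' ∈ I, ((V' : Y'.affineOpens) : Y'.Opens) ≤ h ⁻¹ᵁ V := by
    intro V' hV'
    rw [e]
    exact le_iSup₂ (f := fun (i : Y'.affineOpens) (_ : i ∈ I) => (i : Y'.Opens)) V' hV'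
  refine ⟨I, hI, hle, ?_⟩
  intro k z
  let w : Spec Γ(Y, V) := Spec.map (CommRingCat.ofHom
    (MvPolynomial.C : Γ(Y, V) →+* MvPolynomial (Fin k) Γ(Y, V))) z
  obtain ⟨y', hy'⟩ := h.surjective (hV.fromSpec w)
  have hy'V : y' ∈ h ⁻¹ᵁ V := by
    show h y' ∈ (V : Set Y)
    rw [hy', ← hV.range_fromSpec]
    exact ⟨w, rfl⟩
  rw [e] at hy'V
  simp only [Opens.mem_iSup] at hy'V
  obtain ⟨V', hV'I, hy'V'⟩ := hy'V
  have hr : y' ∈ Set.range V'.2.fromSpec := by
    rw [V'.2.range_fromSpec]; exact hy'V'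
  obtain ⟨w', hw'⟩ := hr
  have hw : Spec.map (h.appLE V (V' : Y'.Opens) (hle V' hV'I)) w' = w := by
    apply hV.fromSpec.isOpenEmbedding.injective
    rw [← Scheme.Hom.comp_apply, IsAffineOpen.SpecMap_appLE_fromSpec h hV V'.2 (hle V' hV'I),
      Scheme.Hom.comp_apply, hw', hy']
  have sq := isPullback_Spec_mvPolynomial (h.appLE V (V' : Y'.Opens) (hle V' hV'I)).hom (Fin k)
  obtain ⟨t, ht1, ht2⟩ := Scheme.Pullback.exists_preimage_pullback
    (f := Spec.map (CommRingCat.ofHom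
      (MvPolynomial.C : Γ(Y, V) →+* MvPolynomial (Fin k) Γ(Y, V))))
    (g := Spec.map (CommRingCat.ofHom (h.appLE V (V' : Y'.Opens) (hle V' hV'I)).hom)) z w'
    hw.symm
  refine ⟨V', hV'I, sq.isoPullback.inv t, ?_⟩
  rw [← Scheme.Hom.comp_apply, sq.isoPullback_inv_fst]
  exact ht1

/-- (QC) -/
theorem isQCohD_push_restrict {X Z : Scheme.{u}} {U : X.Opens} (_hU : IsAffineOpen U) [IsAffine Z]
    (i : (U : Scheme.{u}) ⟶ Z) [IsClosedImmersion i] (E : DCoh.D X) (hE : DCoh.IsQCohD E) :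
    DCoh.IsQCohD ((Scheme.Modules.pushforward i).mapDerivedCategory.obj
      ((Scheme.Modules.restrictFunctor U.ι).mapDerivedCategory.obj E)) := by
  haveI : DCoh.HasLpull U.ι := Groth.Agent.H31.Stalk.hasLpull _
  haveI : DCoh.HasRpush i := Groth.Agent.H31.RpushSupport.hasRpush i
  have h1 : DCoh.IsQCohD ((DCoh.Lpull U.ι).obj E) :=
    Groth.Agent.H6.LpullQCoh.isQCohD_Lpull U.ι E hE
  obtain ⟨e1⟩ := Groth.Agent.H28.PCDescentSch.nonempty_Lpull_iso_restrictD U.ι E
  have h2 : DCoh.IsQCohD ((Scheme.Modules.restrictFunctor U.ι).mapDerivedCategory.obj E) :=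
    fun p => Groth.Agent.H6.LpullQCoh.qc_of_iso
      ((DerivedCategory.homologyFunctor _ p).mapIso e1) (h1 p)
  have h3 := Groth.Agent.H6.RpushQC.isQCohD_Rpush i _ h2
  let K := DerivedCategory.Q.objPreimage
    ((Scheme.Modules.restrictFunctor U.ι).mapDerivedCategory.obj E)
  let eK : DerivedCategory.Q.obj K ≅
      (Scheme.Modules.restrictFunctor U.ι).mapDerivedCategory.obj E :=
    DerivedCategory.Q.objObjPreimageIso _
  let e2 : (DCoh.Rpush i).obj ((Scheme.Modules.restrictFunctor U.ι).mapDerivedCategory.obj E) ≅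
      (Scheme.Modules.pushforward i).mapDerivedCategory.obj
        ((Scheme.Modules.restrictFunctor U.ι).mapDerivedCategory.obj E) :=
    (DCoh.Rpush i).mapIso eK.symm ≪≫ Groth.Agent.H31.ProjCI.RpushObjIso i K ≪≫
      ((Scheme.Modules.pushforward i).mapDerivedCategoryFactors.app K).symm ≪≫
      (Scheme.Modules.pushforward i).mapDerivedCategory.mapIso eK
  exact fun p => Groth.Agent.H6.LpullQCoh.qc_of_iso
    ((DerivedCategory.homologyFunctor _ p).mapIso e2) (h3 p)

/-- (A) flat base change for the direct image along a closed immersion, on complexes. -/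
theorem nonempty_Lpull_push_iso {U Z U' Z' : Scheme.{u}}
    {i : U ⟶ Z} {q : Z' ⟶ Z} {i' : U' ⟶ Z'} {g' : U' ⟶ U} (sq : IsPullback g' i' i q)
    [IsClosedImmersion i] [IsClosedImmersion i'] [Flat q] [DCoh.HasLpull q]
    (K : CochainComplex U.Modules ℤ) :
    Nonempty ((DCoh.Lpull q).obj (DerivedCategory.Q.obj ((DerSch.pushCx i).obj K)) ≅
      DerivedCategory.Q.obj ((DerSch.pushCx i').obj
        (((Scheme.Modules.pullback g').mapHomologicalComplex (ComplexShape.up ℤ)).obj K))) := by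
  obtain ⟨e⟩ := nonempty_pushforward_pullback_iso_of_isClosedImmersion sq
  let e1 : (DCoh.Lpull q).obj (DerivedCategory.Q.obj ((DerSch.pushCx i).obj K)) ≅
      DerivedCategory.Q.obj (((Scheme.Modules.pullback q).mapHomologicalComplex
        (ComplexShape.up ℤ)).obj ((DerSch.pushCx i).obj K)) :=
    (Groth.Agent.H28.FppfPC.LpullIsoMap q).app _ ≪≫
      (Scheme.Modules.pullback q).mapDerivedCategoryFactors.app _
  let e2 : ((Scheme.Modules.pullback q).mapHomologicalComplex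
        (ComplexShape.up ℤ)).obj ((DerSch.pushCx i).obj K) ≅
      (DerSch.pushCx i').obj
        (((Scheme.Modules.pullback g').mapHomologicalComplex (ComplexShape.up ℤ)).obj K) :=
    (NatIso.mapHomologicalComplex e (ComplexShape.up ℤ)).app K
  exact ⟨e1 ≪≫ DerivedCategory.Q.mapIso e2⟩

/-- (B) the chart test for `Lg^* E` on the product chart gives pseudo-coherence of the pull-back
of the chart object of `E`. -/
theorem isPC_Lpull_chart {X S X' S' : Scheme.{u}} {f : X ⟶ S} {h : S' ⟶ S} {f' : X' ⟶ S'}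
    {g : X' ⟶ X} (sq : IsPullback g f' f h) [Flat h] [DCoh.HasLpull g]
    {V : S.Opens} {V' : S'.Opens} {U : X.Opens}
    (hV : IsAffineOpen V) (hV' : IsAffineOpen V') (hU : IsAffineOpen U)
    (hVV' : V' ≤ h ⁻¹ᵁ V) (hUV : U ≤ f ⁻¹ᵁ V) (n : ℤ) (E : DCoh.D X) {k : ℕ}
    (φ : MvPolynomial (Fin k) Γ(S, V) →+* Γ(X, U)) (hφ : DerSch.IsChart f U V hUV φ)
    [IsClosedImmersion (imm U φ)]
    [DCoh.HasLpull (Spec.map (CommRingCat.ofHom
      (MvPolynomial.map (σ := Fin k) (h.appLE V V' hVV').hom)))]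
    (hE : DerSch.IsPseudoCoherentRel f' n ((DCoh.Lpull g).obj E)) :
    DCoh.IsPseudoCoherentD n ((DCoh.Lpull (Spec.map (CommRingCat.ofHom
      (MvPolynomial.map (σ := Fin k) (h.appLE V V' hVV').hom)))).obj
      ((Scheme.Modules.pushforward (imm U φ)).mapDerivedCategory.obj
        ((Scheme.Modules.restrictFunctor U.ι).mapDerivedCategory.obj E))) := by
  obtain ⟨φ', gU, hφ', hgU, sqU⟩ := exists_chart_baseChange sq hV hV' hU hVV' hUV φ hφ
  have hU' : IsAffineOpen (g ⁻¹ᵁ U ⊓ f' ⁻¹ᵁ V') :=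
    Groth.Agent.H8.isAffineOpen_prodOpen sq hV hV' hVV' hU hUV
  haveI : IsClosedImmersion (DerSch.chartImm U φ) := ‹IsClosedImmersion (imm U φ)›
  haveI : IsClosedImmersion (DerSch.chartImm (g ⁻¹ᵁ U ⊓ f' ⁻¹ᵁ V') φ') :=
    isClosedImmersion_imm hU' φ' hφ'.1
  haveI := flat_Spec_map_mvPolynomial_map h hV hV' hVV' k
  obtain ⟨G, hG, ⟨eG⟩⟩ := Groth.Agent.H28.LpullLoc.exists_kflat_rep E
  have e : DCoh.toD X' (((Scheme.Modules.pullback g).mapHomologicalComplex
      (ComplexShape.up ℤ)).obj G) ≅ (DCoh.Lpull g).obj E :=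
    (Groth.Agent.H31.Stalk.LpullObjIso g G hG).symm ≪≫ (DCoh.Lpull g).mapIso eG
  have hgood := good_of_isPseudoCoherentRel hE hU' hV' inf_le_right
  have hPC := chartPC_of_good hgood φ' hφ'
  have h1 := hPC _ ⟨e⟩
  let e3 := (NatIso.mapHomologicalComplex (restrictPullbackIso g U _ gU hgU)
    (ComplexShape.up ℤ)).app G
  have h2 := isPC_of_iso (DerivedCategory.Q.mapIso
    ((DerSch.pushCx (DerSch.chartImm (g ⁻¹ᵁ U ⊓ f' ⁻¹ᵁ V') φ')).mapIso e3)) h1
  obtain ⟨e4⟩ := nonempty_Lpull_push_iso sqU ((DCoh.restrictCx U).obj G)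
  have h3 := isPC_of_iso e4.symm h2
  have e5 : DCoh.toD (Spec (CommRingCat.of (MvPolynomial (Fin k) Γ(S, V))))
      ((DerSch.pushCx (imm U φ)).obj ((DCoh.restrictCx U).obj G)) ≅
      (Scheme.Modules.pushforward (imm U φ)).mapDerivedCategory.obj
        ((Scheme.Modules.restrictFunctor U.ι).mapDerivedCategory.obj E) :=
    ((Scheme.Modules.pushforward (imm U φ)).mapDerivedCategoryFactors.app
        ((DCoh.restrictCx U).obj G)).symm ≪≫
      (Scheme.Modules.pushforward (imm U φ)).mapDerivedCategory.mapIso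
        (((Scheme.Modules.restrictFunctor U.ι).mapDerivedCategoryFactors.app G).symm ≪≫
          (Scheme.Modules.restrictFunctor U.ι).mapDerivedCategory.mapIso eG)
  exact isPC_of_iso ((DCoh.Lpull _).mapIso e5) h3

/-- The chart object of `E` is pseudo-coherent when `Lg^* E` is relatively pseudo-coherent. -/
theorem isPC_chartD_of_Lpull {X Y Y' : Scheme.{u}} (f : X ⟶ Y)
    (h : Y' ⟶ Y) [Flat h] [Surjective h] [QuasiCompact h] [DCoh.HasLpull (pullback.fst f h)]
    (n : ℤ) (E : DCoh.D X) (hq : DCoh.IsQCohD E)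
    (hE : DerSch.IsPseudoCoherentRel (pullback.snd f h) n
      ((DCoh.Lpull (pullback.fst f h)).obj E))
    {U : X.Opens} {V : Y.Opens} (hU : IsAffineOpen U) (hV : IsAffineOpen V)
    (hUV : U ≤ f ⁻¹ᵁ V) {k : ℕ} (φ : MvPolynomial (Fin k) Γ(Y, V) →+* Γ(X, U))
    (hφ : DerSch.IsChart f U V hUV φ) [IsClosedImmersion (imm U φ)] :
    DCoh.IsPseudoCoherentD n ((Scheme.Modules.pushforward (imm U φ)).mapDerivedCategory.obj
      ((Scheme.Modules.restrictFunctor U.ι).mapDerivedCategory.obj E)) := by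
  have sq : IsPullback (pullback.fst f h) (pullback.snd f h) f h := IsPullback.of_hasPullback f h
  obtain ⟨I, hI, hle, hs⟩ := exists_finite_affine_cover_surj h hV
  haveI : Finite I := hI.to_subtype
  let Z' : I → Scheme.{u} :=
    fun j => Spec (CommRingCat.of (MvPolynomial (Fin k) Γ(Y', (j.1 : Y'.Opens))))
  let q : ∀ j : I, Z' j ⟶ Spec (CommRingCat.of (MvPolynomial (Fin k) Γ(Y, V))) :=
    fun j => Spec.map (CommRingCat.ofHom (MvPolynomial.map (σ := Fin k)
      (h.appLE V (j.1 : Y'.Opens) (hle j.1 j.2)).hom))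
  haveI hZ' : ∀ j : I, IsAffine (Z' j) := fun j => by dsimp only [Z']; infer_instance
  haveI hfl : ∀ j : I, Flat (q j) :=
    fun j => flat_Spec_map_mvPolynomial_map h hV j.1.2 (hle j.1 j.2) k
  haveI hLp : ∀ j : I, DCoh.HasLpull (q j) := fun j => Groth.Agent.H31.Stalk.hasLpull _
  have hsurj : ∀ z : Spec (CommRingCat.of (MvPolynomial (Fin k) Γ(Y, V))),
      ∃ (j : I) (z' : Z' j), q j z' = z := by
    intro z
    obtain ⟨V', hV', z', hz'⟩ := hs k z
    exact ⟨⟨V', hV'⟩, z', hz'⟩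
  have hj : ∀ j : I, DCoh.IsPseudoCoherentD n ((DCoh.Lpull (q j)).obj
      ((Scheme.Modules.pushforward (imm U φ)).mapDerivedCategory.obj
        ((Scheme.Modules.restrictFunctor U.ι).mapDerivedCategory.obj E))) :=
    fun j => isPC_Lpull_chart sq hV j.1.2 hU (hle j.1 j.2) hUV n E φ hφ hE
  exact isPC_of_finite_flat_cover Z' q hsurj _ (isQCohD_push_restrict hU (imm U φ) E hq) n hj

/-- fpqc descent of relative pseudo-coherence (chart form). -/
theorem isPseudoCoherentRel_of_Lpull {X Y Y' : Scheme.{u}} (f : X ⟶ Y) [LocallyOfFiniteType f]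
    (h : Y' ⟶ Y) [Flat h] [Surjective h] [QuasiCompact h] [DCoh.HasLpull (pullback.fst f h)]
    (n : ℤ) (E : DCoh.D X) (hq : DCoh.IsQCohD E)
    (hE : DerSch.IsPseudoCoherentRel (pullback.snd f h) n
      ((DCoh.Lpull (pullback.fst f h)).obj E)) :
    DerSch.IsPseudoCoherentRel f n E := by
  refine isPseudoCoherentRel_of_forall_good inferInstance (fun U V hUV => ?_)
  obtain ⟨k, φ, hφ⟩ := exists_isChart (f := f) inferInstance U.2 V.2 hUV
  refine ⟨k, φ, hφ, ?_⟩
  haveI := isClosedImmersion_imm U.2 φ hφ.1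
  have key := isPC_chartD_of_Lpull f h n E hq hE U.2 V.2 hUV φ hφ
  exact (chartPC_iff_chartD U.2 φ hφ.1 n E).2 key

end Groth.Agent.H28.RelPCDesc
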