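import Mathlib
import Groth.Agent.H28.PerfTor4
import Groth.Prelude.Def_DCoh3
import Groth.Agent.H8.FlatExact
import Groth.Agent.H45.FpqcFlatDescent
import Groth.Agent.H90.RelPerf
import Groth.Agent.H31.StalkExact

set_option autoImplicit false
set_option maxHeartbeats 400000
set_option linter.style.haveILetI false
universe u
open CategoryTheory CategoryTheory.Limits AlgebraicGeometry HomologicalComplex
attribute [local instance] HasDerivedCategory.standard

namespace Groth.Agent.H28.RelPerfFlat

open Groth.Agent.H31 Groth.Agent.H31.Stalk CochainComplex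

variable {Z S : Scheme.{u}} (g : Z ⟶ S)

set_option backward.isDefEq.respectTransparency false in
/-- In a short exact sequence with right term flat over the base, the middle term is flat over
the base iff the left term is. -/
theorem flatOver_iff_of_shortExact (T : ShortComplex Z.Modules) (hT : T.ShortExact)
    (h₃ : FlatMod.IsFlatOver g T.X₃) :
    FlatMod.IsFlatOver g T.X₂ ↔ FlatMod.IsFlatOver g T.X₁ := by
  have key : ∀ x : Z, FlatMod.IsFlatOverAt g T.X₂ x ↔ FlatMod.IsFlatOverAt g T.X₁ x := by
    intro x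
    let T' : ShortComplex (ModSite.Mod (shX Z)) := T
    have hT'' : T'.ShortExact := hT
    have hT' : (T'.map (stk (shX Z) x)).ShortExact := hT''.map_of_exact (stk (shX Z) x)
    unfold FlatMod.IsFlatOverAt
    letI m1 := FlatMod.moduleStalkOver g T.X₁ x
    letI m2 := FlatMod.moduleStalkOver g T.X₂ x
    letI m3 := FlatMod.moduleStalkOver g T.X₃ x
    haveI : Module.Flat (S.presheaf.stalk (g.base x)) (T.X₃.presheaf.stalk x) := h₃ x
    let φ : (T.X₁.presheaf.stalk x) →ₗ[S.presheaf.stalk (g.base x)] (T.X₂.presheaf.stalk x) :=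
      { toFun := fun m => ((stk (shX Z) x).map T.f).hom m
        map_add' := fun a b => map_add _ a b
        map_smul' := fun a m =>
          ((stk (shX Z) x).map T.f).hom.map_smul ((g.stalkMap x).hom a) m }
    let ψ : (T.X₂.presheaf.stalk x) →ₗ[S.presheaf.stalk (g.base x)] (T.X₃.presheaf.stalk x) :=
      { toFun := fun m => ((stk (shX Z) x).map T.g).hom m
        map_add' := fun a b => map_add _ a b
        map_smul' := fun a m =>
          ((stk (shX Z) x).map T.g).hom.map_smul ((g.stalkMap x).hom a) m }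
    have hinj : Function.Injective φ := hT'.moduleCat_injective_f
    have hsurj : Function.Surjective ψ := hT'.moduleCat_surjective_g
    have hex : Function.Exact φ ψ :=
      (ShortComplex.ShortExact.moduleCat_exact_iff_function_exact _).1 hT'.exact
    exact Groth.Agent.H8.flat_iff_of_exact_of_flat φ ψ hinj hsurj hex
  exact ⟨fun h x => (key x).1 (h x), fun h x => (key x).2 (h x)⟩

theorem flatOver_of_iso {M N : Z.Modules} (e : M ≅ N) (h : FlatMod.IsFlatOver g M) :
    FlatMod.IsFlatOver g N :=
  fun x => Groth.Agent.H45.FpqcFlatDescent.isFlatOverAt_of_iso g e x (h x)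

set_option backward.isDefEq.respectTransparency false in
theorem flatOver_of_isZero {M : Z.Modules} (h : IsZero M) : FlatMod.IsFlatOver g M := by
  intro x
  unfold FlatMod.IsFlatOverAt
  letI m1 := FlatMod.moduleStalkOver g M x
  have hz : IsZero ((stk (shX Z) x).obj M) := (stk (shX Z) x).map_isZero h
  haveI : Subsingleton (M.presheaf.stalk x) := ModuleCat.subsingleton_of_isZero hz
  infer_instance

theorem flatOver_biprod {M N : Z.Modules} (hM : FlatMod.IsFlatOver g M)
    (hN : FlatMod.IsFlatOver g N) : FlatMod.IsFlatOver g (M ⊞ N) := by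
  have hs : (ShortComplex.mk (biprod.inl : M ⟶ M ⊞ N) (biprod.snd : M ⊞ N ⟶ N)
      biprod.inl_snd).ShortExact :=
    (ShortComplex.Splitting.ofHasBinaryBiproduct M N).shortExact
  exact (flatOver_iff_of_shortExact g _ hs hN).2 hM

/-- If `C` is bounded above, has terms flat over the base in degrees `> m`, and is exact in
degrees `≥ m`, then `opcycles j` is flat over the base for all `j ≥ m`. -/
theorem flatOver_opcycles (C : CochainComplex Z.Modules ℤ) (N m : ℤ)
    (hN : ∀ j : ℤ, N < j → IsZero (C.X j)) (hfl : ∀ j : ℤ, m < j → FlatMod.IsFlatOver g (C.X j))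
    (hex : ∀ j : ℤ, m ≤ j → C.ExactAt j) (j : ℤ) (hj : m ≤ j) :
    FlatMod.IsFlatOver g (C.opcycles j) := by
  suffices h : ∀ (k : ℕ) (j : ℤ), m ≤ j → N + 1 - k ≤ j → FlatMod.IsFlatOver g (C.opcycles j) by
    exact h (N + 1 - j).toNat j hj (by omega)
  intro k
  induction k with
  | zero =>
    intro j _ hj2
    have hz : IsZero (C.X j) := hN j (by omega)
    have : IsZero (C.opcycles j) := IsZero.of_epi (C.pOpcycles j) hz
    exact flatOver_of_isZero g this
  | succ k ih =>
    intro j hj1 hj2
    have h3 : FlatMod.IsFlatOver g (C.opcycles (j + 1)) :=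
      ih (j + 1) (by omega) (by push_cast at hj2 ⊢; omega)
    exact (flatOver_iff_of_shortExact g _
      (Groth.Agent.H28.PerfTor.opcycles_shortExact C j (hex j hj1)) h3).1 (hfl (j + 1) (by omega))

/-- The key relative flatness statement. -/
theorem flatOver_opcycles_of_mqi {P F : CochainComplex Z.Modules ℤ} (β : P ⟶ F) (a N : ℤ)
    (hPfl : ∀ j, FlatMod.IsFlatOver g (P.X j)) (hFfl : ∀ j, FlatMod.IsFlatOver g (F.X j))
    (hPN : ∀ j, N < j → IsZero (P.X j)) (hFN : ∀ j, N < j → IsZero (F.X j))
    (hFa : ∀ j, j < a → IsZero (F.X j))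
    (hβ : Groth.Agent.H28.LpullLoc.MQI (a - 1) (DerivedCategory.Q.map β)) :
    FlatMod.IsFlatOver g (P.opcycles a) := by
  let C := mappingCone β
  have iso : ∀ i, C.X i ≅ P.X (i + 1) ⊞ F.X i := fun i =>
    HomologicalComplex.homotopyCofiber.XIsoBiprod β i (i + 1) rfl
  have hCfl : ∀ j, FlatMod.IsFlatOver g (C.X j) := fun j =>
    flatOver_of_iso g (iso j).symm (flatOver_biprod g (hPfl _) (hFfl _))
  have hCN : ∀ j, N < j → IsZero (C.X j) := fun j hj =>
    IsZero.of_iso (Groth.Agent.H90.SPerf.isZero_biprod' (hPN _ (by omega)) (hFN _ hj)) (iso j)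
  have hex : ∀ j, a - 1 ≤ j → C.ExactAt j := by
    intro j hj
    rw [HomologicalComplex.exactAt_iff_isZero_homology]
    have hz := Groth.Agent.H28.LpullLoc.isZero_obj₃_of_mqi _
      (DerivedCategory.mappingCone_triangle_distinguished β) (a - 1) hβ j hj
    exact ((DerivedCategory.homologyFunctorFactors Z.Modules j).app C).isZero_iff.1 hz
  have hfl := flatOver_opcycles g C N (a - 1) hCN (fun j _ => hCfl j) hex (a - 1) le_rfl
  exact flatOver_of_iso g (Groth.Agent.H28.PerfTor.opcyclesConeIso β a (hFa _ (by omega))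
    (hFa _ (by omega))) hfl

end Groth.Agent.H28.RelPerfFlat
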