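import Mathlib
import Groth.Agent.H28.RelPerfFlat
import Groth.Agent.H28.RelFlatBC

set_option autoImplicit false
set_option maxHeartbeats 400000
set_option linter.style.haveILetI false
universe u
open CategoryTheory CategoryTheory.Limits AlgebraicGeometry HomologicalComplex TensorProduct
attribute [local instance] HasDerivedCategory.standard

namespace Groth.Agent.H28.RelPerfRestrict

open Groth.Agent.H28.RelPerfFlat

/-- If `φ : A → B` is bijective and `M` is an `A`-module flat over `R` via `ρ`, then any `B`-module
`N ≅ B ⊗_A M` is flat over `R` via `φ ∘ ρ`. -/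
lemma flat_of_bijective_tensor {R A B M : Type u} [CommRing R] [CommRing A] [CommRing B]
    [AddCommGroup M] [Module A M] (ρ : R →+* A) (φ : A →+* B) (hφ : Function.Bijective φ)
    (N : Type u) [AddCommGroup N] [Module B N]
    (e : letI := φ.toAlgebra; N ≃ₗ[B] B ⊗[A] M)
    (h : letI := Module.compHom M ρ; Module.Flat R M) :
    letI := Module.compHom N (φ.comp ρ); Module.Flat R N := by
  letI := φ.toAlgebra
  letI mM : Module R M := Module.compHom M ρ
  letI mN : Module R N := Module.compHom N (φ.comp ρ)
  haveI : Module.Flat R M := h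
  let c0 : A ≃ₗ[A] B := LinearEquiv.ofBijective (Algebra.linearMap A B) hφ
  let c : M ≃ₗ[A] B ⊗[A] M :=
    (TensorProduct.lid A M).symm ≪≫ₗ TensorProduct.congr c0 (LinearEquiv.refl A M)
  let E : M ≃ₗ[R] N :=
    { toFun := fun m => e.symm (c m)
      invFun := fun n => c.symm (e n)
      left_inv := fun m => by simp
      right_inv := fun n => by simp
      map_add' := fun a b => by simp
      map_smul' := fun r m => by
        show e.symm (c (ρ r • m)) = (φ (ρ r)) • e.symm (c m)
        rw [c.map_smul, ← e.symm.map_smul]
        exact congrArg e.symm (IsScalarTower.algebraMap_smul B (ρ r) (c m)).symm }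
  exact Module.Flat.of_linearEquiv E.symm

/-- (T1a) flatness over the base passes to the pull-back along an open immersion. -/
theorem isFlatOver_pullback_openImmersion {U Z S : Scheme.{u}} (j : U ⟶ Z) [IsOpenImmersion j]
    (g : Z ⟶ S) (M : Z.Modules) (hM : FlatMod.IsFlatOver g M) :
    FlatMod.IsFlatOver (j ≫ g) ((Scheme.Modules.pullback j).obj M) := by
  intro u
  letI := (j.stalkMap u).hom.toAlgebra
  let e0 := ((Groth.Agent.H28.StalkTor.stalkFunctorPullbackIso j u).app M).toLinearEquiv
  have hbij : Function.Bijective (j.stalkMap u).hom :=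
    (ConcreteCategory.isIso_iff_bijective (j.stalkMap u)).1 inferInstance
  have h1 := flat_of_bijective_tensor (g.stalkMap (j u)).hom (j.stalkMap u).hom hbij
    (((Scheme.Modules.pullback j).obj M).presheaf.stalk u) e0 (hM (j u))
  exact Groth.Agent.H28.RelFlatBC.flat_compHom_congr _ _
    (by rw [Scheme.Hom.stalkMap_comp]; rfl) h1

/-- (T1) flatness over the base passes to the restriction along an open immersion. -/
theorem isFlatOver_restrict {U Z S : Scheme.{u}} (j : U ⟶ Z) [IsOpenImmersion j]
    (g : Z ⟶ S) (M : Z.Modules) (hM : FlatMod.IsFlatOver g M) :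
    FlatMod.IsFlatOver (j ≫ g) ((Scheme.Modules.restrictFunctor j).obj M) :=
  flatOver_of_iso (j ≫ g) ((Scheme.Modules.restrictFunctorIsoPullback j).symm.app M)
    (isFlatOver_pullback_openImmersion j g M hM)

end Groth.Agent.H28.RelPerfRestrict
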