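import Mathlib
import Groth.Agent.H28.RelPerfFlat
import Groth.Agent.H28.RelPerfRestrict
import Groth.Agent.H28.PerfTor4

set_option autoImplicit false
set_option maxHeartbeats 400000
set_option linter.style.haveILetI false
universe u
open CategoryTheory CategoryTheory.Limits AlgebraicGeometry HomologicalComplex
attribute [local instance] HasDerivedCategory.standard

namespace Groth.Agent.H28.RelPerfCore

open Groth.Agent.H28.RelPerfFlat CochainComplex

theorem isFP_of_iso {Z : Scheme.{u}} {M N : Z.Modules} (e : M ≅ N) (h : CohB1.IsFP M) :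
    CohB1.IsFP N :=
  (SheafOfModules.isFinitePresentation (R := Z.ringCatSheaf)).prop_of_iso e h

theorem isFP_of_isFinLocFree {Z : Scheme.{u}} {M : Z.Modules} (h : FlatMod.IsFinLocFree M) :
    CohB1.IsFP M :=
  ((Groth.Agent.S9805.result Z _ (Groth.Agent.H8.isQuasicoherent_of_isFinLocFree _ h)).2 h).2

theorem isFlatOver_of_isFinLocFree {Z S : Scheme.{u}} (g : Z ⟶ S) [Flat g] {M : Z.Modules}
    (h : FlatMod.IsFinLocFree M) : FlatMod.IsFlatOver g M :=
  fun x => Groth.Agent.H90.QH.isFlatOverAt_of_isFlatAt g M x (Flat.stalkMap g x)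
    (Groth.Agent.H28.LpullLoc.isFlat_of_isFinLocFree h x)

/-- Relative core (helper93's form). -/
theorem core_rel {Z S : Scheme.{u}} (g : Z ⟶ S) [Flat g] {P F : CochainComplex Z.Modules ℤ}
    (β : P ⟶ F) (a b : ℤ) (hP : DCoh.IsStrictlyPerfect P) (hFv : DCoh.VanishesOutside F a b)
    (hFfl : ∀ i, FlatMod.IsFlatOver g (F.X i))
    (hβ : Groth.Agent.H90.SPerf.MQI (a - 1) (DerivedCategory.Q.map β)) :
    ∃ b' : ℤ, DCoh.VanishesOutside (P.truncGE a) a b' ∧
      (∀ i, CohB1.IsFP ((P.truncGE a).X i) ∧ FlatMod.IsFlatOver g ((P.truncGE a).X i)) ∧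
      Nonempty (DerivedCategory.Q.obj F ≅ DerivedCategory.Q.obj (P.truncGE a)) := by
  obtain ⟨⟨a₁, b₁, hPv⟩, hPf⟩ := hP
  have hPfl : ∀ j, FlatMod.IsFlatOver g (P.X j) := fun j => isFlatOver_of_isFinLocFree g (hPf j)
  have hK : FlatMod.IsFlatOver g (P.opcycles a) :=
    flatOver_opcycles_of_mqi g β a (max b₁ b) hPfl hFfl
      (fun j hj => hPv j (Or.inr (lt_of_le_of_lt (le_max_left _ _) hj)))
      (fun j hj => hFv j (Or.inr (lt_of_le_of_lt (le_max_right _ _) hj)))
      (fun j hj => hFv j (Or.inl hj)) ⟨hβ.1, hβ.2⟩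
  have e : cokernel (P.d (a - 1) a) ≅ P.opcycles a :=
    IsColimit.coconePointUniqueUpToIso (cokernelIsCokernel (P.d (a - 1) a))
      (P.opcyclesIsCokernel (a - 1) a (by simp))
  haveI q1 : (P.X (a - 1)).IsQuasicoherent :=
    Groth.Agent.H8.isQuasicoherent_of_isFinLocFree _ (hPf (a - 1))
  haveI q2 : (P.X a).IsQuasicoherent := Groth.Agent.H8.isQuasicoherent_of_isFinLocFree _ (hPf a)
  have hKfp : CohB1.IsFP (P.opcycles a) :=
    isFP_of_iso e (Groth.Agent.H49.InjCoker.isFP_cokernel (P.d (a - 1) a)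
      (isFP_of_isFinLocFree (hPf a)) (isFP_of_isFinLocFree (hPf (a - 1))))
  refine ⟨max b₁ a, ?_, ?_, ?_⟩
  · intro i hi
    rcases hi with hi | hi
    · exact (P.truncGE a).isZero_of_isStrictlyGE a i hi
    · have h1 : b₁ < i := lt_of_le_of_lt (le_max_left _ _) hi
      have h2 : a < i := lt_of_le_of_lt (le_max_right _ _) hi
      exact IsZero.of_iso (hPv i (Or.inr h1)) (P.truncGEXIso a i h2)
  · intro i
    rcases lt_trichotomy i a with h | h | h
    · have hz := (P.truncGE a).isZero_of_isStrictlyGE a i h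
      exact ⟨isFP_of_isFinLocFree (Groth.Agent.H90.SPerf.isFinLocFree_of_isZero hz),
        flatOver_of_isZero g hz⟩
    · subst h
      exact ⟨isFP_of_iso (P.truncGEXIsoOpcycles i).symm hKfp,
        flatOver_of_iso g (P.truncGEXIsoOpcycles i).symm hK⟩
    · exact ⟨isFP_of_iso (P.truncGEXIso a i h).symm (isFP_of_isFinLocFree (hPf i)),
        flatOver_of_iso g (P.truncGEXIso a i h).symm (hPfl i)⟩
  · haveI : F.IsStrictlyGE a := by
      rw [isStrictlyGE_iff]
      intro i hi
      exact hFv i (Or.inl hi)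
    have hq : QuasiIso (truncGEMap β a) := by
      rw [CochainComplex.quasiIso_truncGEMap_iff]
      intro i hi
      rw [quasiIsoAt_iff_isIso_homologyMap]
      exact (Groth.Agent.H28.PCohD.isIso_homologyFunctor_map_Q_iff β i).1 (hβ.1 i (by omega))
    haveI h1 : IsIso (DerivedCategory.Q.map (truncGEMap β a)) :=
      (DerivedCategory.isIso_Q_map_iff_quasiIso (C := Z.Modules) _).2 hq
    exact ⟨DerivedCategory.Q.mapIso (asIso (F.πTruncGE a)) ≪≫
      (asIso (DerivedCategory.Q.map (truncGEMap β a))).symm⟩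

end Groth.Agent.H28.RelPerfCore
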