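import Mathlib
import Groth.Agent.H28.RelPerfAsm
import Groth.Agent.H28.RelPerfCore
import Groth.Agent.H28.PerfTor4
import Groth.Prelude.Def_DCoh3

/-!
# (RP) for S7275 (helper90's request 9685): assembly by helper93, relative core by helper28.
-/

set_option autoImplicit false
universe u
open CategoryTheory CategoryTheory.Limits AlgebraicGeometry
attribute [local instance] HasDerivedCategory.standard

namespace Groth.Agent.H28.RelPerfLoc

/-- (RP) -/
theorem exists_fp_flat_model {X S : Scheme.{u}} (f : X ⟶ S) [Flat f] [LocallyOfFinitePresentation f]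
    (E : DCoh.D X) (hpc : ∀ m : ℤ, DCoh.IsPseudoCoherentD m E)
    (hft : DCoh.LocHasFiniteRelTorDim f E) (x : X) :
    ∃ V : X.Opens, x ∈ V ∧ ∀ F : CochainComplex X.Modules ℤ, Nonempty (DCoh.toD X F ≅ E) →
      ∃ (G : CochainComplex (V : Scheme.{u}).Modules ℤ) (a b : ℤ), DCoh.VanishesOutside G a b ∧
        (∀ i : ℤ, CohB1.IsFP (G.X i) ∧ FlatMod.IsFlatOver (V.ι ≫ f) (G.X i)) ∧
        Nonempty (DerivedCategory.Q.obj ((DCoh.restrictCx V).obj F) ≅ DerivedCategory.Q.obj G) :=
  Groth.Agent.H28.RelPerfAsm.exists_fp_flat_model_of_core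
    (fun {_ _} g _ {_ _} β a b hP hFv hFfl hβ =>
      Groth.Agent.H28.RelPerfCore.core_rel g β a b hP hFv hFfl hβ) f E hpc hft x

end Groth.Agent.H28.RelPerfLoc
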