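import Mathlib.LinearAlgebra.RootSystem.Finite.Lemmas
import Groth.Prelude.Def_W4sga3xxiRoot

set_option autoImplicit false
open RootPairing

namespace Groth.Agent.H28

variable {ι M N : Type*} [AddCommGroup M] [AddCommGroup N] (P : RootPairing ι ℤ M N)

theorem pairingIn_int_eq (i j : ι) : P.pairingIn ℤ i j = P.pairing i j := by
  simpa using P.algebraMap_pairingIn ℤ i j

theorem root_neg (a : ι) : P.root (P.reflectionPerm a a) = -P.root a := by
  rw [P.root_reflectionPerm, P.reflection_apply_self]

theorem pairing_neg_left (a j : ι) : P.pairing (P.reflectionPerm a a) j = - P.pairing a j :=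
  P.pairing_reflectionPerm_self_left a j

theorem pairing_neg_right (a j : ι) : P.pairing j (P.reflectionPerm a a) = - P.pairing j a :=
  P.pairing_reflectionPerm_self_right j a

variable [Finite ι]

theorem root_sub_root_mem_of_pairing_pos {i j : ι} (h : 0 < P.pairing i j) (h' : i ≠ j) :
    P.root i - P.root j ∈ Set.range P.root :=
  P.root_sub_root_mem_of_pairingIn_pos (by rwa [pairingIn_int_eq]) h'

theorem root_add_root_mem_of_pairing_neg {i j : ι} (h : P.pairing i j < 0)
    (h' : P.root i ≠ -P.root j) : P.root i + P.root j ∈ Set.range P.root :=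
  P.root_add_root_mem_of_pairingIn_neg (by rwa [pairingIn_int_eq]) h'

omit [Finite ι] in
include P in
theorem isReflexive_left : Module.IsReflexive ℤ M := .of_isPerfPair P.toLinearMap

omit [Finite ι] in
include P in
theorem isReflexive_right : Module.IsReflexive ℤ N := .of_isPerfPair P.flip.toLinearMap

end Groth.Agent.H28
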