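import Groth.Agent.H28.RootWeyl
import Groth.Agent.S5484
import Mathlib.LinearAlgebra.Matrix.Nondegenerate

/-!
Helper lemmas relating a system of simple roots (root-only sense) to the coroots.
-/

set_option autoImplicit false
open RootPairing
open scoped Matrix

namespace Groth.Agent.H28

variable {ι M N : Type*} [AddCommGroup M] [AddCommGroup N] {P : RootPairing ι ℤ M N}

/-- Linear independence of simple roots, function form. -/
theorem lin_root [Fintype ι] {Δ : Set ι} (hΔ : RootD.IsSimpleSys P Δ) (f : ι → ℤ)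
    (hf : ∀ i, i ∉ Δ → f i = 0) (h : ∑ i, f i • P.root i = 0) : f = 0 := by
  have hli := linearIndepOn_iff.1 hΔ.linInd
  have h0 := hli (Finsupp.equivFunOnFinite.symm f) (by
    rw [Finsupp.mem_supported]
    intro i hi
    by_contra hiΔ
    simp only [Finset.mem_coe, Finsupp.mem_support_iff, Finsupp.equivFunOnFinite_symm_apply_apply]
      at hi
    exact hi (hf i hiΔ)) (by
    rw [Finsupp.linearCombination_apply, Finsupp.sum_fintype _ _ (by simp)]
    simpa using h)
  ext i
  have := DFunLike.congr_fun h0 i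
  simpa using this

/-- Linear independence of simple coroots, function form. -/
theorem lin_coroot [Fintype ι] {Δ : Set ι} (hΔ : RootD.IsSimpleSys P Δ) (f : ι → ℤ)
    (hf : ∀ i, i ∉ Δ → f i = 0) (h : ∑ i, f i • P.coroot i = 0) : f = 0 := by
  classical
  have : Finite ι := Finite.of_fintype ι
  set S : Finset ι := Finset.univ.filter (fun i => f i ≠ 0) with hS
  have hSΔ : ∀ i ∈ S, i ∈ Δ := by
    intro i hi
    by_contra hiΔ
    simp only [hS, Finset.mem_filter, Finset.mem_univ, true_and] at hi
    exact hi (hf i hiΔ)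
  set Δfin : Finset ι := Finset.univ.filter (fun i => i ∈ Δ) with hΔfin
  have hcoe : (↑Δfin : Set ι) = Δ := by
    ext i
    simp [hΔfin]
  have hΔ' : RootD.IsSimpleSys P (↑Δfin : Set ι) := hcoe ▸ hΔ
  have hsub : S ⊆ Δfin := fun i hi => by simp [hΔfin, hSΔ i hi]
  have hdet := Groth.Agent.S5484.result P Δfin hΔ' S hsub
  have hv : (Matrix.of fun (a b : ↥S) => P.pairing (b : ι) (a : ι))ᵀ *ᵥ (fun a : ↥S => f a) = 0 := by
    funext b
    simp only [Matrix.mulVec, dotProduct, Matrix.transpose_apply, Matrix.of_apply, Pi.zero_apply]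
    have h1 := congrArg (P.root' b) h
    rw [map_sum, map_zero] at h1
    simp only [map_smul, smul_eq_mul, P.root'_coroot_eq_pairing] at h1
    rw [← Finset.sum_subset (Finset.subset_univ S) (fun i _ hi => by
      simp only [hS, Finset.mem_filter, Finset.mem_univ, true_and, not_not] at hi
      simp [hi])] at h1
    rw [← Finset.sum_coe_sort S] at h1
    rw [← h1]
    exact Finset.sum_congr rfl fun a _ => mul_comm _ _
  have hzero := Matrix.eq_zero_of_mulVec_eq_zero (by rw [Matrix.det_transpose]; exact hdet.ne') hv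
  ext i
  by_contra hi
  rw [Pi.zero_apply] at hi
  have hiS : i ∈ S := by simp [hS, hi]
  exact hi (congrFun hzero ⟨i, hiS⟩)

/-- The polarization identity: `ℓ(k) k^v = Σ c_a ℓ(a) a^v` if `k = Σ c_a a`. -/
theorem rootForm_smul_coroot_eq [Fintype ι] (k : ι) (c : ι → ℤ)
    (hc : P.root k = ∑ i, c i • P.root i) :
    P.RootForm (P.root k) (P.root k) • P.coroot k =
      ∑ i, (c i * P.RootForm (P.root i) (P.root i)) • P.coroot i := by
  rw [P.rootForm_self_smul_coroot k]
  conv_lhs => rw [hc]
  rw [map_sum, Finset.smul_sum]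
  refine Finset.sum_congr rfl fun i _ => ?_
  rw [map_smul, mul_smul, P.rootForm_self_smul_coroot i, smul_comm]

/-- A submodule of the coweight lattice containing the simple coroots and the halves of the
divisible simple coroots contains all coroots. -/
theorem coroot_mem_of_simple [Finite ι] {Δ : Set ι} (hΔ : RootD.IsSimpleSys P Δ)
    (Q : Submodule ℤ N) (ha : ∀ a ∈ Δ, P.coroot a ∈ Q)
    (ha' : ∀ j : ι, ∀ a ∈ Δ, (2 : ℤ) • P.coroot j = P.coroot a → P.coroot j ∈ Q) (k : ι) :
    P.coroot k ∈ Q := by
  have hM' : IsAddTorsionFree M :=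
    have : Module.IsReflexive ℤ M := .of_isPerfPair P.toLinearMap
    .of_isTorsionFree ℤ M
  have hN' : IsAddTorsionFree N :=
    have : Module.IsReflexive ℤ N := .of_isPerfPair P.flip.toLinearMap
    .of_isTorsionFree ℤ N
  have hT : ∀ g ∈ simpleGroup P Δ, ∀ i : ι, P.coroot i ∈ Q ↔ P.coroot (g • i) ∈ Q := by
    intro g hg
    induction hg using Subgroup.closure_induction with
    | mem x hx =>
      obtain ⟨b, hb, rfl⟩ := hx
      intro i
      rw [reflection_smul_index, P.coroot_reflectionPerm, P.coreflection_apply]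
      constructor
      · intro h
        exact Q.sub_mem h (Q.smul_mem _ (ha b hb))
      · intro h
        have := Q.add_mem h (Q.smul_mem (P.root' b (P.coroot i)) (ha b hb))
        rwa [sub_add_cancel] at this
    | one => intro i; rw [one_smul]
    | mul x y _ _ hx hy =>
      intro i
      rw [mul_smul]
      exact (hy i).trans (hx (y • i))
    | inv x _ hx =>
      intro i
      have := hx (x⁻¹ • i)
      rw [smul_inv_smul] at this
      exact this.symm
  by_cases hk : RootD.IsIndiv P k
  · obtain ⟨g, hg, i₀, hi₀, hgi⟩ := conj_simple hΔ k hk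
    rw [← hgi]
    exact (hT g hg i₀).1 (ha i₀ hi₀)
  · unfold RootD.IsIndiv at hk
    push Not at hk
    obtain ⟨j, hj⟩ := hk
    have hjind : RootD.IsIndiv P j := by
      intro k' hk'
      have h4 : P.root k = (4 : ℤ) • P.root k' := by
        rw [← hj, ← hk', smul_smul]; norm_num
      have := congrArg (P.coroot' k) h4
      rw [map_smul] at this
      simp only [RootPairing.root_coroot'_eq_pairing, RootPairing.pairing_same, smul_eq_mul] at this
      omega
    obtain ⟨g, hg, i₀, hi₀, hgi⟩ := conj_simple hΔ j hjind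
    have hroot : P.root (g⁻¹ • k) = (2 : ℤ) • P.root i₀ := by
      have h1 : P.root (g⁻¹ • k) = g⁻¹ • P.root k :=
        RootPairing.Equiv.root_indexEquiv_eq_smul (P := P) k g⁻¹
      have h2 : P.root (g⁻¹ • j) = g⁻¹ • P.root j :=
        RootPairing.Equiv.root_indexEquiv_eq_smul (P := P) j g⁻¹
      have h3 : g⁻¹ • j = i₀ := by rw [← hgi, inv_smul_smul]
      rw [h1, ← hj, smul_comm, ← h2, h3]
    have hco : P.coroot i₀ = (2 : ℤ) • P.coroot (g⁻¹ • k) :=
      (RootPairing.coroot_eq_smul_coroot_iff).2 hroot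
    have hmem : P.coroot (g⁻¹ • k) ∈ Q := ha' _ i₀ hi₀ hco.symm
    have := (hT g hg (g⁻¹ • k)).1 hmem
    rwa [smul_inv_smul] at this

end Groth.Agent.H28
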