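import Groth.Agent.H28.RootNatSpan
import Groth.Agent.H28.RootBasics
import Groth.Agent.S5486

/-!
Helper lemmas on systems of simple roots in the root-only sense (`RootD.IsSimpleSys`).
-/

set_option autoImplicit false
open RootPairing

namespace Groth.Agent.H28

variable {ι M N : Type*} [AddCommGroup M] [AddCommGroup N] (P : RootPairing ι ℤ M N)

theorem msF_apply [DecidableEq ι] (s : Multiset ι) (i : ι) : msF s i = (s.count i : ℤ) := by
  induction s using Multiset.induction_on with
  | empty => simp
  | cons a s ih =>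
    rw [msF_cons, Finsupp.add_apply, ih, Multiset.count_cons, Finsupp.single_apply]
    by_cases h : a = i
    · subst h; simp; ring
    · have h' : ¬ i = a := fun e => h e.symm
      simp [h, h']

theorem one_le_msF_of_mem {s : Multiset ι} {i : ι} (h : i ∈ s) : 1 ≤ msF s i := by
  classical
  rw [msF_apply]
  exact_mod_cast Multiset.one_le_count_iff_mem.2 h

theorem msF_eq_zero_of_not_mem {s : Multiset ι} {i : ι} (h : i ∉ s) : msF s i = 0 := by
  classical
  rw [msF_apply]
  exact_mod_cast Multiset.count_eq_zero_of_notMem h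

variable {P}

/-- Uniqueness of coefficients along a simple system. -/
theorem coeff_unique {Δ : Set ι} (hΔ : RootD.IsSimpleSys P Δ) {c c' : ι →₀ ℤ}
    (hc : c ∈ Finsupp.supported ℤ ℤ Δ) (hc' : c' ∈ Finsupp.supported ℤ ℤ Δ)
    (h : Finsupp.linearCombination ℤ P.root c = Finsupp.linearCombination ℤ P.root c') :
    c = c' := by
  have hli := linearIndepOn_iff.1 hΔ.linInd
  have := hli (c - c') (sub_mem hc hc') (by rw [map_sub, h, sub_self])
  exact sub_eq_zero.1 this

theorem msF_unique {Δ : Set ι} (hΔ : RootD.IsSimpleSys P Δ) {s t : Multiset ι}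
    (hs : ∀ i ∈ s, i ∈ Δ) (ht : ∀ i ∈ t, i ∈ Δ)
    (h : (s.map P.root).sum = (t.map P.root).sum) : msF s = msF t :=
  coeff_unique hΔ (msF_supported s hs) (msF_supported t ht)
    (by rw [linearCombination_msF, linearCombination_msF, h])

/-- A root cannot have a positive and a negative coefficient along a simple system. -/
theorem mixed_false {Δ : Set ι} (hΔ : RootD.IsSimpleSys P Δ) (k : ι) (t : Multiset ι)
    (ht : ∀ i ∈ t, i ∈ Δ) (a : ι) (ha : a ∈ Δ) (hat : a ∉ t) (b : ι) (hb : b ∈ t)
    (h : P.root k = (t.map P.root).sum - P.root a) : False := by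
  have hba : b ≠ a := fun e => hat (e ▸ hb)
  rcases hΔ.mem_or_neg_mem k with h' | h'
  · obtain ⟨r, hr, hsum⟩ := exists_multiset_of_mem_natSpan P h'
    have h0 : msF t - Finsupp.single a 1 = msF r := by
      apply coeff_unique hΔ (sub_mem (msF_supported t ht) (Finsupp.single_mem_supported ℤ 1 ha))
        (msF_supported r hr)
      rw [map_sub, linearCombination_msF, linearCombination_msF, ← hsum, h]
      simp
    have h1 := DFunLike.congr_fun h0 a
    simp only [Finsupp.coe_sub, Pi.sub_apply, Finsupp.single_eq_same,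
      msF_eq_zero_of_not_mem hat] at h1
    have := msF_nonneg r a
    omega
  · obtain ⟨r, hr, hsum⟩ := exists_multiset_of_mem_natSpan P h'
    have h0 : Finsupp.single a 1 - msF t = msF r := by
      apply coeff_unique hΔ (sub_mem (Finsupp.single_mem_supported ℤ 1 ha) (msF_supported t ht))
        (msF_supported r hr)
      rw [map_sub, linearCombination_msF, linearCombination_msF, ← hsum, h]
      simp
    have h1 := DFunLike.congr_fun h0 b
    have e1 : (Finsupp.single a (1 : ℤ)) b = 0 := Finsupp.single_eq_of_ne hba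
    simp only [Finsupp.coe_sub, Pi.sub_apply, e1] at h1
    have := msF_nonneg r b
    have := one_le_msF_of_mem hb
    omega

/-- A positive non-simple root minus a suitable simple root of its support is a root. -/
theorem sub_simple [Finite ι] {Δ : Set ι} (k : ι) (s : Multiset ι)
    (hs : ∀ i ∈ s, i ∈ Δ) (hk : P.root k = (s.map P.root).sum) (hkΔ : k ∉ Δ) :
    ∃ a ∈ s, 0 < P.pairing a k ∧ ∃ k', P.root k' = P.root k - P.root a := by
  have h2 : (0 : ℤ) < (s.map (fun i => P.pairing i k)).sum := by
    rw [← coroot'_multiset_sum, ← hk, P.root_coroot'_eq_pairing, P.pairing_same]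
    norm_num
  obtain ⟨a, has, hpos⟩ := exists_pos_of_multiset_sum_pos s _ h2
  refine ⟨a, has, hpos, ?_⟩
  have hne : a ≠ k := fun e => hkΔ (e ▸ hs a has)
  have h3 := root_sub_root_mem_of_pairing_pos P hpos hne
  rw [← RootPairing.neg_mem_range_root_iff, neg_sub] at h3
  obtain ⟨k', hk'⟩ := h3
  exact ⟨k', hk'⟩

/-- The sum of the roots of a multiset supported in `S` lies in the span of the roots of `S`. -/
theorem multiset_sum_mem_span {S : Set ι} (s : Multiset ι) (hs : ∀ i ∈ s, i ∈ S) :
    (s.map P.root).sum ∈ Submodule.span ℤ (P.root '' S) := by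
  apply multiset_sum_mem
  intro x hx
  obtain ⟨i, hi, rfl⟩ := Multiset.mem_map.1 hx
  exact Submodule.subset_span ⟨i, hs i hi, rfl⟩

/-- Spans of the roots of disjoint subsets of a simple system meet trivially. -/
theorem eq_zero_of_mem_span_of_mem_span {Δ : Set ι} (hΔ : RootD.IsSimpleSys P Δ) {S T : Set ι}
    (hS : S ⊆ Δ) (hT : T ⊆ Δ) (hST : Disjoint S T) {x : M}
    (hx : x ∈ Submodule.span ℤ (P.root '' S)) (hx' : x ∈ Submodule.span ℤ (P.root '' T)) :
    x = 0 := by
  obtain ⟨c, hc, rfl⟩ := (Finsupp.mem_span_image_iff_linearCombination ℤ).1 hx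
  obtain ⟨c', hc', hcc'⟩ := (Finsupp.mem_span_image_iff_linearCombination ℤ).1 hx'
  have h1 : c = c' := coeff_unique hΔ (Finsupp.supported_mono hS hc)
    (Finsupp.supported_mono hT hc') hcc'.symm
  subst h1
  have h2 : c ∈ Finsupp.supported ℤ ℤ (S ∩ T) := by
    rw [Finsupp.mem_supported] at hc hc' ⊢
    exact Set.subset_inter hc hc'
  rw [Set.disjoint_iff_inter_eq_empty.1 hST, Finsupp.supported_empty] at h2
  rw [(Submodule.mem_bot ℤ).1 h2, map_zero]

end Groth.Agent.H28
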