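import Groth.Agent.H28.RootSimple
import Groth.Agent.S5488
import Groth.Agent.S5503
import Mathlib.LinearAlgebra.RootSystem.Finite.CanonicalBilinear
import Mathlib.LinearAlgebra.RootSystem.WeylGroup

/-!
Helper lemmas: the group generated by the simple reflections of a system of simple roots (in the
root-only sense) and conjugacy of indivisible roots to simple roots.
-/

set_option autoImplicit false
open RootPairing

namespace Groth.Agent.H28

variable {ι M N : Type*} [AddCommGroup M] [AddCommGroup N] {P : RootPairing ι ℤ M N}

/-- Sum of the coefficients. -/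
noncomputable def htF : (ι →₀ ℤ) →ₗ[ℤ] ℤ := Finsupp.linearCombination ℤ (fun _ : ι => (1 : ℤ))

theorem htF_single (a : ι) (x : ℤ) : htF (Finsupp.single a x) = x := by simp [htF]

theorem htF_msF (s : Multiset ι) : htF (msF s) = (s.card : ℤ) := by
  induction s using Multiset.induction_on with
  | empty => simp
  | cons a s ih =>
    rw [msF_cons, map_add, htF_single, ih, Multiset.card_cons]
    push_cast
    ring

theorem pairing_pos_iff [Finite ι] (i j : ι) : 0 < P.pairing i j ↔ 0 < P.pairing j i := by
  have := P.zero_lt_pairingIn_iff' ℤ (i := i) (j := j)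
  rwa [pairingIn_int_eq, pairingIn_int_eq] at this

/-- The subgroup generated by the simple reflections. -/
noncomputable abbrev simpleGroup (P : RootPairing ι ℤ M N) (Δ : Set ι) : Subgroup P.Aut :=
  Subgroup.closure ((fun i : ι => Equiv.reflection P i) '' Δ)

theorem reflection_smul_index (a k : ι) : Equiv.reflection P a • k = P.reflectionPerm a k := rfl

/-- Reflections preserve indivisibility. -/
theorem isIndiv_reflectionPerm {a k : ι} (hind : RootD.IsIndiv P k) :
    RootD.IsIndiv P (P.reflectionPerm a k) := by
  intro j hj
  apply hind (P.reflectionPerm a j)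
  rw [P.root_reflectionPerm, ← map_smul, hj, ← P.root_reflectionPerm, P.reflectionPerm_self]

/-- A positive indivisible root which is not simple has a simple root of its support, with
positive pairing, different from some other simple root of the support. -/
theorem exists_other_of_indiv [Finite ι] {Δ : Set ι} (k : ι) (s : Multiset ι)
    (hs : ∀ i ∈ s, i ∈ Δ) (hk : P.root k = (s.map P.root).sum) (hkΔ : k ∉ Δ)
    (hind : RootD.IsIndiv P k) (a : ι) (has : a ∈ s) : ∃ b ∈ s, b ≠ a := by
  by_contra hcon
  push Not at hcon
  have hs_eq : s = Multiset.replicate s.card a := Multiset.eq_replicate_card.2 hcon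
  have hroot : P.root k = s.card • P.root a := by
    rw [hk]
    conv_lhs => rw [hs_eq]
    simp [Multiset.map_replicate, Multiset.sum_replicate]
  have h2 : (2 : ℤ) = s.card * P.pairing a k := by
    have := congrArg (P.coroot' k) hroot
    rw [map_nsmul, P.root_coroot'_eq_pairing, P.root_coroot'_eq_pairing, P.pairing_same,
      nsmul_eq_mul] at this
    exact this
  have hc12 : s.card = 1 ∨ s.card = 2 := by
    have hc_pos : 0 < s.card := Multiset.card_pos_iff_exists_mem.2 ⟨a, has⟩
    have hdvd : (s.card : ℤ) ∣ 2 := ⟨_, h2⟩
    have hle := Int.le_of_dvd (by norm_num) hdvd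
    omega
  rcases hc12 with h1 | h1
  · rw [h1, one_smul] at hroot
    exact hkΔ (P.root.injective hroot ▸ hs a has)
  · rw [h1] at hroot
    apply hind a
    rw [hroot]
    norm_cast

/-- Every positive indivisible root is conjugate to a simple root under the group generated by the
simple reflections. -/
theorem conj_simple_pos [Finite ι] {Δ : Set ι} (hΔ : RootD.IsSimpleSys P Δ) :
    ∀ n : ℕ, ∀ (k : ι) (s : Multiset ι), (∀ i ∈ s, i ∈ Δ) → P.root k = (s.map P.root).sum →
      s.card = n → RootD.IsIndiv P k →
      ∃ g : P.Aut, g ∈ simpleGroup P Δ ∧ ∃ i ∈ Δ, g • i = k := by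
  intro n
  induction n using Nat.strong_induction_on with
  | _ n ih =>
    intro k s hs hk hcard hind
    by_cases hkΔ : k ∈ Δ
    · exact ⟨1, Subgroup.one_mem _, k, hkΔ, one_smul _ _⟩
    · obtain ⟨a, has, hpos, -⟩ := sub_simple (P := P) k s hs hk hkΔ
      have haΔ := hs a has
      obtain ⟨b, hbs, hba⟩ := exists_other_of_indiv k s hs hk hkΔ hind a has
      have hmpos : 0 < P.pairing k a := (pairing_pos_iff a k).1 hpos
      have hroot₁ : P.root (P.reflectionPerm a k) =
          (s.map P.root).sum - P.pairing k a • P.root a := by
        rw [P.root_reflectionPerm, P.reflection_apply, P.root_coroot'_eq_pairing, hk]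
      have hab : (Finsupp.single a (1 : ℤ)) b = 0 := Finsupp.single_eq_of_ne hba
      rcases hΔ.mem_or_neg_mem (P.reflectionPerm a k) with h | h
      swap
      · exfalso
        obtain ⟨r, hr, hsum⟩ := exists_multiset_of_mem_natSpan P h
        have h0 : P.pairing k a • Finsupp.single a (1 : ℤ) - msF s = msF r := by
          apply coeff_unique hΔ (sub_mem (Submodule.smul_mem _ _
            (Finsupp.single_mem_supported ℤ 1 haΔ)) (msF_supported s hs)) (msF_supported r hr)
          rw [map_sub, map_smul, linearCombination_msF, linearCombination_msF, ← hsum, hroot₁]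
          simp
        have h1 := DFunLike.congr_fun h0 b
        simp only [Finsupp.coe_sub, Finsupp.coe_smul, Pi.sub_apply, Pi.smul_apply, hab,
          smul_zero, zero_sub] at h1
        have := msF_nonneg r b
        have := one_le_msF_of_mem hbs
        omega
      · obtain ⟨r, hr, hsum⟩ := exists_multiset_of_mem_natSpan P h
        have h0 : msF s - P.pairing k a • Finsupp.single a (1 : ℤ) = msF r := by
          apply coeff_unique hΔ (sub_mem (msF_supported s hs) (Submodule.smul_mem _ _
            (Finsupp.single_mem_supported ℤ 1 haΔ))) (msF_supported r hr)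
          rw [map_sub, map_smul, linearCombination_msF, linearCombination_msF, ← hsum, hroot₁]
          simp
        have hcardr : (r.card : ℤ) = s.card - P.pairing k a := by
          have := congrArg htF h0
          rw [map_sub, map_smul, htF_msF, htF_msF, htF_single, smul_eq_mul, mul_one] at this
          exact this.symm
        have hlt : r.card < n := by omega
        obtain ⟨g, hg, i, hi, hgi⟩ := ih r.card hlt (P.reflectionPerm a k) r hr hsum rfl
          (isIndiv_reflectionPerm hind)
        refine ⟨Equiv.reflection P a * g,
          Subgroup.mul_mem _ (Subgroup.subset_closure ⟨a, haΔ, rfl⟩) hg, i, hi, ?_⟩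
        rw [mul_smul, hgi, reflection_smul_index]
        exact P.reflectionPerm_self a k

/-- Every indivisible root is conjugate to a simple root under the group generated by the simple
reflections. -/
theorem conj_simple [Finite ι] {Δ : Set ι} (hΔ : RootD.IsSimpleSys P Δ) (k : ι)
    (hind : RootD.IsIndiv P k) : ∃ g : P.Aut, g ∈ simpleGroup P Δ ∧ ∃ i ∈ Δ, g • i = k := by
  rcases hΔ.mem_or_neg_mem k with h | h
  · obtain ⟨s, hs, hsum⟩ := exists_multiset_of_mem_natSpan P h
    exact conj_simple_pos hΔ _ k s hs hsum rfl hind
  · obtain ⟨s, hs, hsum⟩ := exists_multiset_of_mem_natSpan P h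
    have hind' : RootD.IsIndiv P (P.reflectionPerm k k) := isIndiv_reflectionPerm hind
    obtain ⟨g, hg, i, hi, hgi⟩ := conj_simple_pos hΔ _ (P.reflectionPerm k k) s hs
      (by rw [root_neg, hsum]) rfl hind'
    refine ⟨g * Equiv.reflection P i,
      Subgroup.mul_mem _ hg (Subgroup.subset_closure ⟨i, hi, rfl⟩), i, hi, ?_⟩
    apply P.root.injective
    have h1 : P.root (g • i) = -P.root k := by rw [hgi, root_neg]
    have h2 : P.root ((g * Equiv.reflection P i) • i) = -P.root (g • i) := by
      rw [mul_smul, reflection_smul_index]
      change P.root (g.indexEquiv (P.reflectionPerm i i)) = -P.root (g.indexEquiv i)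
      rw [RootPairing.Equiv.root_indexEquiv_eq_smul, RootPairing.Equiv.root_indexEquiv_eq_smul,
        root_neg, smul_neg]
    rw [h2, h1, neg_neg]

/-- The simple reflections generate the Weyl group. -/
theorem simpleGroup_eq_weylGroup [Finite ι] {Δ : Set ι} (hΔ : RootD.IsSimpleSys P Δ) :
    simpleGroup P Δ = P.weylGroup := by
  apply le_antisymm
  · apply Subgroup.closure_mono
    rintro _ ⟨i, _, rfl⟩
    exact Set.mem_range_self i
  · rw [← Groth.Agent.S5488.result P, Subgroup.closure_le]
    rintro _ ⟨k, hk, rfl⟩
    obtain ⟨g, hg, i, hi, hgi⟩ := conj_simple hΔ k hk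
    have := Groth.Agent.S5503.result P g i
    rw [hgi] at this
    show Equiv.reflection P k ∈ simpleGroup P Δ
    rw [← this]
    exact Subgroup.mul_mem _ (Subgroup.mul_mem _ hg (Subgroup.subset_closure ⟨i, hi, rfl⟩))
      (Subgroup.inv_mem _ hg)

end Groth.Agent.H28
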