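import Groth.Agent.H31.RpushRestrict

/-!
# `Rf_*` commutes with restriction along a cartesian square of open immersions (helper28)

Generalisation of `Groth.Agent.H31.RpushRestrict.restrictRpushIso` (which treats `V.ι`, `(f ⁻¹ᵁ V).ι`)
to an arbitrary commutative square `g ≫ jV = jU ≫ f` of open immersions `jU`, `jV` with
`f ⁻¹ᵁ (range jV) = range jU`.

* `pushRestrictIsoGen` : `f_* ⋙ jV^* ≅ jU^* ⋙ g_*` on modules.
* `preservesFiniteLimits_extZero` : `j_!` is exact for every open immersion `j`.
* `isKInjective_restrict` : `j^*` preserves K-injective complexes.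
* `restrictRpushIsoGen` : `Rf_* ⋙ jV^* ≅ jU^* ⋙ Rg_*` on derived categories.
-/

set_option backward.isDefEq.respectTransparency false
set_option autoImplicit false
set_option maxHeartbeats 400000
universe u
open CategoryTheory CategoryTheory.Limits AlgebraicGeometry TopologicalSpace
attribute [local instance] HasDerivedCategory.standard

namespace Groth.Agent.H28.RpushBC

open Groth.Agent.H5.KInjDer Groth.Agent.H31.Stalk Groth.Agent.H31.RpushRestrict

section Mod

variable {X Y X' Y' : Scheme.{u}} (f : X ⟶ Y) (g : X' ⟶ Y') (jU : X' ⟶ X) (jV : Y' ⟶ Y)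
  [IsOpenImmersion jU] [IsOpenImmersion jV]

include g in
theorem preimage_image_eq_image_preimage (hcomm : g ≫ jV = jU ≫ f)
    (hrange : f ⁻¹ᵁ jV.opensRange = jU.opensRange) (W : Y'.Opens) :
    f ⁻¹ᵁ (jV ''ᵁ W) = jU ''ᵁ (g ⁻¹ᵁ W) := by
  ext x
  constructor
  · intro hx
    have hx' : f x ∈ jV ''ᵁ W := hx
    obtain ⟨w, hw, hwx⟩ := hx'
    have h1 : x ∈ f ⁻¹ᵁ jV.opensRange := ⟨w, hwx⟩
    rw [hrange] at h1
    obtain ⟨b, rfl⟩ := h1
    refine ⟨b, ?_, rfl⟩
    show g b ∈ W
    have h2 : jV (g b) = f (jU b) := by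
      rw [← Scheme.Hom.comp_apply, hcomm, Scheme.Hom.comp_apply]
    have h3 : g b = w := jV.isOpenEmbedding.injective (h2.trans hwx.symm)
    rw [h3]; exact hw
  · rintro ⟨b, hb, rfl⟩
    show f (jU b) ∈ jV ''ᵁ W
    refine ⟨g b, hb, ?_⟩
    have h2 : jV (g b) = f (jU b) := by
      rw [← Scheme.Hom.comp_apply, hcomm, Scheme.Hom.comp_apply]
    exact h2

/-- `(f_* M)|_{Y'} ≅ g_* (M|_{X'})`, naturally in `M`, for a cartesian square of open
immersions. -/
noncomputable def pushRestrictIsoGen (hcomm : g ≫ jV = jU ≫ f)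
    (hrange : f ⁻¹ᵁ jV.opensRange = jU.opensRange) :
    Scheme.Modules.pushforward f ⋙ Scheme.Modules.restrictFunctor jV ≅
      Scheme.Modules.restrictFunctor jU ⋙ Scheme.Modules.pushforward g :=
  letI := CategoryTheory.Functor.isContinuous_comp.{u} jV.opensFunctor (Opens.map f.base)
    (Opens.grothendieckTopology Y') (Opens.grothendieckTopology Y)
    (Opens.grothendieckTopology X)
  letI := CategoryTheory.Functor.isContinuous_comp.{u} (Opens.map g.base)
    jU.opensFunctor
    (Opens.grothendieckTopology Y')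
    (Opens.grothendieckTopology X')
    (Opens.grothendieckTopology X)
  (SheafOfModules.pushforwardComp _ _) ≪≫
    SheafOfModules.pushforwardCongr₂ _ (NatIso.ofComponents
      (fun W => eqToIso (preimage_image_eq_image_preimage f g jU jV hcomm hrange W).symm)
      (fun _ => rfl))
      (by
        ext W x
        have H : (jV.appIso W.unop).inv ≫ f.app (jV ''ᵁ W.unop) ≫
            X.presheaf.map (eqToHom
              (preimage_image_eq_image_preimage f g jU jV hcomm hrange W.unop).symm).op =
            g.app W.unop ≫ (jU.appIso (g ⁻¹ᵁ W.unop)).inv := by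
          have hle : jU ''ᵁ (g ⁻¹ᵁ W.unop) ≤ f ⁻¹ᵁ (jV ''ᵁ W.unop) :=
            (preimage_image_eq_image_preimage f g jU jV hcomm hrange W.unop).ge
          have e1 : f.app (jV ''ᵁ W.unop) ≫ X.presheaf.map (eqToHom
              (preimage_image_eq_image_preimage f g jU jV hcomm hrange W.unop).symm).op =
              f.appLE (jV ''ᵁ W.unop) (jU ''ᵁ (g ⁻¹ᵁ W.unop)) hle := rfl
          rw [e1, ← cancel_mono (jU.appIso (g ⁻¹ᵁ W.unop)).hom]
          simp only [Category.assoc, Iso.inv_hom_id, Category.comp_id]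
          rw [Scheme.Hom.appIso_hom', Scheme.Hom.appLE_comp_appLE]
          have e2 : (jU ≫ f).appLE (jV ''ᵁ W.unop) (g ⁻¹ᵁ W.unop)
              ((jU.preimage_image_eq _).ge.trans (jU.preimage_mono hle)) =
              (g ≫ jV).appLE (jV ''ᵁ W.unop) (g ⁻¹ᵁ W.unop)
                (g.preimage_mono (jV.preimage_image_eq _).ge) := by
            simp only [hcomm]
          rw [e2, ← Scheme.Hom.appLE_comp_appLE g jV (jV ''ᵁ W.unop) W.unop (g ⁻¹ᵁ W.unop)
            (jV.preimage_image_eq _).ge le_rfl, Scheme.Hom.appIso_inv_appLE_assoc]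
          simp [Scheme.Hom.appLE]
        exact congr($H x)) ≪≫
    (SheafOfModules.pushforwardComp _ _).symm

end Mod

section ExtZero

/-- Restriction along an isomorphism of schemes is an equivalence. -/
theorem isEquivalence_restrictFunctor_of_isIso {U X : Scheme.{u}} (e : U ⟶ X) [IsIso e] :
    (Scheme.Modules.restrictFunctor e).IsEquivalence := by
  let E : X.Modules ≌ U.Modules := CategoryTheory.Equivalence.mk
    (Scheme.Modules.restrictFunctor e) (Scheme.Modules.restrictFunctor (inv e))
    (Scheme.Modules.restrictFunctorId.symm ≪≫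
      Scheme.Modules.restrictFunctorCongr (IsIso.inv_hom_id e).symm ≪≫
      Scheme.Modules.restrictFunctorComp (inv e) e)
    ((Scheme.Modules.restrictFunctorComp e (inv e)).symm ≪≫
      Scheme.Modules.restrictFunctorCongr (IsIso.hom_inv_id e) ≪≫
      Scheme.Modules.restrictFunctorId)
  exact E.isEquivalence_functor

variable {U X : Scheme.{u}} (j : U ⟶ X) [IsOpenImmersion j]

/-- Extension by zero along any open immersion is exact. -/
theorem preservesFiniteLimits_extZero : PreservesFiniteLimits (CxOX.extZero j) := by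
  let e := j.isoOpensRange.hom
  have he : e ≫ j.opensRange.ι = j := j.isoOpensRange_hom_ι
  haveI : (Scheme.Modules.restrictFunctor e).IsEquivalence :=
    isEquivalence_restrictFunctor_of_isIso e
  haveI : (CxOX.extZero e).IsEquivalence :=
    (CxOX.extZeroAdj e).isEquivalence_left_of_isEquivalence_right
  have i : Scheme.Modules.restrictFunctor j.opensRange.ι ⋙ Scheme.Modules.restrictFunctor e ≅
      Scheme.Modules.restrictFunctor j :=
    (Scheme.Modules.restrictFunctorComp e j.opensRange.ι).symm ≪≫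
      Scheme.Modules.restrictFunctorCongr he
  have adj : CxOX.extZero e ⋙ CxOX.extZero j.opensRange.ι ⊣ Scheme.Modules.restrictFunctor j :=
    ((CxOX.extZeroAdj e).comp (CxOX.extZeroAdj j.opensRange.ι)).ofNatIsoRight i
  have i2 : CxOX.extZero j ≅ CxOX.extZero e ⋙ CxOX.extZero j.opensRange.ι :=
    (CxOX.extZeroAdj j).leftAdjointUniq adj
  haveI : PreservesFiniteLimits (CxOX.extZero e) := by
    have : PreservesLimitsOfSize.{0, 0} (CxOX.extZero e) := inferInstance
    exact PreservesLimitsOfSize.preservesFiniteLimits _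
  haveI := Groth.Agent.H30.ExtZeroSch.preservesFiniteLimits_extZero j.opensRange
  exact preservesFiniteLimits_of_natIso i2.symm

/-- Restriction along an open immersion preserves K-injective complexes. -/
theorem isKInjective_restrict (I : CochainComplex X.Modules ℤ) [I.IsKInjective] :
    CochainComplex.IsKInjective (((Scheme.Modules.restrictFunctor j).mapHomologicalComplex
      (ComplexShape.up ℤ)).obj I) :=
  haveI := preservesFiniteLimits_extZero j
  Groth.Agent.H45.isKInjective_map_of_adj (CxOX.extZeroAdj j) I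

/-- Restriction along an open immersion preserves injective modules. -/
theorem injective_restrict (I : X.Modules) [Injective I] :
    Injective ((Scheme.Modules.restrictFunctor j).obj I) :=
  haveI := preservesFiniteLimits_extZero j
  Injective.injective_of_adjoint (CxOX.extZeroAdj j) I

end ExtZero

section Main

variable {X Y X' Y' : Scheme.{u}} (f : X ⟶ Y) (g : X' ⟶ Y') (jU : X' ⟶ X) (jV : Y' ⟶ Y)
  [IsOpenImmersion jU] [IsOpenImmersion jV]
  [DCoh.HasRpush f] [DCoh.HasRpush g]
  (τ₀ : Scheme.Modules.pushforward f ⋙ Scheme.Modules.restrictFunctor jV ≅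
      Scheme.Modules.restrictFunctor jU ⋙ Scheme.Modules.pushforward g)

/-- `C(f_*) ⋙ C(jV^*) ≅ C(jU^*) ⋙ C(g_*)`. -/
noncomputable def cxIso :
    (Scheme.Modules.pushforward f).mapHomologicalComplex (ComplexShape.up ℤ) ⋙
      (Scheme.Modules.restrictFunctor jV).mapHomologicalComplex (ComplexShape.up ℤ) ≅
    (Scheme.Modules.restrictFunctor jU).mapHomologicalComplex (ComplexShape.up ℤ) ⋙
      (Scheme.Modules.pushforward g).mapHomologicalComplex (ComplexShape.up ℤ) :=
  NatIso.ofComponents
    (fun K => (NatIso.mapHomologicalComplex τ₀ (ComplexShape.up ℤ)).app K)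
    (fun φ => (NatIso.mapHomologicalComplex τ₀ (ComplexShape.up ℤ)).hom.naturality φ)

/-- The functor of which both sides are right derived functors. -/
noncomputable abbrev F₁ : CochainComplex X.Modules ℤ ⥤ DCoh.D Y' :=
  ((Scheme.Modules.pushforward f).mapHomologicalComplex (ComplexShape.up ℤ) ⋙ DerivedCategory.Q) ⋙
    DCoh.restrictD jV

noncomputable abbrev F₂ : CochainComplex X.Modules ℤ ⥤ DCoh.D Y' :=
  (Scheme.Modules.restrictFunctor jU).mapHomologicalComplex (ComplexShape.up ℤ) ⋙
    ((Scheme.Modules.pushforward g).mapHomologicalComplex (ComplexShape.up ℤ) ⋙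
      DerivedCategory.Q)

noncomputable def τ : F₁ f jV ≅ F₂ g jU :=
  Functor.associator _ _ _ ≪≫
    Functor.isoWhiskerLeft _ (Scheme.Modules.restrictFunctor jV).mapDerivedCategoryFactors ≪≫
    (Functor.associator _ _ _).symm ≪≫
    Functor.isoWhiskerRight (cxIso f g jU jV τ₀) DerivedCategory.Q ≪≫ Functor.associator _ _ _

noncomputable def α₁ : F₁ f jV ⟶ DerivedCategory.Q ⋙ (DCoh.Rpush f ⋙ DCoh.restrictD jV) :=
  Functor.whiskerRight (uC f) (DCoh.restrictD jV) ≫ (Functor.associator _ _ _).hom

instance : (DCoh.Rpush f ⋙ DCoh.restrictD jV).IsRightDerivedFunctor (α₁ f jV)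
    (HomologicalComplex.quasiIso X.Modules (ComplexShape.up ℤ)) :=
  isRightDerivedFunctor_comp _ (inverts_map_Q (Scheme.Modules.pushforward f)) (uC f)
    (DCoh.restrictD jV)

noncomputable def α₂ :
    F₂ g jU ⟶ DerivedCategory.Q ⋙ (DCoh.restrictD jU ⋙ DCoh.Rpush g) :=
  Functor.whiskerLeft _ (uC g) ≫ (Functor.associator _ _ _).inv ≫
    Functor.whiskerRight
      (Scheme.Modules.restrictFunctor jU).mapDerivedCategoryFactors.inv
      (DCoh.Rpush g) ≫ (Functor.associator _ _ _).hom

theorem inverts_F₂ : (HomologicalComplex.homotopyEquivalences X.Modules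
    (ComplexShape.up ℤ)).IsInvertedBy (F₂ g jU) := by
  rintro K L _ ⟨e, rfl⟩
  exact inverts_map_Q (Scheme.Modules.pushforward g) _
    ⟨(Scheme.Modules.restrictFunctor jU).mapHomotopyEquiv e, rfl⟩

instance : (DCoh.restrictD jU ⋙ DCoh.Rpush g).IsRightDerivedFunctor (α₂ g jU)
    (HomologicalComplex.quasiIso X.Modules (ComplexShape.up ℤ)) := by
  refine isRightDerivedFunctor_of_isIso (F₂ g jU) (inverts_F₂ g jU) (α₂ g jU) (fun I hI => ?_)
  haveI := hI
  haveI := isKInjective_restrict jU I
  haveI := isIso_uC_app g (((Scheme.Modules.restrictFunctor jU).mapHomologicalComplex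
      (ComplexShape.up ℤ)).obj I)
  simp only [α₂, NatTrans.comp_app, Functor.whiskerLeft_app, Functor.associator_inv_app,
    Functor.whiskerRight_app, Functor.associator_hom_app, Category.id_comp, Category.comp_id]
  infer_instance

/-- `Rf_* ⋙ jV^* ≅ jU^* ⋙ Rg_*`. -/
noncomputable def restrictRpushIsoGen :
    DCoh.Rpush f ⋙ DCoh.restrictD jV ≅ DCoh.restrictD jU ⋙ DCoh.Rpush g :=
  Functor.rightDerivedNatIso _ _ (α₁ f jV) (α₂ g jU)
    (HomologicalComplex.quasiIso X.Modules (ComplexShape.up ℤ)) (τ f g jU jV τ₀)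

end Main

end Groth.Agent.H28.RpushBC
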