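import Groth.Agent.H28.StalkTor
import Groth.Agent.H31.StalkKFlat
import Groth.Agent.H31.StalkExact
import Groth.Agent.H90.MQI
import Groth.Prelude.Def_DTor2

/-!
# Stalkwise tor amplitude vs global flat amplitude (helper28 library)
-/

set_option autoImplicit false
set_option maxHeartbeats 400000
universe u
open CategoryTheory CategoryTheory.Limits AlgebraicGeometry HomologicalComplex
attribute [local instance] HasDerivedCategory.standard

namespace Groth.Agent.H28.StalkTor

open Groth.Agent.H31.Stalk

variable {X Y : Scheme.{u}}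

instance (x : X) : PreservesFiniteLimits (DerSch.stalkFunctor X x) :=
  @preservesFiniteLimits_of_natIso _ _ _ _ _ _ (stalkFunctorIso X x).symm
    (stk_preservesFiniteLimits (shX X) x)

instance (x : X) : PreservesFiniteColimits (DerSch.stalkFunctor X x) :=
  @preservesFiniteColimits_of_natIso _ _ _ _ _ _ (stalkFunctorIso X x).symm
    (stk_preservesFiniteColimits (shX X) x)

instance (f : X ⟶ Y) (x : X) : PreservesFiniteLimits (DerSch.stalkOver f x) := by
  unfold DerSch.stalkOver
  infer_instance

instance (f : X ⟶ Y) (x : X) : PreservesFiniteColimits (DerSch.stalkOver f x) := by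
  unfold DerSch.stalkOver
  infer_instance


/-- A module flat over `O_{X,x}` is flat over `O_{Y, f x}` when the stalk map is flat. -/
theorem flat_stalkOver (f : X ⟶ Y) [Flat f] (x : X) (M : X.Modules)
    (hM : FlatMod.IsFlat M) :
    Module.Flat (Y.presheaf.stalk (f.base x)) ((DerSch.stalkOver f x).obj M) := by
  letI : Algebra (Y.presheaf.stalk (f.base x)) (X.presheaf.stalk x) :=
    (f.stalkMap x).hom.toAlgebra
  have h1 : Module.Flat (Y.presheaf.stalk (f.base x)) (X.presheaf.stalk x) :=
    AlgebraicGeometry.Flat.stalkMap f x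
  have h2 : Module.Flat (X.presheaf.stalk x) (M.presheaf.stalk x) := hM x
  letI : Module (Y.presheaf.stalk (f.base x)) (M.presheaf.stalk x) :=
    Module.compHom _ (f.stalkMap x).hom
  haveI : IsScalarTower (Y.presheaf.stalk (f.base x)) (X.presheaf.stalk x)
      (M.presheaf.stalk x) := IsScalarTower.of_algebraMap_smul (fun r m => rfl)
  exact Module.Flat.trans (Y.presheaf.stalk (f.base x)) (X.presheaf.stalk x) (M.presheaf.stalk x)

/-- Global flat amplitude implies stalkwise tor amplitude relative to a flat morphism. -/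
theorem hasTorAmplitude_of_hasFlatAmplitudeIn (f : X ⟶ Y) [Flat f]
    (F : CochainComplex X.Modules ℤ) (a b : ℤ)
    (h : DCoh.HasFlatAmplitudeIn a b (DCoh.toD X F)) : DerSch.HasTorAmplitude f a b F := by
  obtain ⟨Fl, hv, hfl, ⟨e⟩⟩ := h
  intro x
  refine ⟨(DerSch.stalkCxOver f x).obj Fl, fun i hi => ?_, fun i => ?_, ⟨?_⟩⟩
  · exact Functor.map_isZero (DerSch.stalkOver f x) (hv i hi)
  · exact flat_stalkOver f x (Fl.X i) (hfl i)
  · exact ((DerSch.stalkOver f x).mapDerivedCategoryFactors.app Fl).symm ≪≫
      (DerSch.stalkOver f x).mapDerivedCategory.mapIso e ≪≫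
      (DerSch.stalkOver f x).mapDerivedCategoryFactors.app F

end Groth.Agent.H28.StalkTor
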