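import Mathlib.CategoryTheory.Limits.Shapes.BinaryBiproducts
import Mathlib.CategoryTheory.Preadditive.Biproducts
import Mathlib.CategoryTheory.Limits.Shapes.Products
import Mathlib.CategoryTheory.Limits.Preserves.Basic

set_option autoImplicit false
universe v u
open CategoryTheory CategoryTheory.Limits

namespace Groth.Agent.H28

variable {C : Type u} [Category.{v} C] [Preadditive C] [HasBinaryBiproducts C]

/-- Eilenberg swindle: if `c` is a coproduct of `f : ℕ → C` and `F` preserves this coproduct, with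
`f (i+1) ≅ F (f i)` and `f 0 ≅ L`, then `c.pt ≅ L ⊞ F c.pt`. -/
theorem swindle_iso (f : ℕ → C) (c : Cofan f) (hc : IsColimit c)
    (F : C ⥤ C) [PreservesColimit (Discrete.functor f) F] (L : C) (a : f 0 ≅ L)
    (b : ∀ i, f (i + 1) ≅ F.obj (f i)) :
    Nonempty (c.pt ≅ L ⊞ F.obj c.pt) := by
  have hF : IsColimit (F.mapCocone c) := isColimitOfPreserves F hc
  -- the map F M ⟶ M
  let s : Cocone (Discrete.functor f ⋙ F) :=
    { pt := c.pt
      ι := Discrete.natTrans (fun ⟨i⟩ => (b i).inv ≫ c.inj (i + 1)) }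
  let ψ₂ : F.obj c.pt ⟶ c.pt := hF.desc s
  have hψ₂ : ∀ i, F.map (c.inj i) ≫ ψ₂ = (b i).inv ≫ c.inj (i + 1) := fun i =>
    hF.fac s ⟨i⟩
  let φ : c.pt ⟶ L ⊞ F.obj c.pt :=
    Cofan.IsColimit.desc hc (fun j => match j with
      | 0 => a.hom ≫ biprod.inl
      | (i + 1) => (b i).hom ≫ F.map (c.inj i) ≫ biprod.inr)
  have hφ0 : c.inj 0 ≫ φ = a.hom ≫ biprod.inl := Cofan.IsColimit.fac hc _ 0
  have hφs : ∀ i, c.inj (i + 1) ≫ φ = (b i).hom ≫ F.map (c.inj i) ≫ biprod.inr := fun i =>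
    Cofan.IsColimit.fac hc _ (i + 1)
  let ψ : L ⊞ F.obj c.pt ⟶ c.pt := biprod.desc (a.inv ≫ c.inj 0) ψ₂
  refine ⟨⟨φ, ψ, ?_, ?_⟩⟩
  · apply Cofan.IsColimit.hom_ext hc
    intro j
    cases j with
    | zero =>
      rw [← Category.assoc, hφ0]
      simp [ψ]
    | succ i =>
      rw [← Category.assoc, hφs]
      simp [ψ, hψ₂]
  · apply biprod.hom_ext'
    · simp [ψ, hφ0]
    · simp only [ψ, biprod.inr_desc_assoc, Category.comp_id]
      apply hF.hom_ext
      rintro ⟨i⟩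
      change F.map (c.inj i) ≫ ψ₂ ≫ φ = F.map (c.inj i) ≫ biprod.inr
      rw [← Category.assoc, hψ₂, Category.assoc, hφs]
      simp

end Groth.Agent.H28
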