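import Mathlib

/-!
# `TensorFlat`: a commutative square of rings whose induced map from the tensor product is flat
(helper28; definitions only, used by the flat-base-change cluster S5631 / S1100)
-/

set_option autoImplicit false
universe u
open TensorProduct

namespace Groth.Agent.H28.TensorFlatDefs

variable {R A R' A' : Type u} [CommRing R] [CommRing A] [CommRing R'] [CommRing A']

/-- For a commutative square of commutative rings `ψ' ∘ φ = φ' ∘ ψ`
(`φ : R → A`, `ψ : R → R'`, `φ' : R' → A'`, `ψ' : A → A'`), the induced ring map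
`A ⊗[R] R' → A'`, `a ⊗ r' ↦ ψ' a * φ' r'` (algebra structures from `φ`, `ψ`). -/
noncomputable def tensorLift (φ : R →+* A) (ψ : R →+* R') (φ' : R' →+* A') (ψ' : A →+* A')
    (hsq : ψ'.comp φ = φ'.comp ψ) :
    letI := φ.toAlgebra
    letI := ψ.toAlgebra
    A ⊗[R] R' →+* A' :=
  letI := φ.toAlgebra
  letI := ψ.toAlgebra
  letI := (ψ'.comp φ).toAlgebra
  (Algebra.TensorProduct.productMap
    ({ ψ' with commutes' := fun _ => rfl } : A →ₐ[R] A')
    ({ φ' with commutes' := fun r => (RingHom.congr_fun hsq r).symm } : R' →ₐ[R] A')).toRingHom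

/-- The square is "tensor-flat": `A'` is flat over `A ⊗[R] R'` (e.g. a localisation of it). -/
def TensorFlat (φ : R →+* A) (ψ : R →+* R') (φ' : R' →+* A') (ψ' : A →+* A')
    (hsq : ψ'.comp φ = φ'.comp ψ) : Prop :=
  letI := φ.toAlgebra
  letI := ψ.toAlgebra
  (tensorLift φ ψ φ' ψ' hsq).Flat

lemma tensorLift_tmul (φ : R →+* A) (ψ : R →+* R') (φ' : R' →+* A') (ψ' : A →+* A')
    (hsq : ψ'.comp φ = φ'.comp ψ) (a : A) (r' : R') :
    letI := φ.toAlgebra
    letI := ψ.toAlgebra
    tensorLift φ ψ φ' ψ' hsq (a ⊗ₜ[R] r') = ψ' a * φ' r' := by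
  letI := φ.toAlgebra
  letI := ψ.toAlgebra
  letI := (ψ'.comp φ).toAlgebra
  exact Algebra.TensorProduct.productMap_apply_tmul _ _ a r'

end Groth.Agent.H28.TensorFlatDefs
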