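import Groth.Agent.H35.MaxDescent
import Groth.Agent.H31.StalkTilde
import Groth.Agent.H28.StalkFlatAmp2

set_option autoImplicit false
set_option maxHeartbeats 400000
universe u
open CategoryTheory CategoryTheory.Limits AlgebraicGeometry HomologicalComplex
attribute [local instance] HasDerivedCategory.standard

namespace Groth.Agent.H28.TildeAmp

open DRing Groth.Agent.H35.FlatBC Groth.Agent.H31 Groth.Agent.H31.Stalk

section Ring

variable {A B : Type u} [CommRing A] [CommRing B] (φ : A →+* B)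

/-- Termwise flat base change preserves tor amplitude (chain level). -/
theorem hasTorAmplitudeIn_extCx (hφ : φ.Flat) (K : Cx A) (a b : ℤ)
    (h : HasTorAmplitudeIn A a b (toD K)) :
    HasTorAmplitudeIn B a b (toD ((extCx φ).obj K)) := by
  haveI : PreservesFiniteLimits (ext φ) := ModuleCat.preservesFiniteLimits_extendScalars_of_flat hφ
  haveI : PreservesFiniteColimits (ext φ) := inferInstance
  obtain ⟨E, h1, h2, ⟨e⟩⟩ := h
  exact ⟨(extCx φ).obj E, vanishesOutside_ext φ E a b h1,
    fun i => haveI := h2 i; flat_ext φ (E.X i),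
    ⟨((ext φ).mapDerivedCategoryFactors.app E).symm ≪≫ (ext φ).mapDerivedCategory.mapIso e ≪≫
      (ext φ).mapDerivedCategoryFactors.app K⟩⟩

end Ring

section Spec

variable (R : CommRingCat.{u})

/-- Tor amplitude can be checked on the stalks of `Spec R`. -/
theorem hasTorAmplitudeIn_of_stalks (K : Cx R) (a b : ℤ)
    (h : ∀ x : Spec R, HasTorAmplitudeIn ((Spec R).presheaf.stalk x) a b
      (toD ((extCx (ψx R x)).obj K))) :
    HasTorAmplitudeIn R a b (toD K) := by
  refine Groth.Agent.H35.LBC.hasTorAmplitudeIn_of_forall_maximal K a b (fun J hJ => ?_)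
  let x : Spec R := ⟨J, hJ.isPrime⟩
  letI : Algebra R ((Spec R).presheaf.stalk x) := StructureSheaf.stalkAlgebra R x
  haveI : IsLocalization.AtPrime ((Spec R).presheaf.stalk x) J :=
    StructureSheaf.IsLocalization.to_stalk R x
  let e : (Spec R).presheaf.stalk x ≃ₐ[R] Localization.AtPrime J :=
    IsLocalization.algEquiv J.primeCompl _ _
  have hcomp : (e : (Spec R).presheaf.stalk x →+* Localization.AtPrime J).comp (ψx R x) =
      algebraMap R (Localization.AtPrime J) := RingHom.ext (fun r => e.commutes r)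
  have hfl : (e : (Spec R).presheaf.stalk x →+* Localization.AtPrime J).Flat :=
    RingHom.Flat.of_bijective e.bijective
  have h1 := hasTorAmplitudeIn_extCx
    (e : (Spec R).presheaf.stalk x →+* Localization.AtPrime J) hfl _ a b (h x)
  have ι := Groth.Agent.H35.LBC.extCxCompIso (ψx R x)
    (e : (Spec R).presheaf.stalk x →+* Localization.AtPrime J) K
  have ι' : (extCx (e : (Spec R).presheaf.stalk x →+* Localization.AtPrime J)).obj
      ((extCx (ψx R x)).obj K) ≅ (extCx (algebraMap R (Localization.AtPrime J))).obj K :=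
    ι ≪≫ eqToIso (congrArg (fun f => (extCx f).obj K) hcomp)
  obtain ⟨Φ, hv, hfl', ⟨e'⟩⟩ := h1
  exact ⟨Φ, hv, hfl', ⟨e' ≪≫ DerivedCategory.Q.mapIso ι'⟩⟩

/-- The stalk of `M~`, in the prelude's stalk functor. -/
noncomputable def stalkFunctorTildeIso (x : Spec R) :
    tilde.functor R ⋙ DerSch.stalkFunctor (Spec R) x ≅
      ModuleCat.extendScalars.{u, u, u} (ψx R x) :=
  Functor.isoWhiskerLeft (tilde.functor R) (stalkFunctorIso (Spec R) x) ≪≫ stkTildeIso R x

/-- `M~` is flat when `M` is. -/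
theorem isFlat_tilde (N : ModuleCat.{u} R) [Module.Flat R N] :
    FlatMod.IsFlat ((tilde.functor R).obj N) := by
  intro x
  have h1 : Module.Flat (Groth.Agent.H40.StalkTensor.Rx (shX (Spec R)).obj x)
      ((ext (ψx R x)).obj N) := flat_ext (ψx R x) N
  have h2 : Module.Flat (Groth.Agent.H40.StalkTensor.Rx (shX (Spec R)).obj x)
      ((tilde.functor R ⋙ stk (shX (Spec R)) x).obj N) :=
    Module.Flat.of_linearEquiv ((stkTildeIso R x).app N).toLinearEquiv
  exact h2

variable [PreservesFiniteLimits (tilde.functor R)]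

theorem hasFlatAmplitudeIn_tildeD_iff (M : DerivedCategory (ModuleCat.{u} R)) (a b : ℤ) :
    DCoh.HasFlatAmplitudeIn a b ((DCoh.tildeD R).obj M) ↔ HasTorAmplitudeIn R a b M := by
  constructor
  · intro h
    let K : Cx R := DerivedCategory.Q.objPreimage M
    have eK : toD K ≅ M := DerivedCategory.Q.objObjPreimageIso M
    let tK := ((tilde.functor R).mapHomologicalComplex (ComplexShape.up ℤ)).obj K
    have e1 : DCoh.toD (Spec R) tK ≅ (DCoh.tildeD R).obj M :=
      ((tilde.functor R).mapDerivedCategoryFactors.app K).symm ≪≫ (DCoh.tildeD R).mapIso eK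
    have h' : DCoh.HasFlatAmplitudeIn a b (DCoh.toD (Spec R) tK) := by
      obtain ⟨Φ, hv, hfl, ⟨e⟩⟩ := h
      exact ⟨Φ, hv, hfl, ⟨e ≪≫ e1.symm⟩⟩
    have h1 := Groth.Agent.H28.StalkTor.hasTorAmplitude_of_hasFlatAmplitudeIn (𝟙 (Spec R)) tK a b h'
    have h2 : HasTorAmplitudeIn R a b (toD K) := by
      refine hasTorAmplitudeIn_of_stalks R K a b (fun x => ?_)
      obtain ⟨Φ, hv, hfl, ⟨e⟩⟩ :=
        Groth.Agent.H28.StalkTor.hasTorAmplitudeIn_stalk_of_id tK a b h1 x
      let ι : ((DerSch.stalkFunctor (Spec R) x).mapHomologicalComplex (ComplexShape.up ℤ)).obj tK ≅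
          (extCx (ψx R x)).obj K :=
        HomologicalComplex.Hom.isoOfComponents
          (fun i => (stalkFunctorTildeIso R x).app (K.X i))
          (fun i j _ => ((stalkFunctorTildeIso R x).hom.naturality (K.d i j)).symm)
      exact ⟨Φ, hv, hfl, ⟨e ≪≫ DerivedCategory.Q.mapIso ι⟩⟩
    obtain ⟨Φ, hv, hfl, ⟨e⟩⟩ := h2
    exact ⟨Φ, hv, hfl, ⟨e ≪≫ eK⟩⟩
  · rintro ⟨Φ, hv, hfl, ⟨e⟩⟩
    refine ⟨((tilde.functor R).mapHomologicalComplex (ComplexShape.up ℤ)).obj Φ,
      fun i hi => Functor.map_isZero (tilde.functor R) (hv i hi),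
      fun i => haveI := hfl i; isFlat_tilde R (Φ.X i),
      ⟨((tilde.functor R).mapDerivedCategoryFactors.app Φ).symm ≪≫ (DCoh.tildeD R).mapIso e⟩⟩

end Spec

end Groth.Agent.H28.TildeAmp
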