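import Groth.Prelude.Def_ToposFin2
import Mathlib.CategoryTheory.Sites.LocallySurjective
import Mathlib.CategoryTheory.Sites.Subsheaf
import Mathlib.CategoryTheory.Limits.Types.Pullbacks
import Mathlib.CategoryTheory.MorphismProperty.Limits

/-!
# Basic exactness properties of the topos `Sheaf J (Type u)` (helper28)

* `JE π` : the family `π i : F i ⟶ X` is jointly epimorphic (any index type);
* `JLS π` : it is jointly locally surjective on sections;
* `je_iff_jls`, `epi_desc_iff_je`;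
* `jls_of_isPullback` / `je_of_isPullback` : jointly epimorphic families are stable under base change;
* `isQC_of_finite_cover`;
* `qcHom` : quasi-compact morphisms as a `MorphismProperty`, stable under composition and base change.
-/

set_option autoImplicit false

universe w u

open CategoryTheory CategoryTheory.Limits Opposite ToposFin

namespace Groth.Agent.H28.Topos

variable {C : Type u} [SmallCategory C] {J : GrothendieckTopology C}

/-- jointly epimorphic family (any index type) -/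
def JE {X : Sh J} {ι : Type w} {F : ι → Sh J} (π : ∀ i, F i ⟶ X) : Prop :=
  ∀ (Z : Sh J) (a b : X ⟶ Z), (∀ i, π i ≫ a = π i ≫ b) → a = b

/-- jointly locally surjective family -/
def JLS {X : Sh J} {ι : Type w} {F : ι → Sh J} (π : ∀ i, F i ⟶ X) : Prop :=
  ∀ (U : C) (x : X.obj.obj (op U)), ∃ S ∈ J U, ∀ ⦃V : C⦄ (f : V ⟶ U), S f →
    ∃ (i : ι) (a : (F i).obj.obj (op V)), (π i).hom.app (op V) a = X.obj.map f.op x

theorem je_of_jls {X : Sh J} {ι : Type w} {F : ι → Sh J} {π : ∀ i, F i ⟶ X} (h : JLS π) :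
    JE π := by
  intro Z a b hab
  ext U x
  obtain ⟨S, hS, hx⟩ := h U.unop x
  apply (((isSheaf_iff_isSheaf_of_type _ _).1 Z.2).isSeparated _ hS).ext
  intro V f hf
  obtain ⟨i, t, ht⟩ := hx f hf
  have h₁ := ConcreteCategory.congr_hom (a.hom.naturality f.op) x
  have h₂ := ConcreteCategory.congr_hom (b.hom.naturality f.op) x
  dsimp at h₁ h₂
  have key : a.hom.app (op V) (X.obj.map f.op x) = b.hom.app (op V) (X.obj.map f.op x) := by
    rw [← ht]
    exact ConcreteCategory.congr_hom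
      (congr_app ((sheafToPresheaf J _).congr_map (hab i)) (op V)) t
  exact h₁.symm.trans (key.trans h₂)

theorem jls_of_je {X : Sh J} {ι : Type w} {F : ι → Sh J} {π : ∀ i, F i ⟶ X} (h : JE π) :
    JLS π := by
  let G : Subfunctor X.obj := (⨆ i, Subfunctor.range (π i).hom).sheafify J
  let I : Sh J := ⟨G.toFunctor, by
    rw [isSheaf_iff_isSheaf_of_type]
    apply Subfunctor.sheafify_isSheaf
    rw [← isSheaf_iff_isSheaf_of_type]
    exact X.2⟩
  let incl : I ⟶ X := ⟨G.ι⟩
  have hle : ∀ i, Subfunctor.range (π i).hom ≤ G := fun i =>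
    (le_iSup (fun i => Subfunctor.range (π i).hom) i).trans (Subfunctor.le_sheafify J _)
  let k : ∀ i, F i ⟶ I := fun i => ⟨Subfunctor.lift (π i).hom (hle i)⟩
  have hk : ∀ i, k i ≫ incl = π i := fun i => by
    ext1
    rfl
  have : Mono incl := (sheafToPresheaf J _).mono_of_mono_map (by
    dsimp [incl]
    infer_instance)
  have : Epi incl := by
    constructor
    intro Z a b hab
    apply h
    intro i
    rw [← hk i, Category.assoc, Category.assoc, hab]
  have : IsIso incl := isIso_of_mono_of_epi incl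
  intro U x
  have hx : x ∈ G.obj (op U) := by
    have h1 : IsIso ((sheafToPresheaf J (Type u)).map incl) := inferInstance
    have h2 : IsIso (((sheafToPresheaf J (Type u)).map incl).app (op U)) := inferInstance
    have hsurj : Function.Surjective (((sheafToPresheaf J (Type u)).map incl).app (op U)) :=
      ((isIso_iff_bijective _).mp h2).2
    obtain ⟨y, hy⟩ := hsurj x
    have hy2 : x = (show ↥(G.obj (op U)) from y).1 := hy.symm
    rw [hy2]
    exact (show ↥(G.obj (op U)) from y).2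
  refine ⟨(⨆ i, Subfunctor.range (π i).hom).sieveOfSection x, hx, ?_⟩
  intro V f hf
  have hf' : X.obj.map f.op x ∈ (⨆ i, Subfunctor.range (π i).hom).obj (op V) := hf
  rw [Subfunctor.iSup_obj] at hf'
  obtain ⟨i, hi⟩ := Set.mem_iUnion.mp hf'
  obtain ⟨a, ha⟩ := hi
  exact ⟨i, a, ha⟩

theorem je_iff_jls {X : Sh J} {ι : Type w} {F : ι → Sh J} (π : ∀ i, F i ⟶ X) :
    JE π ↔ JLS π := ⟨jls_of_je, je_of_jls⟩

theorem epi_desc_iff_je {X : Sh J} {ι : Type w} {F : ι → Sh J} [HasCoproduct F]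
    (π : ∀ i, F i ⟶ X) : Epi (Sigma.desc π) ↔ JE π := by
  constructor
  · intro h Z a b hab
    rw [← cancel_epi (Sigma.desc π)]
    apply Sigma.hom_ext
    intro i
    rw [Sigma.ι_desc_assoc, Sigma.ι_desc_assoc]
    exact hab i
  · intro h
    constructor
    intro Z a b hab
    apply h
    intro i
    have h1 := congrArg (fun t => Sigma.ι F i ≫ t) hab
    simpa using h1

/-- The functor of sections over `V`. -/
noncomputable abbrev secF (V : C) : Sh J ⥤ Type u :=
  sheafToPresheaf J (Type u) ⋙ (evaluation Cᵒᵖ (Type u)).obj (op V)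

theorem exists_section_of_isPullback {P A B X : Sh J} {p : P ⟶ A} {q : P ⟶ B} {f : A ⟶ X}
    {g : B ⟶ X} (h : IsPullback p q f g) (V : C) (a : A.obj.obj (op V)) (b : B.obj.obj (op V))
    (hab : f.hom.app (op V) a = g.hom.app (op V) b) :
    ∃ z : P.obj.obj (op V), p.hom.app (op V) z = a ∧ q.hom.app (op V) z = b :=
  Types.exists_of_isPullback (h.map (secF V)) a b hab

theorem jls_of_isPullback {X Y : Sh J} {ι : Type w} {F : ι → Sh J} {π : ∀ i, F i ⟶ X}
    (h : JLS π) (g : Y ⟶ X) {P : ι → Sh J} (p : ∀ i, P i ⟶ F i) (q : ∀ i, P i ⟶ Y)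
    (hpb : ∀ i, IsPullback (p i) (q i) (π i) g) : JLS q := by
  intro U y
  obtain ⟨S, hS, hx⟩ := h U (g.hom.app (op U) y)
  refine ⟨S, hS, fun V f hf => ?_⟩
  obtain ⟨i, a, ha⟩ := hx f hf
  have hnat := ConcreteCategory.congr_hom (g.hom.naturality f.op) y
  dsimp at hnat
  obtain ⟨z, -, hz⟩ := exists_section_of_isPullback (hpb i) V a (Y.obj.map f.op y)
    (by rw [ha, hnat])
  exact ⟨i, z, hz⟩

theorem je_of_isPullback {X Y : Sh J} {ι : Type w} {F : ι → Sh J} {π : ∀ i, F i ⟶ X}
    (h : JE π) (g : Y ⟶ X) {P : ι → Sh J} (p : ∀ i, P i ⟶ F i) (q : ∀ i, P i ⟶ Y)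
    (hpb : ∀ i, IsPullback (p i) (q i) (π i) g) : JE q :=
  je_of_jls (jls_of_isPullback (jls_of_je h) g p q hpb)

theorem je_pullback_snd {X Y : Sh J} {ι : Type w} {F : ι → Sh J} {π : ∀ i, F i ⟶ X}
    (h : JE π) (g : Y ⟶ X) : JE (fun i => pullback.snd (π i) g) :=
  je_of_isPullback h g (fun i => pullback.fst (π i) g) _ (fun i => IsPullback.of_hasPullback _ _)

/-- a family refined by a jointly epimorphic family is jointly epimorphic -/
theorem je_of_factor {X : Sh J} {ι : Type w} {F : ι → Sh J} {π : ∀ i, F i ⟶ X} (h : JE π)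
    {κ : Type*} {G : κ → Sh J} (ρ : ∀ k, G k ⟶ X)
    (hfac : ∀ i, ∃ (k : κ) (φ : F i ⟶ G k), φ ≫ ρ k = π i) : JE ρ := by
  intro Z a b hab
  apply h
  intro i
  obtain ⟨k, φ, hφ⟩ := hfac i
  rw [← hφ, Category.assoc, Category.assoc, hab k]

/-- composition of jointly epimorphic families -/
theorem je_comp {X : Sh J} {ι : Type w} {F : ι → Sh J} {π : ∀ i, F i ⟶ X} (h : JE π)
    {κ : ι → Type*} {G : ∀ i, κ i → Sh J} (ρ : ∀ i (k : κ i), G i k ⟶ F i)
    (hρ : ∀ i, JE (ρ i)) : JE (fun p : Σ i, κ i => ρ p.1 p.2 ≫ π p.1) := by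
  intro Z a b hab
  apply h
  intro i
  apply hρ i
  intro k
  have := hab ⟨i, k⟩
  simpa only [Category.assoc] using this

theorem je_of_epi {X Y : Sh J} (f : X ⟶ Y) [Epi f] : JE (fun _ : Unit => f) := by
  intro Z a b hab
  exact (cancel_epi f).mp (hab ())

theorem epi_of_je_unit {X Y : Sh J} (f : X ⟶ Y) (h : JE (fun _ : Unit => f)) : Epi f :=
  ⟨fun a b hab => h _ a b (fun _ => hab)⟩

/-! ### quasi-compact objects -/

theorem isQC_iff_je (X : Sh J) : IsQC X ↔ ∀ (ι : Type u) (F : ι → Sh J) (π : ∀ i, F i ⟶ X),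
    JE π → ∃ s : Finset ι, JE (fun i : s => π i) := by
  constructor
  · intro h ι F π hπ
    obtain ⟨s, hs⟩ := h ι F π ((epi_desc_iff_je π).mpr hπ)
    exact ⟨s, (epi_desc_iff_je _).mp hs⟩
  · intro h ι F π hπ
    obtain ⟨s, hs⟩ := h ι F π ((epi_desc_iff_je π).mp hπ)
    exact ⟨s, (epi_desc_iff_je _).mpr hs⟩

theorem isQC_of_iso {X Y : Sh J} (e : X ≅ Y) (h : IsQC Y) : IsQC X := by
  rw [isQC_iff_je] at h ⊢
  intro ι F π hπ
  have h2 : JE (fun i => π i ≫ e.hom) := by
    intro Z a b hab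
    have : e.hom ≫ a = e.hom ≫ b := hπ Z _ _ (fun i => by simpa using hab i)
    exact (cancel_epi e.hom).mp this
  obtain ⟨s, hs⟩ := h ι F _ h2
  refine ⟨s, ?_⟩
  intro Z a b hab
  have : e.inv ≫ a = e.inv ≫ b := hs Z _ _ (fun i => by simp [hab i])
  exact (cancel_epi e.inv).mp this

theorem isQC_of_finite_cover {X : Sh J} {κ : Type w} [Finite κ] {G : κ → Sh J}
    (ρ : ∀ k, G k ⟶ X) (hρ : JE ρ) (hG : ∀ k, IsQC (G k)) : IsQC X := by
  classical
  rw [isQC_iff_je]
  intro ι F π hπ
  have h1 : ∀ k, ∃ s : Finset ι, JE (fun i : s => pullback.snd (π i) (ρ k)) := by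
    intro k
    exact (isQC_iff_je _).mp (hG k) ι _ _ (je_pullback_snd hπ (ρ k))
  choose s hs using h1
  have := Fintype.ofFinite κ
  refine ⟨Finset.univ.biUnion s, ?_⟩
  intro Z a b hab
  apply hρ
  intro k
  apply hs k
  intro i
  have hi : (i : ι) ∈ Finset.univ.biUnion s :=
    Finset.mem_biUnion.mpr ⟨k, Finset.mem_univ _, i.2⟩
  have h2 := hab ⟨i, hi⟩
  calc pullback.snd (π i) (ρ k) ≫ ρ k ≫ a = pullback.fst (π i) (ρ k) ≫ π i ≫ a := by
        rw [← Category.assoc, ← pullback.condition, Category.assoc]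
    _ = pullback.fst (π i) (ρ k) ≫ π i ≫ b := by rw [h2]
    _ = pullback.snd (π i) (ρ k) ≫ ρ k ≫ b := by
        rw [← Category.assoc, pullback.condition, Category.assoc]

theorem isQC_of_epi {X Y : Sh J} (f : X ⟶ Y) [Epi f] (hX : IsQC X) : IsQC Y :=
  isQC_of_finite_cover (fun _ : Unit => f) (je_of_epi f) (fun _ => hX)

/-! ### quasi-compact morphisms -/

/-- quasi-compact morphisms as a morphism property -/
def qcHom : MorphismProperty (Sh J) := fun _ _ f => IsQCHom f

theorem isQC_of_isPullback {X Y P Y' : Sh J} {f : X ⟶ Y} (hf : IsQCHom f) {p : P ⟶ X}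
    {q : P ⟶ Y'} {g : Y' ⟶ Y} (h : IsPullback p q f g) (hY' : IsQC Y') : IsQC P :=
  isQC_of_iso h.isoPullback (hf Y' g hY')

instance : (qcHom (J := J)).IsStableUnderComposition where
  comp_mem {X Y Z} f g hf hg := by
    intro Z' h hZ'
    have hQ : IsQC (pullback g h) := hg Z' h hZ'
    have hP : IsQC (pullback f (pullback.fst g h)) := hf _ _ hQ
    have sq := (IsPullback.of_hasPullback f (pullback.fst g h)).paste_vert
      (IsPullback.of_hasPullback g h)
    exact isQC_of_iso sq.isoPullback.symm hP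

theorem isQCHom_of_isIso {X Y : Sh J} (f : X ⟶ Y) [IsIso f] : IsQCHom f := by
  intro Y' g hY'
  exact isQC_of_iso (asIso (pullback.snd f g)) hY'

instance : (qcHom (J := J)).ContainsIdentities where
  id_mem X := isQCHom_of_isIso (𝟙 X)

instance : (qcHom (J := J)).IsMultiplicative where

instance : (qcHom (J := J)).RespectsIso :=
  MorphismProperty.respectsIso_of_isStableUnderComposition
    (fun _ _ f (_ : IsIso f) => isQCHom_of_isIso f)

instance : (qcHom (J := J)).IsStableUnderBaseChange where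
  of_isPullback {X Y Y' S f g f' g'} sq hg := by
    intro W h hW
    have sq2 := (IsPullback.of_hasPullback g' h).paste_horiz sq
    exact isQC_of_isPullback hg sq2 hW

theorem isQSHom_iff {X Y : Sh J} (f : X ⟶ Y) : IsQSHom f ↔ (qcHom (J := J)).diagonal f := Iff.rfl

theorem isQCHom_iff {X Y : Sh J} (f : X ⟶ Y) : IsQCHom f ↔ (qcHom (J := J)) f := Iff.rfl

end Groth.Agent.H28.Topos
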