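import Groth.Agent.H28.ToposQS
import Mathlib.CategoryTheory.Extensive
import Mathlib.CategoryTheory.Limits.MonoCoprod
import Mathlib.CategoryTheory.Limits.Shapes.StrictInitial
import Mathlib.CategoryTheory.Sites.LeftExact
import Mathlib.Data.Finset.Sum

/-!
# Coproducts in the topos `Sheaf J (Type u)` and quasi-compactness (helper28)

* `IsQC.exists_finset` : quasi-compactness for families indexed by a type in any universe;
* `je_inj`, `mono_inj`, `isInitial_of_inj_eq` : the injections of a (small or large) coproduct are jointly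
  epimorphic, monomorphic and pairwise disjoint;
* `isQC_of_isInitial`;
* `isQCHom_inj` : coproduct injections are quasi-compact morphisms (a summand of a quasi-compact object is
  quasi-compact);
* `isQSHom_desc_iff` : a morphism out of a coproduct is quasi-separated iff its components are.
-/

set_option autoImplicit false

universe w w' u

open CategoryTheory CategoryTheory.Limits Opposite ToposFin

namespace Groth.Agent.H28.Topos

variable {C : Type u} [SmallCategory C] {J : GrothendieckTopology C}

theorem _root_.ToposFin.IsQC.exists_finset {X : Sh J} (hX : IsQC X) {ι : Type w} {F : ι → Sh J}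
    (π : ∀ i, F i ⟶ X) (hπ : JE π) : ∃ s : Finset ι, JE (fun i : s => π i) := by
  classical
  have hjls := jls_of_je hπ
  choose S hS hx using hjls
  let I := Σ (U : C) (x : X.obj.obj (op U)) (V : C), {f : V ⟶ U // (S U x).arrows f}
  have hch : ∀ t : I, ∃ (i : ι) (a : (F i).obj.obj (op t.2.2.1)),
      (π i).hom.app (op t.2.2.1) a = X.obj.map t.2.2.2.1.op t.2.1 :=
    fun t => hx t.1 t.2.1 t.2.2.2.1 t.2.2.2.2
  choose idx a ha using hch
  have hJ : JLS (fun t : I => π (idx t)) := by
    intro U x
    exact ⟨S U x, hS U x, fun V f hf => ⟨⟨U, x, V, f, hf⟩, a _, ha _⟩⟩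
  obtain ⟨s, hs⟩ := (isQC_iff_je X).mp hX I _ _ (je_of_jls hJ)
  refine ⟨s.image idx, ?_⟩
  exact je_of_factor hs _
    (fun t => ⟨⟨idx t, Finset.mem_image_of_mem _ t.2⟩, 𝟙 _, Category.id_comp _⟩)

theorem je_inj {ι : Type w} {X : ι → Sh J} {c : Cofan X} (hc : IsColimit c) : JE c.inj :=
  fun _ a b hab => Cofan.IsColimit.hom_ext hc a b hab

theorem mono_inj {ι : Type w} {X : ι → Sh J} (c : Cofan X) (hc : IsColimit c) (i : ι) :
    Mono (c.inj i) := by
  classical
  let φ : ∀ j, X j ⟶ (X i ⨿ ⊤_ (Sh J)) := fun j =>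
    if h : j = i then eqToHom (by rw [h]) ≫ coprod.inl else terminal.from _ ≫ coprod.inr
  have h1 : c.inj i ≫ Cofan.IsColimit.desc hc φ = coprod.inl := by
    rw [Cofan.IsColimit.fac]
    simp [φ]
  have : Mono (c.inj i ≫ Cofan.IsColimit.desc hc φ) := by
    rw [h1]
    infer_instance
  exact mono_of_mono (c.inj i) (Cofan.IsColimit.desc hc φ)

theorem isInitial_of_inj_eq {ι : Type w} {X : ι → Sh J} (c : Cofan X) (hc : IsColimit c)
    {i j : ι} (hij : i ≠ j) {T : Sh J} (u : T ⟶ X i) (v : T ⟶ X j)
    (h : u ≫ c.inj i = v ≫ c.inj j) : Nonempty (IsInitial T) := by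
  classical
  let φ : ∀ k, X k ⟶ (⊤_ (Sh J)) ⨿ (⊤_ (Sh J)) := fun k =>
    terminal.from _ ≫ (if k = i then coprod.inl else coprod.inr)
  have hi : c.inj i ≫ Cofan.IsColimit.desc hc φ = terminal.from _ ≫ coprod.inl := by
    rw [Cofan.IsColimit.fac]
    simp [φ]
  have hj : c.inj j ≫ Cofan.IsColimit.desc hc φ = terminal.from _ ≫ coprod.inr := by
    rw [Cofan.IsColimit.fac]
    simp [φ, Ne.symm hij]
  have h2 : terminal.from T ≫ (coprod.inl : ⊤_ (Sh J) ⟶ (⊤_ (Sh J)) ⨿ (⊤_ (Sh J))) =
      terminal.from T ≫ coprod.inr := by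
    have h3 := congrArg (fun t => t ≫ Cofan.IsColimit.desc hc φ) h
    simp only [Category.assoc, hi, hj] at h3
    rw [← Category.assoc, ← Category.assoc, terminal.comp_from, terminal.comp_from] at h3
    exact h3
  have sq := FinitaryExtensive.isPullback_initial_to_binaryCofan
    (coprodIsCoprod (⊤_ (Sh J)) (⊤_ (Sh J)))
  exact ⟨IsInitial.ofStrict (sq.lift (terminal.from T) (terminal.from T) h2) initialIsInitial⟩

theorem isQC_of_isInitial {T : Sh J} (hT : IsInitial T) : IsQC T := by
  rw [isQC_iff_je]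
  intro ι F π _
  exact ⟨∅, fun Z a b _ => hT.hom_ext a b⟩

/-- coproduct injections are quasi-compact morphisms -/
theorem isQCHom_inj {ι : Type w} {X : ι → Sh J} (c : Cofan X) (hc : IsColimit c) (i : ι) :
    IsQCHom (c.inj i) := by
  classical
  intro Y' g hY'
  have hmono : Mono (c.inj i) := mono_inj c hc i
  rw [isQC_iff_je]
  intro κ G π hπ
  have hm : JE (fun j => pullback.snd (c.inj j) g) := je_pullback_snd (je_inj hc) g
  let Fam : κ ⊕ {j : ι // j ≠ i} → Sh J := Sum.elim G (fun j => pullback (c.inj j.1) g)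
  let ψ : ∀ x, Fam x ⟶ Y' := fun x => match x with
    | Sum.inl k => π k ≫ pullback.snd (c.inj i) g
    | Sum.inr j => pullback.snd (c.inj j.1) g
  have hψ : JE ψ := by
    intro Z a b hab
    apply hm
    intro j
    by_cases hj : j = i
    · rw [hj]
      apply hπ
      intro k
      have h4 : (π k ≫ pullback.snd (c.inj i) g) ≫ a = (π k ≫ pullback.snd (c.inj i) g) ≫ b :=
        hab (Sum.inl k)
      simpa only [Category.assoc] using h4
    · exact hab (Sum.inr ⟨j, hj⟩)
  obtain ⟨s, hs⟩ := hY'.exists_finset ψ hψ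
  refine ⟨s.toLeft, ?_⟩
  intro Z a b hab
  apply je_pullback_snd hs (pullback.snd (c.inj i) g)
  rintro ⟨x, hx⟩
  rcases x with k | ⟨j, hj⟩
  · show pullback.snd (π k ≫ pullback.snd (c.inj i) g) (pullback.snd (c.inj i) g) ≫ a =
      pullback.snd (π k ≫ pullback.snd (c.inj i) g) (pullback.snd (c.inj i) g) ≫ b
    have h5 : pullback.fst (π k ≫ pullback.snd (c.inj i) g) (pullback.snd (c.inj i) g) ≫ π k =
        pullback.snd (π k ≫ pullback.snd (c.inj i) g) (pullback.snd (c.inj i) g) := by
      rw [← cancel_mono (pullback.snd (c.inj i) g), Category.assoc]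
      exact pullback.condition
    have h6 := hab ⟨k, Finset.mem_toLeft.mpr hx⟩
    rw [← h5, Category.assoc, Category.assoc]
    exact congrArg _ h6
  · show pullback.snd (pullback.snd (c.inj j) g) (pullback.snd (c.inj i) g) ≫ a =
      pullback.snd (pullback.snd (c.inj j) g) (pullback.snd (c.inj i) g) ≫ b
    have h7 : (pullback.fst (pullback.snd (c.inj j) g) (pullback.snd (c.inj i) g) ≫
        pullback.fst (c.inj j) g) ≫ c.inj j =
        (pullback.snd (pullback.snd (c.inj j) g) (pullback.snd (c.inj i) g) ≫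
        pullback.fst (c.inj i) g) ≫ c.inj i := by
      rw [Category.assoc, Category.assoc, pullback.condition, pullback.condition,
        ← Category.assoc, ← Category.assoc, pullback.condition]
    obtain ⟨hT⟩ := isInitial_of_inj_eq c hc hj _ _ h7
    exact hT.hom_ext _ _

/-- the key case for quasi-separatedness of a morphism out of a coproduct -/
theorem isQC_pullback_diagonal_inj {ι : Type w} {X : ι → Sh J} (c : Cofan X) (hc : IsColimit c)
    {Y : Sh J} (f : c.pt ⟶ Y) (hfi : ∀ i, IsQSHom (c.inj i ≫ f)) {B : Sh J} (hB : IsQC B)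
    (k : B ⟶ pullback f f) (i j : ι) (x : B ⟶ X i) (x' : B ⟶ X j)
    (hx : x ≫ c.inj i = k ≫ pullback.fst f f) (hx' : x' ≫ c.inj j = k ≫ pullback.snd f f) :
    IsQC (pullback (pullback.diagonal f) k) := by
  by_cases hij : i = j
  · subst hij
    have hmono : Mono (c.inj i) := mono_inj c hc i
    have hg' : (k ≫ pullback.fst f f) ≫ f = (k ≫ pullback.snd f f) ≫ f := by
      rw [Category.assoc, Category.assoc, pullback.condition]
    have hgg : pullback.lift (k ≫ pullback.fst f f) (k ≫ pullback.snd f f) hg' = k := by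
      apply pullback.hom_ext <;> simp [pullback.lift_fst, pullback.lift_snd]
    have h' : x ≫ (c.inj i ≫ f) = x' ≫ (c.inj i ≫ f) := by
      rw [← Category.assoc, ← Category.assoc, hx, hx', hg']
    have hl := equalizerIsEqualizer x x'
    have sqA := isPullback_diagonal_of_fork' f _ _ hg' (c.inj i) x x' hx hx' _ _ hl
    rw [hgg] at sqA
    have sqB := isPullback_diagonal_of_fork (c.inj i ≫ f) x x' h' _ _ hl
    have hE : IsQC (equalizer x x') := isQC_of_isPullback (hfi i) sqB hB
    exact isQC_of_iso sqA.isoPullback.symm hE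
  · have h1 := pullback.condition (f := pullback.diagonal f) (g := k) =≫ pullback.fst f f
    have h2 := pullback.condition (f := pullback.diagonal f) (g := k) =≫ pullback.snd f f
    simp only [Category.assoc, pullback.diagonal_fst, pullback.diagonal_snd, Category.comp_id,
      ← hx, ← hx'] at h1 h2
    have h3 : (pullback.snd (pullback.diagonal f) k ≫ x) ≫ c.inj i =
        (pullback.snd (pullback.diagonal f) k ≫ x') ≫ c.inj j := by
      rw [Category.assoc, Category.assoc, ← h1, ← h2]
    obtain ⟨hT⟩ := isInitial_of_inj_eq c hc hij _ _ h3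
    exact isQC_of_isInitial hT

theorem isQSHom_desc_iff {ι : Type w} {X : ι → Sh J} (c : Cofan X) (hc : IsColimit c) {Y : Sh J}
    (f : c.pt ⟶ Y) : IsQSHom f ↔ ∀ i, IsQSHom (c.inj i ≫ f) := by
  constructor
  · intro hf i
    have hmono : Mono (c.inj i) := mono_inj c hc i
    exact isQSHom_comp (c.inj i) f (isQSHom_of_mono (c.inj i)) hf
  · intro hfi
    show IsQCHom (pullback.diagonal f)
    intro Y' g hY'
    have hA : ∀ i, IsQC (pullback (c.inj i) (g ≫ pullback.fst f f)) :=
      fun i => isQCHom_inj c hc i Y' _ hY'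
    have hB : ∀ i j, IsQC (pullback (c.inj j)
        (pullback.snd (c.inj i) (g ≫ pullback.fst f f) ≫ g ≫ pullback.snd f f)) :=
      fun i j => isQCHom_inj c hc j _ _ (hA i)
    have hρ := je_comp (je_pullback_snd (je_inj hc) (g ≫ pullback.fst f f))
      (fun i j => pullback.snd (c.inj j)
        (pullback.snd (c.inj i) (g ≫ pullback.fst f f) ≫ g ≫ pullback.snd f f))
      (fun i => je_pullback_snd (je_inj hc) _)
    obtain ⟨s, hs⟩ := hY'.exists_finset _ hρ
    refine isQC_of_cover_right (IsPullback.of_hasPullback (pullback.diagonal f) g) _ hs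
      (fun p => ?_)
    obtain ⟨⟨i, j⟩, hp⟩ := p
    refine isQC_pullback_diagonal_inj c hc f hfi (hB i j) _ i j
      (pullback.snd (c.inj j)
        (pullback.snd (c.inj i) (g ≫ pullback.fst f f) ≫ g ≫ pullback.snd f f) ≫
        pullback.fst (c.inj i) (g ≫ pullback.fst f f))
      (pullback.fst (c.inj j)
        (pullback.snd (c.inj i) (g ≫ pullback.fst f f) ≫ g ≫ pullback.snd f f)) ?_ ?_
    · simp only [Category.assoc]
      rw [pullback.condition]
    · simp only [Category.assoc]
      rw [pullback.condition]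

end Groth.Agent.H28.Topos
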