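import Groth.Agent.H28.ToposBasic
import Mathlib.CategoryTheory.Limits.Shapes.Diagonal
import Mathlib.CategoryTheory.Limits.Shapes.Pullback.Pasting
import Mathlib.CategoryTheory.Limits.Preserves.Shapes.Pullbacks
import Mathlib.CategoryTheory.Adjunction.Basic

/-!
# Quasi-separated objects and morphisms in the topos `Sheaf J (Type u)` (helper28)

* `isPullback_diagonal_of_fork` : the equalizer of `g1 g2 : K ⟶ X` (over `Y`) is the pullback of the diagonal of `f`;
* `isPullback_sections` : the equalizer as the fibre product of two sections;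
* `isQS_iff`, `isQS_of_isQSHom`, `isQS_of_mono`, `isQS_of_iso`;
* `isQC_of_cover_right`, `isQC_of_cover_left`, `isQC_pullback_of_covers` : quasi-compactness of a fibre product is
  checked on finite covers of the factors;
* `GenBy P`, `isQCHom_of_generators`, `exists_finite_cover_factoring`;
* `isQS_of_mem` : members of a generating set of quasi-compact objects stable under fibre products are quasi-separated;
* `isQC_pullback_diagonal` : the core criterion for quasi-compactness of the pullback of a diagonal;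
* `isQSHom_of_isQS_algebraic` : in an algebraic topos every morphism with quasi-separated source is quasi-separated;
* `je_map_of_adj` : left adjoints preserve jointly epimorphic families.
-/

set_option autoImplicit false

universe w w' u

open CategoryTheory CategoryTheory.Limits Opposite ToposFin

namespace Groth.Agent.H28.Topos

section general

variable {𝒞 : Type*} [Category 𝒞]

theorem isPullback_sections {W K X E : 𝒞} (φ : W ⟶ X) (π : W ⟶ K)
    (hmono : ∀ {T : 𝒞} (a b : T ⟶ W), a ≫ φ = b ≫ φ → a ≫ π = b ≫ π → a = b)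
    (g1 g2 : K ⟶ X) (s1 s2 : K ⟶ W) (h1 : s1 ≫ φ = g1) (h1' : s1 ≫ π = 𝟙 K)
    (h2 : s2 ≫ φ = g2) (h2' : s2 ≫ π = 𝟙 K)
    (e : E ⟶ K) (w : e ≫ g1 = e ≫ g2) (hl : IsLimit (Fork.ofι e w)) :
    IsPullback e e s1 s2 := by
  have comm : e ≫ s1 = e ≫ s2 := by
    apply hmono
    · rw [Category.assoc, Category.assoc, h1, h2, w]
    · rw [Category.assoc, Category.assoc, h1', h2']
  have key : ∀ s : PullbackCone s1 s2, s.fst = s.snd ∧ s.fst ≫ g1 = s.fst ≫ g2 := by
    intro s
    have a1 := s.condition =≫ φ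
    have a2 := s.condition =≫ π
    simp only [Category.assoc, h1, h2, h1', h2', Category.comp_id] at a1 a2
    exact ⟨a2, by rw [a1, a2]⟩
  exact IsPullback.of_isLimit' ⟨comm⟩ (PullbackCone.IsLimit.mk _
    (fun s => Fork.IsLimit.lift hl s.fst (key s).2)
    (fun s => Fork.IsLimit.lift_ι' hl _ _)
    (fun s => (Fork.IsLimit.lift_ι' hl _ _).trans (key s).1)
    (fun s m' hm1 _ => Fork.IsLimit.hom_ext hl (hm1.trans (Fork.IsLimit.lift_ι' hl _ _).symm)))

variable [HasPullbacks 𝒞]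

theorem isPullback_diagonal_of_fork' {X X' Y K E : 𝒞} (f : X ⟶ Y) (g1 g2 : K ⟶ X)
    (h : g1 ≫ f = g2 ≫ f) (m : X' ⟶ X) [Mono m] (x x' : K ⟶ X') (hx : x ≫ m = g1)
    (hx' : x' ≫ m = g2) (e : E ⟶ K) (w : e ≫ x = e ≫ x') (hl : IsLimit (Fork.ofι e w)) :
    IsPullback (e ≫ g1) e (pullback.diagonal f) (pullback.lift g1 g2 h) := by
  have w' : e ≫ g1 = e ≫ g2 := by
    calc e ≫ g1 = (e ≫ x) ≫ m := by rw [Category.assoc, hx]
      _ = (e ≫ x') ≫ m := by rw [w]
      _ = e ≫ g2 := by rw [Category.assoc, hx']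
  have comm : (e ≫ g1) ≫ pullback.diagonal f = e ≫ pullback.lift g1 g2 h := by
    apply pullback.hom_ext
    · simp [pullback.lift_fst]
    · simp [pullback.lift_snd, w']
  have key : ∀ s : PullbackCone (pullback.diagonal f) (pullback.lift g1 g2 h),
      s.fst = s.snd ≫ g1 ∧ s.snd ≫ x = s.snd ≫ x' := by
    intro s
    have h1 := s.condition =≫ pullback.fst f f
    have h2 := s.condition =≫ pullback.snd f f
    simp only [Category.assoc, pullback.diagonal_fst, pullback.diagonal_snd, pullback.lift_fst,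
      pullback.lift_snd, Category.comp_id] at h1 h2
    refine ⟨h1, (cancel_mono m).mp ?_⟩
    rw [Category.assoc, Category.assoc, hx, hx']
    exact h1.symm.trans h2
  exact IsPullback.of_isLimit' ⟨comm⟩ (PullbackCone.IsLimit.mk _
    (fun s => Fork.IsLimit.lift hl s.snd (key s).2)
    (fun s => by
      have h3 : Fork.IsLimit.lift hl s.snd (key s).2 ≫ e = s.snd := Fork.IsLimit.lift_ι' hl _ _
      rw [← Category.assoc, h3]
      exact (key s).1.symm)
    (fun s => Fork.IsLimit.lift_ι' hl _ _)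
    (fun s m' _ hm2 => Fork.IsLimit.hom_ext hl (hm2.trans (Fork.IsLimit.lift_ι' hl _ _).symm)))

theorem isPullback_diagonal_of_fork {X Y K E : 𝒞} (f : X ⟶ Y) (g1 g2 : K ⟶ X)
    (h : g1 ≫ f = g2 ≫ f) (e : E ⟶ K) (w : e ≫ g1 = e ≫ g2) (hl : IsLimit (Fork.ofι e w)) :
    IsPullback (e ≫ g1) e (pullback.diagonal f) (pullback.lift g1 g2 h) :=
  isPullback_diagonal_of_fork' f g1 g2 h (𝟙 X) g1 g2 (Category.comp_id _) (Category.comp_id _) e w hl

end general

variable {C : Type u} [SmallCategory C] {J : GrothendieckTopology C}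

/-! ### quasi-separated objects -/

theorem isQS_iff (X : Sh J) : IsQS X ↔ ∀ (Y : Sh J) (a : Y ⟶ X), IsQC Y → IsQCHom a :=
  ⟨fun h Y a hY Z b hZ => h Y Z a b hY hZ, fun h Y Z a b hY hZ => h Y a hY Z b hZ⟩

theorem isQS_of_isQSHom {X Y : Sh J} (f : X ⟶ Y) (hf : IsQSHom f) (hY : IsQS Y) : IsQS X := by
  intro A B a b hA hB
  exact isQC_of_isPullback hf (pullback_map_diagonal_isPullback a b f)
    (hY A B (a ≫ f) (b ≫ f) hA hB)

theorem isQSHom_of_mono {X Y : Sh J} (f : X ⟶ Y) [Mono f] : IsQSHom f := by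
  have : IsIso (pullback.diagonal f) := (pullback.isIso_diagonal_iff f).mpr inferInstance
  exact isQCHom_of_isIso _

theorem isQS_of_mono {X Y : Sh J} (f : X ⟶ Y) [Mono f] (hY : IsQS Y) : IsQS X :=
  isQS_of_isQSHom f (isQSHom_of_mono f) hY

theorem isQS_of_iso {X Y : Sh J} (e : X ≅ Y) (hY : IsQS Y) : IsQS X := isQS_of_mono e.hom hY

theorem isQSHom_pullback_fst {X Y S : Sh J} (f : X ⟶ S) (g : Y ⟶ S) (hg : IsQSHom g) :
    IsQSHom (pullback.fst f g) :=
  (qcHom (J := J)).diagonal.pullback_fst f g hg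

theorem isQSHom_pullback_snd {X Y S : Sh J} (f : X ⟶ S) (g : Y ⟶ S) (hf : IsQSHom f) :
    IsQSHom (pullback.snd f g) :=
  (qcHom (J := J)).diagonal.pullback_snd f g hf

theorem isQSHom_comp {X Y Z : Sh J} (f : X ⟶ Y) (g : Y ⟶ Z) (hf : IsQSHom f) (hg : IsQSHom g) :
    IsQSHom (f ≫ g) :=
  (qcHom (J := J)).diagonal.comp_mem f g hf hg

theorem isQCHom_comp {X Y Z : Sh J} (f : X ⟶ Y) (g : Y ⟶ Z) (hf : IsQCHom f) (hg : IsQCHom g) :
    IsQCHom (f ≫ g) :=
  (qcHom (J := J)).comp_mem f g hf hg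

/-! ### covers of the factors of a fibre product -/

theorem isQC_pullback_congr {A B X : Sh J} {a a' : A ⟶ X} {b b' : B ⟶ X} (ha : a = a')
    (hb : b = b') (h : IsQC (pullback a' b')) : IsQC (pullback a b) := by
  subst ha
  subst hb
  exact h

theorem isQC_of_cover_right {P A B X : Sh J} {p : P ⟶ A} {q : P ⟶ B} {a : A ⟶ X} {b : B ⟶ X}
    (h : IsPullback p q a b) {κ : Type w} [Finite κ] {G : κ → Sh J} (ρ : ∀ k, G k ⟶ B)
    (hρ : JE ρ) (hG : ∀ k, IsQC (pullback a (ρ k ≫ b))) : IsQC P := by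
  have key : ∀ k, ∃ l : pullback a (ρ k ≫ b) ⟶ P,
      IsPullback (pullback.snd a (ρ k ≫ b)) l (ρ k) q := by
    intro k
    have hl1 : (h.lift (pullback.fst a (ρ k ≫ b)) (pullback.snd a (ρ k ≫ b) ≫ ρ k)
        (by rw [pullback.condition, Category.assoc])) ≫ p = pullback.fst a (ρ k ≫ b) :=
      h.lift_fst _ _ _
    have big : IsPullback ((h.lift (pullback.fst a (ρ k ≫ b)) (pullback.snd a (ρ k ≫ b) ≫ ρ k)
        (by rw [pullback.condition, Category.assoc])) ≫ p) (pullback.snd a (ρ k ≫ b)) a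
        (ρ k ≫ b) := by
      rw [hl1]
      exact IsPullback.of_hasPullback _ _
    exact ⟨_, (big.of_right (h.lift_snd _ _ _) h).flip⟩
  choose l hl using key
  exact isQC_of_finite_cover l (je_of_isPullback hρ q _ l hl) hG

theorem isQC_of_cover_left {P A B X : Sh J} {p : P ⟶ A} {q : P ⟶ B} {a : A ⟶ X} {b : B ⟶ X}
    (h : IsPullback p q a b) {κ : Type w} [Finite κ] {G : κ → Sh J} (σ : ∀ k, G k ⟶ A)
    (hσ : JE σ) (hG : ∀ k, IsQC (pullback (σ k ≫ a) b)) : IsQC P :=
  isQC_of_cover_right h.flip σ hσ (fun k => isQC_of_iso (pullbackSymmetry _ _) (hG k))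

theorem isQC_pullback_of_covers {A B X : Sh J} (a : A ⟶ X) (b : B ⟶ X) {κ : Type w}
    {κ' : Type w'} [Finite κ] [Finite κ'] {G : κ → Sh J} {G' : κ' → Sh J} (σ : ∀ k, G k ⟶ A)
    (hσ : JE σ) (ρ : ∀ k, G' k ⟶ B) (hρ : JE ρ)
    (h : ∀ k k', IsQC (pullback (σ k ≫ a) (ρ k' ≫ b))) : IsQC (pullback a b) :=
  isQC_of_cover_left (IsPullback.of_hasPullback a b) σ hσ (fun k =>
    isQC_of_cover_right (IsPullback.of_hasPullback (σ k ≫ a) b) ρ hρ (fun k' => h k k'))

/-- `A ×_X B` is quasi-compact when `A → X`, `B → X` factor through quasi-separated `U`, `V` with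
`U ×_X V` quasi-compact. -/
theorem isQC_pullback_comp_comp {A B U V X : Sh J} (s : A ⟶ U) (t : B ⟶ V) (p : U ⟶ X) (q : V ⟶ X)
    (hA : IsQC A) (hB : IsQC B) (hU : IsQS U) (hV : IsQS V) (hpq : IsQC (pullback p q)) :
    IsQC (pullback (s ≫ p) (t ≫ q)) := by
  have h1 : IsQC (pullback s (pullback.fst p q)) := hU A (pullback p q) s (pullback.fst p q) hA hpq
  have h2 : IsQC (pullback (s ≫ p) q) := isQC_of_iso (pullbackRightPullbackFstIso p q s).symm h1
  have h3 : IsQC (pullback (pullback.snd (s ≫ p) q) t) :=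
    hV _ B (pullback.snd (s ≫ p) q) t h2 hB
  exact isQC_of_iso (pullbackLeftPullbackSndIso (s ≫ p) q t).symm h3

/-! ### generating families -/

/-- every object is covered by objects satisfying `P` -/
def GenBy (P : Sh J → Prop) : Prop :=
  ∀ X : Sh J, ∃ (ι : Type u) (F : ι → Sh J) (π : ∀ i, F i ⟶ X), (∀ i, P (F i)) ∧ JE π

theorem genBy_of_isGenerating {S : Set (Sh J)} (h : IsGenerating S) : GenBy (fun K => K ∈ S) := h

theorem genBy_of_hasQCGenerators (h : HasQCGenerators J) : GenBy (fun K : Sh J => IsQC K) := by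
  intro X
  obtain ⟨ι, F, π, hF, hπ⟩ := h X
  exact ⟨ι, F, π, hF, (epi_desc_iff_je π).mp hπ⟩

theorem isQCHom_of_generators (S : Set (Sh J)) (hgen : IsGenerating S) {X Y : Sh J} (f : X ⟶ Y)
    (h : ∀ K ∈ S, ∀ g : K ⟶ Y, IsQC (pullback f g)) : IsQCHom f := by
  intro Y' g hY'
  obtain ⟨ι, F, π, hF, hπ⟩ := hgen Y'
  obtain ⟨s, hs⟩ := (isQC_iff_je Y').mp hY' ι F π hπ
  exact isQC_of_cover_right (IsPullback.of_hasPullback f g) (fun i : s => π i) hs
    (fun i => h _ (hF i) _)

theorem exists_finite_cover_factoring {P : Sh J → Prop} (hgen : GenBy P) {Y : Sh J} {ι : Type u}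
    {Yi : ι → Sh J} (g : ∀ i, Yi i ⟶ Y) (hg : JE g) {K : Sh J} (hK : IsQC K) (y : K ⟶ Y) :
    ∃ (κ : Type u) (_ : Finite κ) (F : κ → Sh J) (ρ : ∀ k, F k ⟶ K) (i : κ → ι)
      (t : ∀ k, F k ⟶ Yi (i k)), (∀ k, P (F k)) ∧ JE ρ ∧ ∀ k, ρ k ≫ y = t k ≫ g (i k) := by
  have h1 : JE (fun i => pullback.snd (g i) y) := je_pullback_snd hg y
  choose ι' F' π' hF' hπ' using fun i => hgen (pullback (g i) y)
  have h2 := je_comp h1 π' hπ'
  obtain ⟨s, hs⟩ := (isQC_iff_je K).mp hK _ _ _ h2
  refine ⟨s, inferInstance, fun p => F' p.1.1 p.1.2,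
    fun p => π' p.1.1 p.1.2 ≫ pullback.snd (g p.1.1) y, fun p => p.1.1,
    fun p => π' p.1.1 p.1.2 ≫ pullback.fst (g p.1.1) y, fun p => hF' _ _, hs, fun p => ?_⟩
  rw [Category.assoc, Category.assoc, pullback.condition]

theorem isQS_of_mem (S : Set (Sh J)) (hqc : ∀ K ∈ S, IsQC K) (hgen : IsGenerating S)
    (hpb : ClosedUnderPullbacks S) {K : Sh J} (hK : K ∈ S) : IsQS K := by
  intro A B a b hA hB
  obtain ⟨ι, F, π, hF, hπ⟩ := hgen A
  obtain ⟨s, hs⟩ := (isQC_iff_je A).mp hA ι F π hπ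
  obtain ⟨ι', F', π', hF', hπ'⟩ := hgen B
  obtain ⟨s', hs'⟩ := (isQC_iff_je B).mp hB ι' F' π' hπ'
  refine isQC_pullback_of_covers a b (fun i : s => π i) hs (fun j : s' => π' j) hs' (fun i j => ?_)
  obtain ⟨P, p, q, hP, hsq⟩ := hpb (π i ≫ a) (π' j ≫ b) (hF i) (hF' j) hK
  exact isQC_of_iso hsq.isoPullback.symm (hqc P hP)

/-! ### the diagonal -/

theorem isQC_pullback_diagonal {X Y Y' K : Sh J} (f : X ⟶ Y) (hK : IsQC K)
    (g : K ⟶ pullback f f) (f' : X ⟶ Y') (y' : K ⟶ Y')
    (h1 : (g ≫ pullback.fst f f) ≫ f' = y') (h2 : (g ≫ pullback.snd f f) ≫ f' = y')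
    (hW : IsQS (pullback f' y')) : IsQC (pullback (pullback.diagonal f) g) := by
  have hg : (g ≫ pullback.fst f f) ≫ f = (g ≫ pullback.snd f f) ≫ f := by
    rw [Category.assoc, Category.assoc, pullback.condition]
  have hgg : pullback.lift (g ≫ pullback.fst f f) (g ≫ pullback.snd f f) hg = g := by
    apply pullback.hom_ext <;> simp [pullback.lift_fst, pullback.lift_snd]
  have hl := equalizerIsEqualizer (g ≫ pullback.fst f f) (g ≫ pullback.snd f f)
  have sq1 := isPullback_diagonal_of_fork f _ _ hg _ _ hl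
  rw [hgg] at sq1
  have sq2 := isPullback_sections (pullback.fst f' y') (pullback.snd f' y')
    (fun a b hab hab' => pullback.hom_ext hab hab')
    (g ≫ pullback.fst f f) (g ≫ pullback.snd f f)
    (pullback.lift (g ≫ pullback.fst f f) (𝟙 K) (by rw [h1, Category.id_comp]))
    (pullback.lift (g ≫ pullback.snd f f) (𝟙 K) (by rw [h2, Category.id_comp]))
    (pullback.lift_fst _ _ _) (pullback.lift_snd _ _ _) (pullback.lift_fst _ _ _)
    (pullback.lift_snd _ _ _) _ _ hl
  have hE : IsQC (equalizer (g ≫ pullback.fst f f) (g ≫ pullback.snd f f)) :=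
    isQC_of_iso sq2.isoPullback (hW K K _ _ hK hK)
  exact isQC_of_iso sq1.isoPullback.symm hE

theorem isQSHom_terminal_of_mem (S : Set (Sh J)) (hgen : IsGenerating S)
    (hqc : ∀ K ∈ S, IsQC K) (heq : ClosedUnderEqualizers S) {K : Sh J} (hK : K ∈ S) :
    IsQSHom (terminal.from K) := by
  show IsQCHom (pullback.diagonal (terminal.from K))
  apply isQCHom_of_generators S hgen
  intro L hL g
  obtain ⟨P, e, w, hP, ⟨hl⟩⟩ := heq (g ≫ pullback.fst (terminal.from K) (terminal.from K))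
    (g ≫ pullback.snd (terminal.from K) (terminal.from K)) hL hK
  have hg : (g ≫ pullback.fst (terminal.from K) (terminal.from K)) ≫ terminal.from K =
      (g ≫ pullback.snd (terminal.from K) (terminal.from K)) ≫ terminal.from K :=
    terminal.hom_ext _ _
  have sq := isPullback_diagonal_of_fork (terminal.from K) _ _ hg e w hl
  have hgg : pullback.lift (g ≫ pullback.fst (terminal.from K) (terminal.from K))
      (g ≫ pullback.snd (terminal.from K) (terminal.from K)) hg = g := by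
    apply pullback.hom_ext <;> simp [pullback.lift_fst, pullback.lift_snd]
  rw [hgg] at sq
  exact isQC_of_iso sq.isoPullback.symm (hqc P hP)

/-- In an algebraic topos, every morphism out of a quasi-separated object is quasi-separated. -/
theorem isQSHom_of_isQS_algebraic (S : Set (Sh J)) (hqc : ∀ K ∈ S, IsQC K)
    (hgen : IsGenerating S) (heq : ClosedUnderEqualizers S) {X Y : Sh J} (hX : IsQS X)
    (f : X ⟶ Y) : IsQSHom f := by
  show IsQCHom (pullback.diagonal f)
  apply isQCHom_of_generators S hgen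
  intro K hK g
  apply isQC_pullback_diagonal f (hqc K hK) g (terminal.from X) (terminal.from K)
    (terminal.hom_ext _ _) (terminal.hom_ext _ _)
  exact isQS_of_isQSHom (pullback.fst (terminal.from X) (terminal.from K))
    (isQSHom_pullback_fst _ _ (isQSHom_terminal_of_mem S hgen hqc heq hK)) hX

/-! ### left adjoints -/

theorem je_map_of_adj {D : Type u} [SmallCategory D] {K : GrothendieckTopology D}
    (F : Sh K ⥤ Sh J) (R : Sh J ⥤ Sh K) (adj : F ⊣ R) {X : Sh K} {ι : Type w} {G : ι → Sh K}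
    {π : ∀ i, G i ⟶ X} (h : JE π) : JE (fun i => F.map (π i)) := by
  intro Z a b hab
  apply (adj.homEquiv _ _).injective
  apply h
  intro i
  rw [← adj.homEquiv_naturality_left, ← adj.homEquiv_naturality_left, hab i]

end Groth.Agent.H28.Topos
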