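import Groth.Agent.H28.ToposCoprod
import Mathlib.CategoryTheory.Sites.LocallyBijective
import Mathlib.CategoryTheory.Yoneda
import Mathlib.CategoryTheory.Limits.Yoneda
import Mathlib.CategoryTheory.Limits.Preserves.Yoneda

/-!
# Representable sheaves in the topos `Sheaf J (Type u)` of a small site (helper28)
-/

set_option autoImplicit false

universe w w' u

open CategoryTheory CategoryTheory.Limits Opposite ToposFin

namespace Groth.Agent.H28.Topos

variable {C : Type u} [SmallCategory C] (J : GrothendieckTopology C)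

/-- the universal section of `eps J X` over `X` -/
noncomputable def univ (X : C) : (eps J X).obj.obj (op X) :=
  (toSheafify J (yoneda.obj X)).app (op X) (𝟙 X)

/-- sections over `X` are morphisms from `eps J X` -/
noncomputable def evalEquiv (X : C) (T : Sh J) : (eps J X ⟶ T) ≃ T.obj.obj (op X) :=
  ((sheafificationAdjunction J (Type u)).homEquiv (yoneda.obj X) T).trans yonedaEquiv

theorem evalEquiv_apply (X : C) (T : Sh J) (φ : eps J X ⟶ T) :
    evalEquiv J X T φ = φ.hom.app (op X) (univ J X) := by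
  simp [evalEquiv, univ, yonedaEquiv_apply]
  rfl

theorem eval_injective {X : C} {T : Sh J} (a b : eps J X ⟶ T)
    (h : a.hom.app (op X) (univ J X) = b.hom.app (op X) (univ J X)) : a = b := by
  apply (evalEquiv J X T).injective
  rw [evalEquiv_apply, evalEquiv_apply, h]

theorem exists_hom_of_section {X : C} (T : Sh J) (t : T.obj.obj (op X)) :
    ∃ a : eps J X ⟶ T, a.hom.app (op X) (univ J X) = t := by
  refine ⟨(evalEquiv J X T).symm t, ?_⟩
  rw [← evalEquiv_apply, Equiv.apply_symm_apply]

/-- `eps` on morphisms -/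
noncomputable def epsMap {V U : C} (f : V ⟶ U) : eps J V ⟶ eps J U :=
  (presheafToSheaf J (Type u)).map (yoneda.map f)

theorem toSheafify_eq (U : C) {V : C} (g : V ⟶ U) :
    (toSheafify J (yoneda.obj U)).app (op V) g = (eps J U).obj.map g.op (univ J U) := by
  have h := ConcreteCategory.congr_hom ((toSheafify J (yoneda.obj U)).naturality g.op) (𝟙 U)
  simp only [ConcreteCategory.comp_apply] at h
  have h2 : (yoneda.obj U).map g.op (𝟙 U) = g := by simp
  rw [h2] at h
  exact h

theorem epsMap_univ {V U : C} (f : V ⟶ U) :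
    (epsMap J f).hom.app (op V) (univ J V) = (eps J U).obj.map f.op (univ J U) := by
  have h1 := congr_app (toSheafify_naturality J (yoneda.map f)) (op V)
  have h2 := ConcreteCategory.congr_hom h1 (𝟙 V)
  simp only [NatTrans.comp_app, ConcreteCategory.comp_apply] at h2
  have h3 : (yoneda.map f).app (op V) (𝟙 V) = f := by simp
  rw [h3, toSheafify_eq] at h2
  exact h2.symm

theorem eval_epsMap_comp {U V : C} {Z : Sh J} (a : eps J U ⟶ Z) (f : V ⟶ U) :
    (epsMap J f ≫ a).hom.app (op V) (univ J V) =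
      Z.obj.map f.op (a.hom.app (op U) (univ J U)) := by
  have h1 : (epsMap J f ≫ a).hom.app (op V) (univ J V) =
      a.hom.app (op V) ((epsMap J f).hom.app (op V) (univ J V)) := rfl
  rw [h1, epsMap_univ]
  have h2 := ConcreteCategory.congr_hom (a.hom.naturality f.op) (univ J U)
  dsimp at h2
  exact h2

theorem exists_cover_representable (U : C) {W : C} (y : (eps J U).obj.obj (op W)) :
    ∃ R ∈ J W, ∀ ⦃W' : C⦄ (h : W' ⟶ W), R h → ∃ g : W' ⟶ U,
      (eps J U).obj.map h.op y = (eps J U).obj.map g.op (univ J U) := by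
  refine ⟨Presheaf.imageSieve (toSheafify J (yoneda.obj U)) y,
    Presheaf.imageSieve_mem J (toSheafify J (yoneda.obj U)) (U := op W) y, ?_⟩
  rintro W' h ⟨g, hg⟩
  exact ⟨g, by rw [← toSheafify_eq]; exact hg.symm⟩

theorem exists_cover_eq_of_univ_eq (U : C) {W : C} (g g' : W ⟶ U)
    (h : (eps J U).obj.map g.op (univ J U) = (eps J U).obj.map g'.op (univ J U)) :
    ∃ R ∈ J W, ∀ ⦃W' : C⦄ (k : W' ⟶ W), R k → k ≫ g = k ≫ g' := by
  have hmem := Presheaf.equalizerSieve_mem J (toSheafify J (yoneda.obj U)) (X := op W) g g'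
    (by rw [toSheafify_eq, toSheafify_eq, h])
  refine ⟨_, hmem, ?_⟩
  intro W' k hk
  exact hk

theorem je_epsMap_of_covering {U : C} {κ : Type w} (V : κ → C) (f : ∀ k, V k ⟶ U)
    (h : Sieve.ofArrows V f ∈ J U) : JE (fun k => epsMap J (f k)) := by
  intro Z a b hab
  apply eval_injective
  apply (((isSheaf_iff_isSheaf_of_type _ _).1 Z.2).isSeparated _ h).ext
  rintro W g ⟨W', m, g', ⟨k⟩, rfl⟩
  have h1 := congrArg (fun t => t.hom.app (op (V k)) (univ J (V k))) (hab k)
  simp only [eval_epsMap_comp] at h1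
  rw [op_comp, Functor.map_comp_apply, Functor.map_comp_apply, h1]

theorem covering_of_je_epsMap {U : C} {κ : Type w} (V : κ → C) (f : ∀ k, V k ⟶ U)
    (h : JE (fun k => epsMap J (f k))) : Sieve.ofArrows V f ∈ J U := by
  obtain ⟨R, hR, hx⟩ := jls_of_je h U (univ J U)
  apply J.transitive hR
  intro W h hh
  obtain ⟨k, a, ha⟩ := hx h hh
  obtain ⟨R', hR', hy⟩ := exists_cover_representable J (V k) a
  apply J.transitive hR'
  intro W' h' hh'
  obtain ⟨m, hm⟩ := hy h' hh'
  have key : (eps J U).obj.map (m ≫ f k).op (univ J U) =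
      (eps J U).obj.map (h' ≫ h).op (univ J U) := by
    have e1 := congrArg ((epsMap J (f k)).hom.app (op W')) hm
    have n1 := ConcreteCategory.congr_hom ((epsMap J (f k)).hom.naturality h'.op) a
    have n2 := ConcreteCategory.congr_hom ((epsMap J (f k)).hom.naturality m.op) (univ J (V k))
    dsimp at n1 n2
    rw [n1, n2, ha, epsMap_univ] at e1
    rw [op_comp, op_comp, Functor.map_comp_apply, Functor.map_comp_apply]
    exact e1.symm
  obtain ⟨R'', hR'', hz⟩ := exists_cover_eq_of_univ_eq J U _ _ key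
  apply J.superset_covering _ hR''
  intro W'' h'' hh''
  change (Sieve.ofArrows V f).arrows ((h'' ≫ h') ≫ h)
  rw [Category.assoc, ← hz h'' hh'', ← Category.assoc]
  exact ⟨V k, h'' ≫ m, f k, Presieve.ofArrows.mk k, rfl⟩

/-! ### generators -/

theorem je_sections (X : Sh J) :
    JE (fun p : Σ U : C, X.obj.obj (op U) => (evalEquiv J p.1 X).symm p.2) := by
  apply je_of_jls
  intro U x
  refine ⟨⊤, J.top_mem U, fun V f _ => ⟨⟨V, X.obj.map f.op x⟩, univ J V, ?_⟩⟩
  rw [← evalEquiv_apply, Equiv.apply_symm_apply]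

/-- the set of representable sheaves -/
def epsSet : Set (Sh J) := {K | ∃ U : C, K = eps J U}

theorem isGenerating_epsSet : IsGenerating (epsSet J) := fun X =>
  ⟨Σ U : C, X.obj.obj (op U), fun p => eps J p.1, _, fun p => ⟨p.1, rfl⟩, je_sections J X⟩

/-! ### quasi-compactness of representable sheaves -/

theorem isQC_eps_of_isQCSite {X : C} (h : IsQCSite J X) : IsQC (eps J X) := by
  classical
  rw [isQC_iff_je]
  intro ι F π hπ
  obtain ⟨R, hR, hx⟩ := jls_of_je hπ X (univ J X)
  obtain ⟨n, V, g, hg, hcov⟩ := h R hR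
  choose i a ha using fun k => hx (g k) (hg k)
  refine ⟨Finset.univ.image i, ?_⟩
  intro Z p q hpq
  apply eval_injective
  apply (((isSheaf_iff_isSheaf_of_type _ _).1 Z.2).isSeparated _ hcov).ext
  rintro W f ⟨W', m, g', ⟨k⟩, rfl⟩
  have hk : (i k) ∈ Finset.univ.image i := Finset.mem_image_of_mem _ (Finset.mem_univ _)
  have h1 := hpq ⟨i k, hk⟩
  have h2 : Z.obj.map (g k).op (p.hom.app (op X) (univ J X)) =
      Z.obj.map (g k).op (q.hom.app (op X) (univ J X)) := by
    have n1 := ConcreteCategory.congr_hom (p.hom.naturality (g k).op) (univ J X)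
    have n2 := ConcreteCategory.congr_hom (q.hom.naturality (g k).op) (univ J X)
    dsimp at n1 n2
    rw [← n1, ← n2, ← ha k]
    exact ConcreteCategory.congr_hom
      (congr_app ((sheafToPresheaf J _).congr_map h1) (op (V k))) (a k)
  rw [op_comp, Functor.map_comp_apply, Functor.map_comp_apply, h2]

theorem isQCSite_of_isQC_eps {X : C} (h : IsQC (eps J X)) : IsQCSite J X := by
  intro S hS
  have hcov : Sieve.ofArrows (fun p : Σ V : C, {f : V ⟶ X // S.arrows f} => p.1)
      (fun p => p.2.1) ∈ J X := by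
    apply J.superset_covering _ hS
    intro V f hf
    exact ⟨V, 𝟙 V, f, Presieve.ofArrows.mk (⟨V, f, hf⟩ : Σ V : C, {f : V ⟶ X // S.arrows f}),
      Category.id_comp f⟩
  obtain ⟨s, hs⟩ := h.exists_finset _ (je_epsMap_of_covering J _ _ hcov)
  refine ⟨s.card, fun k => (s.equivFin.symm k).1.1, fun k => (s.equivFin.symm k).1.2.1,
    fun k => (s.equivFin.symm k).1.2.2, ?_⟩
  apply covering_of_je_epsMap
  intro Z a b hab
  apply hs
  intro p
  have h1 := hab (s.equivFin p)
  have h2 : s.equivFin.symm (s.equivFin p) = p := Equiv.symm_apply_apply _ _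
  dsimp only at h1 ⊢
  rw [h2] at h1
  exact h1

/-! ### sites with fibre products all of whose objects are quasi-compact -/

/-- `eps` as a functor -/
noncomputable def epsFunctor : C ⥤ Sh J := yoneda ⋙ presheafToSheaf J (Type u)

instance : PreservesLimitsOfShape WalkingCospan (epsFunctor J) := by
  unfold epsFunctor
  infer_instance

theorem exists_finite_cover_representable (hC : ∀ X, IsQCSite J X) {U X : C}
    (a : eps J U ⟶ eps J X) :
    ∃ (n : ℕ) (W : Fin n → C) (h : ∀ k, W k ⟶ U) (x : ∀ k, W k ⟶ X),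
      JE (fun k => epsMap J (h k)) ∧ ∀ k, epsMap J (h k) ≫ a = epsMap J (x k) := by
  obtain ⟨R, hR, hy⟩ := exists_cover_representable J X (a.hom.app (op U) (univ J U))
  obtain ⟨n, W, h, hh, hcov⟩ := hC U R hR
  choose x hx using fun k => hy (h k) (hh k)
  refine ⟨n, W, h, x, je_epsMap_of_covering J W h hcov, fun k => ?_⟩
  apply eval_injective
  rw [eval_epsMap_comp, hx k, epsMap_univ]

theorem isQC_pullback_epsMap [HasPullbacks C] (hC : ∀ X, IsQCSite J X) {U V X : C} (x : U ⟶ X)
    (y : V ⟶ X) : IsQC (pullback (epsMap J x) (epsMap J y)) :=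
  isQC_of_iso (PreservesPullback.iso (epsFunctor J) x y).symm (isQC_eps_of_isQCSite J (hC _))

theorem isQCHom_epsMap [HasPullbacks C] (hC : ∀ X, IsQCSite J X) {U V : C} (d : U ⟶ V) :
    IsQCHom (epsMap J d) := by
  apply isQCHom_of_generators (epsSet J) (isGenerating_epsSet J)
  rintro K ⟨W, rfl⟩ g
  obtain ⟨n, W', h, x, hje, hfac⟩ := exists_finite_cover_representable J hC g
  refine isQC_of_cover_right (IsPullback.of_hasPullback (epsMap J d) g)
    (fun k => epsMap J (h k)) hje (fun k => ?_)
  refine isQC_pullback_congr rfl (hfac k) ?_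
  exact isQC_pullback_epsMap J hC d (x k)

theorem isQSHom_epsMap [HasPullbacks C] (hC : ∀ X, IsQCSite J X) {U X : C} (x : U ⟶ X) :
    IsQSHom (epsMap J x) := by
  have h1 : pullback.diagonal ((epsFunctor J).map x) =
      (epsFunctor J).map (pullback.diagonal x) ≫ (PreservesPullback.iso (epsFunctor J) x x).hom := by
    apply pullback.hom_ext
    · rw [Category.assoc, PreservesPullback.iso_hom_fst, ← Functor.map_comp,
        pullback.diagonal_fst, pullback.diagonal_fst, CategoryTheory.Functor.map_id]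
    · rw [Category.assoc, PreservesPullback.iso_hom_snd, ← Functor.map_comp,
        pullback.diagonal_snd, pullback.diagonal_snd, CategoryTheory.Functor.map_id]
  show IsQCHom (pullback.diagonal ((epsFunctor J).map x))
  rw [h1]
  exact isQCHom_comp _ _ (isQCHom_epsMap J hC (pullback.diagonal x)) (isQCHom_of_isIso _)

/-- a quasi-compact object over `eps J X` has a finite cover by representables with representable structure maps -/
theorem exists_finite_representable_cover (hC : ∀ X, IsQCSite J X) {A : Sh J} (hA : IsQC A)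
    {X : C} (a : A ⟶ eps J X) :
    ∃ (κ : Type u) (_ : Finite κ) (W : κ → C) (ρ : ∀ k, eps J (W k) ⟶ A) (x : ∀ k, W k ⟶ X),
      JE ρ ∧ ∀ k, ρ k ≫ a = epsMap J (x k) := by
  obtain ⟨s, hs⟩ := hA.exists_finset _ (je_sections J A)
  choose n W h x hje hfac using fun p : s =>
    exists_finite_cover_representable J hC ((evalEquiv J p.1.1 A).symm p.1.2 ≫ a)
  have h2 := je_comp hs (fun p k => epsMap J (h p k)) hje
  refine ⟨Σ p : s, Fin (n p), inferInstance, fun q => W q.1 q.2,
    fun q => epsMap J (h q.1 q.2) ≫ (evalEquiv J q.1.1.1 A).symm q.1.1.2, fun q => x q.1 q.2, h2,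
    fun q => ?_⟩
  rw [Category.assoc]
  exact hfac q.1 q.2

theorem isQS_eps [HasPullbacks C] (hC : ∀ X, IsQCSite J X) (X : C) : IsQS (eps J X) := by
  intro A B a b hA hB
  obtain ⟨κ, _, W, ρ, x, hρ, hfac⟩ := exists_finite_representable_cover J hC hA a
  obtain ⟨κ', _, W', ρ', x', hρ', hfac'⟩ := exists_finite_representable_cover J hC hB b
  refine isQC_pullback_of_covers a b ρ hρ ρ' hρ' (fun k k' => ?_)
  refine isQC_pullback_congr (hfac k) (hfac' k') ?_
  exact isQC_pullback_epsMap J hC (x k) (x' k')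

theorem isCoherent_eps [HasPullbacks C] (hC : ∀ X, IsQCSite J X) (X : C) :
    IsCoherent (eps J X) :=
  ⟨isQC_eps_of_isQCSite J (hC X), isQS_eps J hC X⟩

theorem isQSHom_to_eps [HasPullbacks C] (hC : ∀ X, IsQCSite J X) {X : C} {G : Sh J}
    (hG : IsQS G) (g : G ⟶ eps J X) : IsQSHom g := by
  show IsQCHom (pullback.diagonal g)
  apply isQCHom_of_generators (epsSet J) (isGenerating_epsSet J)
  rintro K ⟨U, rfl⟩ k
  obtain ⟨n, W, h, x, hje, hfac⟩ :=
    exists_finite_cover_representable J hC ((k ≫ pullback.fst g g) ≫ g)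
  refine isQC_of_cover_right (IsPullback.of_hasPullback (pullback.diagonal g) k)
    (fun j => epsMap J (h j)) hje (fun j => ?_)
  apply isQC_pullback_diagonal g (isQC_eps_of_isQCSite J (hC _)) (epsMap J (h j) ≫ k) g
    (epsMap J (x j))
  · rw [← hfac j]
    simp only [Category.assoc]
  · rw [← hfac j]
    simp only [Category.assoc]
    rw [pullback.condition]
  · exact isQS_of_isQSHom (pullback.fst g (epsMap J (x j)))
      (isQSHom_pullback_fst _ _ (isQSHom_epsMap J hC (x j))) hG

theorem isQS_pullback_over_eps [HasPullbacks C] (hC : ∀ X, IsQCSite J X) {X : C} {G H : Sh J}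
    (hG : IsQS G) (hH : IsQS H) (g : G ⟶ eps J X) (h : H ⟶ eps J X) : IsQS (pullback g h) :=
  isQS_of_isQSHom (pullback.fst g h) (isQSHom_pullback_fst g h (isQSHom_to_eps J hC hH h)) hG

end Groth.Agent.H28.Topos
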