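import Groth.Agent.H28.ToposSite
import Mathlib.CategoryTheory.Sites.Pullback

/-!
# Inverse image of a representable sheaf along a continuous functor (helper28)

* `nonempty_iso_eps_of_bijective` : an object representing "sections over `Y`" is isomorphic to `eps K Y`;
* `sheafPullback_eps_iso` : `f^* (eps J X) ≅ eps K (G X)`;
* `hasQCGenerators_of_isQCSite`.
-/

set_option autoImplicit false

universe u

open CategoryTheory CategoryTheory.Limits Opposite ToposFin

namespace Groth.Agent.H28.Topos

variable {C D : Type u} [SmallCategory C] [SmallCategory D]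

theorem nonempty_iso_eps_of_bijective (K : GrothendieckTopology D) (Y : D) (E : Sh K)
    (e : E.obj.obj (op Y))
    (hbij : ∀ T : Sh K, Function.Bijective (fun φ : E ⟶ T => φ.hom.app (op Y) e)) :
    Nonempty (E ≅ eps K Y) := by
  obtain ⟨α, hα⟩ := exists_hom_of_section K E e
  obtain ⟨β, hβ⟩ := (hbij (eps K Y)).2 (univ K Y)
  have hβ' : β.hom.app (op Y) e = univ K Y := hβ
  refine ⟨⟨β, α, ?_, ?_⟩⟩
  · apply (hbij E).1
    show (β ≫ α).hom.app (op Y) e = (𝟙 E : E ⟶ E).hom.app (op Y) e
    have h1 : (β ≫ α).hom.app (op Y) e = α.hom.app (op Y) (β.hom.app (op Y) e) := rfl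
    rw [h1, hβ', hα]
    rfl
  · apply eval_injective
    have h1 : (α ≫ β).hom.app (op Y) (univ K Y) =
        β.hom.app (op Y) (α.hom.app (op Y) (univ K Y)) := rfl
    rw [h1, hα, hβ']
    rfl

theorem sheafPullback_eps_iso (J : GrothendieckTopology C) (K : GrothendieckTopology D)
    (G : C ⥤ D) [Functor.IsContinuous G J K] (X : C) :
    Nonempty ((G.sheafPullback (Type u) J K).obj (eps J X) ≅ eps K (G.obj X)) := by
  let adj := G.sheafAdjunctionContinuous (Type u) J K
  let e : ((G.sheafPullback (Type u) J K).obj (eps J X)).obj.obj (op (G.obj X)) :=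
    (adj.unit.app (eps J X)).hom.app (op X) (univ J X)
  apply nonempty_iso_eps_of_bijective K (G.obj X) _ e
  intro T
  have hfun : (fun φ : (G.sheafPullback (Type u) J K).obj (eps J X) ⟶ T =>
      φ.hom.app (op (G.obj X)) e) =
      fun φ => evalEquiv J X _ (adj.homEquiv (eps J X) T φ) := by
    funext φ
    rw [evalEquiv_apply, Adjunction.homEquiv_unit]
    rfl
  rw [hfun]
  exact (evalEquiv J X _).bijective.comp (adj.homEquiv (eps J X) T).bijective

theorem hasQCGenerators_of_isQCSite (J : GrothendieckTopology C) (hC : ∀ X, IsQCSite J X) :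
    HasQCGenerators J := fun X =>
  ⟨Σ U : C, X.obj.obj (op U), fun p => eps J p.1, fun p => (evalEquiv J p.1 X).symm p.2,
    fun p => isQC_eps_of_isQCSite J (hC p.1), (epi_desc_iff_je _).mpr (je_sections J X)⟩

theorem isCoherent_of_iso {J : GrothendieckTopology C} {X Y : Sh J} (e : X ≅ Y)
    (h : IsCoherent Y) : IsCoherent X :=
  ⟨isQC_of_iso e h.1, isQS_of_iso e h.2⟩

end Groth.Agent.H28.Topos
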