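import Mathlib
import Groth.Agent.H31.Lpull
import Groth.Agent.H40.LTensorDCoh
import Groth.Agent.H40.TorAmp
import Groth.Agent.H28.PerfAmp2
import Groth.Agent.H28.StalkFlatAmp2
import Groth.Agent.H28.FlatDescent
import Groth.Agent.H28.TildeAmp
import Groth.Agent.H28.LpullLoc3
import Groth.Agent.H35.LBC
import Groth.Agent.H8.QCohPush
import Groth.Agent.S6514

/-!
# Tor amplitude can be tested on quasi-coherent modules (helper28)

* `hasLTensorMod G`: the derived tensor product `- ⊗^L G` exists for every `O_X`-module `G`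
  (K-flat resolutions), so hypotheses/conclusions carrying the binder `[DCoh.HasLTensorMod G]`
  can always be instantiated.
* `pullTfCIso`: `f^*(P ⊗ G) ≅ f^*P ⊗ f^*G` for complexes.
* `TfCCongr`: `P ⊗ G ≅ P ⊗ G'` for `G ≅ G'`.
* `hasFlatAmplitudeIn_of_qcoh_vanishing`: on a quasi-separated scheme, vanishing of
  `H^i(P ⊗ G)` (`P` a K-flat representative) for all quasi-coherent `G` and `i ∉ [a,b]` gives flat
  amplitude in `[a,b]`.
-/

set_option autoImplicit false
set_option maxHeartbeats 400000
set_option linter.style.haveILetI false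
universe u
open CategoryTheory CategoryTheory.Limits AlgebraicGeometry HomologicalComplex
attribute [local instance] HasDerivedCategory.standard

namespace Groth.Agent.H28.TorAmpQCoh

open Groth.Agent.H28.PerfAmp Groth.Agent.H31.PullTensor Groth.Agent.H31.Mate
  Groth.Agent.H28.StalkTor

variable {X S : Scheme.{u}}

/-- The derived tensor product `- ⊗^L G` exists for every `O_X`-module `G`. -/
theorem hasLTensorMod (G : X.Modules) : DCoh.HasLTensorMod G := by
  refine Groth.Agent.H31.Stalk.hasLeftDerivedFunctor_site (O := X.sheaf) (DCoh.tensorModKh G) ?_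
  intro P' Q' α hP' hQ' hα
  show IsIso (DerivedCategory.Qh.map
    (((DCoh.tensorRightMod G).mapHomotopyCategory (ComplexShape.up ℤ)).map
      ((HomotopyCategory.quotient _ _).map α)))
  rw [DerivedCategory.isIso_Qh_map_iff]
  change HomotopyCategory.quasiIso _ _ ((HomotopyCategory.quotient _ _).map
    (((DCoh.tensorRightMod G).mapHomologicalComplex _).map α))
  rw [HomotopyCategory.quotient_map_mem_quasiIso_iff, HomologicalComplex.mem_quasiIso_iff]
  exact Groth.Agent.H40.LTensorDCoh.quasiIso_map_tensorRight (O := X.sheaf) G α hα hP' hQ'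

/-- `f^*(P ⊗ G) ≅ f^*P ⊗ f^*G` for complexes. -/
noncomputable def pullTfCIso (f : S ⟶ X) (G : X.Modules) (P : CochainComplex X.Modules ℤ) :
    ((Scheme.Modules.pullback f).mapHomologicalComplex (ComplexShape.up ℤ)).obj ((TfC G).obj P) ≅
      (TfC ((Scheme.Modules.pullback f).obj G)).obj
        (((Scheme.Modules.pullback f).mapHomologicalComplex (ComplexShape.up ℤ)).obj P) :=
  HomologicalComplex.Hom.isoOfComponents (fun i => pullTensorIso f (P.X i) G)
    (fun i j _ => by
      have h := pullμ_natural f (P.d i j) (𝟙 G)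
      have h1 : bimap (ModSite.tensorBi (Groth.Agent.H31.Stalk.shX X)) (P.d i j) (𝟙 G) =
          ((ModSite.tensorBi (Groth.Agent.H31.Stalk.shX X)).map (P.d i j)).app G := by
        unfold Groth.Agent.H31.Mate.bimap
        erw [CategoryTheory.Functor.map_id]
        exact Category.comp_id _
      have h2 : bimap (ModSite.tensorBi (Groth.Agent.H31.Stalk.shX S))
          ((Scheme.Modules.pullback f).map (P.d i j)) ((Scheme.Modules.pullback f).map (𝟙 G)) =
          ((ModSite.tensorBi (Groth.Agent.H31.Stalk.shX S)).map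
            ((Scheme.Modules.pullback f).map (P.d i j))).app _ := by
        unfold Groth.Agent.H31.Mate.bimap
        erw [CategoryTheory.Functor.map_id, CategoryTheory.Functor.map_id]
        exact Category.comp_id _
      rw [h1, h2] at h
      exact h.symm)

/-- `P ⊗ G ≅ P ⊗ G'` for `G ≅ G'`. -/
noncomputable def TfCCongr {Z : Scheme.{u}} {G G' : Z.Modules} (e : G ≅ G')
    (P : CochainComplex Z.Modules ℤ) : (TfC G).obj P ≅ (TfC G').obj P :=
  HomologicalComplex.Hom.isoOfComponents
    (fun i => ((ModSite.tensorBi (Groth.Agent.H31.Stalk.shX Z)).obj (P.X i)).mapIso e)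
    (fun i j _ =>
      ((ModSite.tensorBi (Groth.Agent.H31.Stalk.shX Z)).map (P.d i j)).naturality e.hom)

section Affine

open Groth.Agent.H31.Stalk Groth.Agent.H90.SPerf

variable (R : CommRingCat.{u})

/-- Over the localization `O_z` of `R`, every module is the base change of its restriction of
scalars. -/
theorem nonempty_ext_restrict_iso (z : Spec R)
    (N' : ModuleCat.{u} ((Spec R).presheaf.stalk z)) :
    Nonempty ((ModuleCat.extendScalars.{u,u,u} (ψx R z)).obj
      ((ModuleCat.restrictScalars.{u} (ψx R z)).obj N') ≅ N') := by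
  letI : Algebra R ((Spec R).presheaf.stalk z) := StructureSheaf.stalkAlgebra R z
  haveI : z.asIdeal.IsPrime := z.isPrime
  haveI : IsLocalization.AtPrime ((Spec R).presheaf.stalk z) z.asIdeal :=
    StructureSheaf.IsLocalization.to_stalk R z
  letI : Module R N' := Module.compHom N' (algebraMap R ((Spec R).presheaf.stalk z))
  haveI : IsScalarTower R ((Spec R).presheaf.stalk z) N' :=
    IsScalarTower.of_algebraMap_smul (fun r m => rfl)
  have hloc : IsLocalizedModule z.asIdeal.primeCompl (LinearMap.id : N' →ₗ[R] N') :=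
    isLocalizedModule_id _ _ ((Spec R).presheaf.stalk z)
  have hbc := IsLocalizedModule.isBaseChange z.asIdeal.primeCompl ((Spec R).presheaf.stalk z)
    (LinearMap.id : N' →ₗ[R] N')
  exact ⟨(hbc.equiv).toModuleIso⟩

/-- Affine, stalkwise step: Tor-vanishing against all `N~` gives tor amplitude of the stalks. -/
theorem hasTorAmplitudeIn_stalk_of_tilde_vanishing (P' : CochainComplex (Spec R).Modules ℤ)
    (hP' : DCoh.IsKFlat P') (a b : ℤ)
    (h : ∀ (N₀ : ModuleCat.{u} R) (i : ℤ), (i < a ∨ b < i) →
      IsZero (((TfC ((tilde.functor R).obj N₀)).obj P').homology i)) (z : Spec R) :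
    DRing.HasTorAmplitudeIn ((Spec R).presheaf.stalk z) a b
      (DRing.toD (((DerSch.stalkFunctor (Spec R) z).mapHomologicalComplex
        (ComplexShape.up ℤ)).obj P')) := by
  let Sx := DerSch.stalkFunctor (Spec R) z
  let Pz := (Sx.mapHomologicalComplex (ComplexShape.up ℤ)).obj P'
  have hPz : DRing.IsKFlat ((Spec R).presheaf.stalk z) Pz := (isKFlat_iff_stalk_sch P').1 hP' z
  refine Groth.Agent.H35.LBC.hasTorAmplitudeIn_of_torVanish Pz hPz (Iso.refl _) ?_
  intro N' i hi
  obtain ⟨e⟩ := nonempty_ext_restrict_iso R z N'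
  let N₀ := (ModuleCat.restrictScalars.{u} (ψx R z)).obj N'
  have h0 := h N₀ i hi
  have h1 : IsZero (Sx.obj (((TfC ((tilde.functor R).obj N₀)).obj P').homology i)) :=
    Functor.map_isZero _ h0
  have e1 : Sx.obj (((TfC ((tilde.functor R).obj N₀)).obj P').homology i) ≅
      ((Sx.mapHomologicalComplex (ComplexShape.up ℤ)).obj
        ((TfC ((tilde.functor R).obj N₀)).obj P')).homology i :=
    ((homologyMapHCIso Sx i).app _).symm
  have e2 : ((Sx.mapHomologicalComplex (ComplexShape.up ℤ)).obj
        ((TfC ((tilde.functor R).obj N₀)).obj P')).homology i ≅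
      ((TR (Sx.obj ((tilde.functor R).obj N₀))).obj Pz).homology i :=
    (HomologicalComplex.homologyFunctor _ _ i).mapIso (stalkTfCIso z _ P')
  have h2 : IsZero (((TR (Sx.obj ((tilde.functor R).obj N₀))).obj Pz).homology i) :=
    h1.of_iso (e1 ≪≫ e2).symm
  let eN : Sx.obj ((tilde.functor R).obj N₀) ≅ N' :=
    (Groth.Agent.H28.TildeAmp.stalkFunctorTildeIso R z).app N₀ ≪≫ e
  have h3 : (CohIII.tensorObj Pz (Sx.obj ((tilde.functor R).obj N₀))).ExactAt i := by
    rw [HomologicalComplex.exactAt_iff_isZero_homology]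
    exact h2
  exact (Groth.Agent.H35.LBC.exactAt_tensor_iff_of_module_iso Pz eN i).1 h3

end Affine

/-- Pointwise: stalkwise tor amplitude of `f^*P` at `x` gives that of `P` at `f x` (`f` flat). -/
theorem hasTorAmplitudeIn_stalk_of_pullback (f : S ⟶ X) [Flat f]
    (P : CochainComplex X.Modules ℤ) (a b : ℤ) (x : S)
    (h : DRing.HasTorAmplitudeIn (S.presheaf.stalk x) a b
      (DRing.toD (((DerSch.stalkFunctor S x).mapHomologicalComplex (ComplexShape.up ℤ)).obj
        (((Scheme.Modules.pullback f).mapHomologicalComplex (ComplexShape.up ℤ)).obj P)))) :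
    DRing.HasTorAmplitudeIn (X.presheaf.stalk (f.base x)) a b
      (DRing.toD (((DerSch.stalkFunctor X (f.base x)).mapHomologicalComplex
        (ComplexShape.up ℤ)).obj P)) := by
  letI : Algebra (X.presheaf.stalk (f.base x)) (S.presheaf.stalk x) :=
    (f.stalkMap x).hom.toAlgebra
  haveI : Module.Flat (X.presheaf.stalk (f.base x)) (S.presheaf.stalk x) :=
    AlgebraicGeometry.Flat.stalkMap f x
  haveI : IsLocalHom (algebraMap (X.presheaf.stalk (f.base x)) (S.presheaf.stalk x)) :=
    inferInstanceAs (IsLocalHom (f.stalkMap x).hom)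
  haveI : Module.FaithfullyFlat (X.presheaf.stalk (f.base x)) (S.presheaf.stalk x) :=
    Module.FaithfullyFlat.of_flat_of_isLocalHom
  refine Groth.Agent.H35.TorDescent.hasTorAmplitudeIn_of_faithfullyFlat
    (R' := S.presheaf.stalk x) _ a b ?_
  obtain ⟨Φ, hv, hfl, ⟨e⟩⟩ := h
  let ι : ((DerSch.stalkFunctor S x).mapHomologicalComplex (ComplexShape.up ℤ)).obj
        (((Scheme.Modules.pullback f).mapHomologicalComplex (ComplexShape.up ℤ)).obj P) ≅
      ((ModuleCat.extendScalars.{u, u, u} (f.stalkMap x).hom).mapHomologicalComplex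
        (ComplexShape.up ℤ)).obj (((DerSch.stalkFunctor X (f.base x)).mapHomologicalComplex
          (ComplexShape.up ℤ)).obj P) :=
    HomologicalComplex.Hom.isoOfComponents
      (fun i => (stalkFunctorPullbackIso f x).app (P.X i))
      (fun i j _ => ((stalkFunctorPullbackIso f x).hom.naturality (P.d i j)).symm)
  exact ⟨Φ, hv, hfl, ⟨e ≪≫ DerivedCategory.Q.mapIso ι⟩⟩

open Groth.Agent.H90.SPerf in
/-- On a quasi-separated scheme, Tor-vanishing of a K-flat complex against all quasi-coherent
modules gives flat amplitude. -/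
theorem hasFlatAmplitudeIn_of_qcoh_vanishing [QuasiSeparatedSpace X]
    (P : CochainComplex X.Modules ℤ) (hP : DCoh.IsKFlat P) (a b : ℤ)
    (h : ∀ G : X.Modules, Coh.IsQCoh G → ∀ i : ℤ, (i < a ∨ b < i) →
      IsZero (((TfC G).obj P).homology i)) :
    DCoh.HasFlatAmplitudeIn a b (DCoh.toD X P) := by
  refine hasFlatAmplitudeIn_of_stalk P a b (fun x => ?_)
  obtain ⟨U, hU, hxU, -⟩ := exists_isAffineOpen_mem_and_subset (x := x) (U := ⊤) trivial
  obtain ⟨z, rfl⟩ : ∃ z, hU.fromSpec z = x := by
    have : x ∈ Set.range hU.fromSpec := by rw [hU.range_fromSpec]; exact hxU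
    exact this
  let j := hU.fromSpec
  haveI : Flat j := inferInstance
  haveI := Groth.Agent.S6514.preservesFiniteColimits_pullback j
  haveI := Groth.Agent.S6514.preservesFiniteLimits_pullback j
  let T := Scheme.Modules.pullback j
  apply hasTorAmplitudeIn_stalk_of_pullback j P a b z
  apply hasTorAmplitudeIn_stalk_of_tilde_vanishing Γ(X, U) _
    (Groth.Agent.H31.Stalk.isKFlat_pullback j P hP) a b _ z
  intro N₀ i hi
  let M := (tilde.functor Γ(X, U)).obj N₀
  let G := (Scheme.Modules.pushforward j).obj M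
  haveI : M.IsQuasicoherent :=
    inferInstanceAs (((tilde.functor Γ(X, U)).obj N₀).IsQuasicoherent)
  have hG : Coh.IsQCoh G := Groth.Agent.H8.isQuasicoherent_pushforward j M
  have h0 := h G hG i hi
  have h1 : IsZero (T.obj (((TfC G).obj P).homology i)) := Functor.map_isZero _ h0
  have e1 : T.obj (((TfC G).obj P).homology i) ≅
      ((T.mapHomologicalComplex (ComplexShape.up ℤ)).obj ((TfC G).obj P)).homology i :=
    ((homologyMapHCIso T i).app _).symm
  have e2 : ((T.mapHomologicalComplex (ComplexShape.up ℤ)).obj ((TfC G).obj P)).homology i ≅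
      ((TfC (T.obj G)).obj ((T.mapHomologicalComplex (ComplexShape.up ℤ)).obj P)).homology i :=
    (HomologicalComplex.homologyFunctor _ _ i).mapIso (pullTfCIso j G P)
  let eG : T.obj G ≅ M :=
    (Scheme.Modules.restrictFunctorIsoPullback j).symm.app G ≪≫
      asIso ((Scheme.Modules.restrictAdjunction j).counit.app M)
  have e3 : ((TfC (T.obj G)).obj ((T.mapHomologicalComplex (ComplexShape.up ℤ)).obj P)).homology i ≅
      ((TfC M).obj ((T.mapHomologicalComplex (ComplexShape.up ℤ)).obj P)).homology i :=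
    (HomologicalComplex.homologyFunctor _ _ i).mapIso (TfCCongr eG _)
  exact h1.of_iso (e1 ≪≫ e2 ≪≫ e3).symm

end Groth.Agent.H28.TorAmpQCoh
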